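import Mathlib

universe u

open AlgebraicGeometry CategoryTheory Opposite TopologicalSpace Limits

namespace H9PO

namespace Joint

variable {X Y P S : Scheme.{u}} (a : X ⟶ P) (b : Y ⟶ P) (r : P ⟶ S)
  (hsurj : ∀ w : P, (∃ x, a x = w) ∨ (∃ y, b y = w))

/-- the map `X ×_S X ⟶ P ×_S P` -/
noncomputable def sq : pullback (a ≫ r) (a ≫ r) ⟶ pullback r r :=
  pullback.map (a ≫ r) (a ≫ r) r r a a (𝟙 S) ((Category.comp_id _).trans rfl)
    ((Category.comp_id _).trans rfl)

lemma diagonal_sq : pullback.diagonal (a ≫ r) ≫ sq a r = a ≫ pullback.diagonal r := by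
  unfold sq
  apply pullback.hom_ext
  · rw [Category.assoc, Category.assoc, pullback.lift_fst, pullback.diagonal_fst,
      pullback.diagonal_fst_assoc, Category.comp_id]
  · rw [Category.assoc, Category.assoc, pullback.lift_snd, pullback.diagonal_snd,
      pullback.diagonal_snd_assoc, Category.comp_id]

instance [UniversallyClosed a] : UniversallyClosed (sq a r) :=
  MorphismProperty.pullbackMap (P := @UniversallyClosed) ‹_› ‹_› rfl rfl

instance [QuasiCompact a] : QuasiCompact (sq a r) :=
  MorphismProperty.pullbackMap (P := @QuasiCompact) ‹_› ‹_› rfl rfl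

include hsurj in
lemma range_diagonal :
    Set.range (pullback.diagonal r) =
      sq a r '' Set.range (pullback.diagonal (a ≫ r)) ∪
        sq b r '' Set.range (pullback.diagonal (b ≫ r)) := by
  ext z
  constructor
  · rintro ⟨w, rfl⟩
    rcases hsurj w with ⟨x, rfl⟩ | ⟨y, rfl⟩
    · left
      refine ⟨pullback.diagonal (a ≫ r) x, ⟨x, rfl⟩, ?_⟩
      exact congr($(diagonal_sq a r) x)
    · right
      refine ⟨pullback.diagonal (b ≫ r) y, ⟨y, rfl⟩, ?_⟩
      exact congr($(diagonal_sq b r) y)
  · rintro (⟨_, ⟨x, rfl⟩, rfl⟩ | ⟨_, ⟨y, rfl⟩, rfl⟩)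
    · exact ⟨a x, (congr($(diagonal_sq a r) x)).symm⟩
    · exact ⟨b y, (congr($(diagonal_sq b r) y)).symm⟩

include hsurj in
/-- separatedness descends along a jointly surjective pair of universally closed maps -/
theorem isSeparated [UniversallyClosed a] [UniversallyClosed b] [IsSeparated (a ≫ r)]
    [IsSeparated (b ≫ r)] : IsSeparated r := by
  refine ⟨IsClosedImmersion.of_isPreimmersion _ ?_⟩
  rw [range_diagonal a b r hsurj]
  apply IsClosed.union
  · exact (sq a r).isClosedMap _ (pullback.diagonal (a ≫ r)).isClosedEmbedding.isClosed_range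
  · exact (sq b r).isClosedMap _ (pullback.diagonal (b ≫ r)).isClosedEmbedding.isClosed_range

include hsurj in
/-- quasi-compactness descends along a jointly surjective pair -/
theorem quasiCompact [QuasiCompact (a ≫ r)] [QuasiCompact (b ≫ r)] : QuasiCompact r := by
  refine ⟨fun U hU hUc => ?_⟩
  have h1 : r ⁻¹' U = a '' ((a ≫ r) ⁻¹' U) ∪ b '' ((b ≫ r) ⁻¹' U) := by
    ext w
    constructor
    · intro hw
      rcases hsurj w with ⟨x, rfl⟩ | ⟨y, rfl⟩
      · exact Or.inl ⟨x, hw, rfl⟩
      · exact Or.inr ⟨y, hw, rfl⟩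
    · rintro (⟨x, hx, rfl⟩ | ⟨y, hy, rfl⟩)
      · exact hx
      · exact hy
  rw [h1]
  apply IsCompact.union
  · exact (QuasiCompact.isCompact_preimage (f := a ≫ r) U hU hUc).image a.continuous
  · exact (QuasiCompact.isCompact_preimage (f := b ≫ r) U hU hUc).image b.continuous

include hsurj in
/-- universal closedness descends along a jointly surjective pair -/
theorem universallyClosed [UniversallyClosed (a ≫ r)] [UniversallyClosed (b ≫ r)] :
    UniversallyClosed r := by
  constructor
  intro P' S' g' g r' Hpb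
  -- base changes of `a` and `b`
  have Ha := UniversallyClosed.universally_isClosedMap _ _ _
    ((IsPullback.of_hasPullback g' a).paste_horiz Hpb)
  have Hb := UniversallyClosed.universally_isClosedMap _ _ _
    ((IsPullback.of_hasPullback g' b).paste_horiz Hpb)
  have hcov : ∀ w' : P', (∃ x', pullback.fst g' a x' = w') ∨ (∃ y', pullback.fst g' b y' = w') := by
    intro w'
    rcases hsurj (g' w') with ⟨x, hx⟩ | ⟨y, hy⟩
    · left
      obtain ⟨x', hx1, -⟩ := Scheme.Pullback.exists_preimage_pullback w' x hx.symm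
      exact ⟨x', hx1⟩
    · right
      obtain ⟨y', hy1, -⟩ := Scheme.Pullback.exists_preimage_pullback w' y hy.symm
      exact ⟨y', hy1⟩
  intro C hC
  have h1 : r' '' C = (pullback.fst g' a ≫ r') '' (pullback.fst g' a ⁻¹' C) ∪
      (pullback.fst g' b ≫ r') '' (pullback.fst g' b ⁻¹' C) := by
    ext s
    constructor
    · rintro ⟨w', hw', rfl⟩
      rcases hcov w' with ⟨x', rfl⟩ | ⟨y', rfl⟩
      · exact Or.inl ⟨x', hw', rfl⟩
      · exact Or.inr ⟨y', hw', rfl⟩
    · rintro (⟨x', hx', rfl⟩ | ⟨y', hy', rfl⟩)
      · exact ⟨_, hx', rfl⟩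
      · exact ⟨_, hy', rfl⟩
  rw [h1]
  apply IsClosed.union
  · exact Ha _ (hC.preimage (pullback.fst g' a).continuous)
  · exact Hb _ (hC.preimage (pullback.fst g' b).continuous)

include hsurj in
/-- quasi-separatedness descends along a jointly surjective pair of quasi-compact maps -/
theorem quasiSeparated [QuasiCompact a] [QuasiCompact b] [QuasiSeparated (a ≫ r)]
    [QuasiSeparated (b ≫ r)] : QuasiSeparated r := by
  refine ⟨⟨fun U hU hUc => ?_⟩⟩
  have h1 : pullback.diagonal r ⁻¹' U =
      a '' (pullback.diagonal (a ≫ r) ⁻¹' (sq a r ⁻¹' U)) ∪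
        b '' (pullback.diagonal (b ≫ r) ⁻¹' (sq b r ⁻¹' U)) := by
    ext w
    constructor
    · intro hw
      rcases hsurj w with ⟨x, rfl⟩ | ⟨y, rfl⟩
      · left
        refine ⟨x, ?_, rfl⟩
        change sq a r (pullback.diagonal (a ≫ r) x) ∈ U
        have := congr($(diagonal_sq a r) x)
        rw [show sq a r (pullback.diagonal (a ≫ r) x) = pullback.diagonal r (a x) from this]
        exact hw
      · right
        refine ⟨y, ?_, rfl⟩
        change sq b r (pullback.diagonal (b ≫ r) y) ∈ U
        have := congr($(diagonal_sq b r) y)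
        rw [show sq b r (pullback.diagonal (b ≫ r) y) = pullback.diagonal r (b y) from this]
        exact hw
    · rintro (⟨x, hx, rfl⟩ | ⟨y, hy, rfl⟩)
      · change pullback.diagonal r (a x) ∈ U
        have := congr($(diagonal_sq a r) x)
        rw [← show sq a r (pullback.diagonal (a ≫ r) x) = pullback.diagonal r (a x) from this]
        exact hx
      · change pullback.diagonal r (b y) ∈ U
        have := congr($(diagonal_sq b r) y)
        rw [← show sq b r (pullback.diagonal (b ≫ r) y) = pullback.diagonal r (b y) from this]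
        exact hy
  rw [h1]
  apply IsCompact.union
  · have h2 := QuasiCompact.isCompact_preimage (f := sq a r) U hU hUc
    have h3 := QuasiCompact.isCompact_preimage (f := pullback.diagonal (a ≫ r)) _
      (hU.preimage (sq a r).continuous) h2
    exact h3.image a.continuous
  · have h2 := QuasiCompact.isCompact_preimage (f := sq b r) U hU hUc
    have h3 := QuasiCompact.isCompact_preimage (f := pullback.diagonal (b ≫ r)) _
      (hU.preimage (sq b r).continuous) h2
    exact h3.image b.continuous

end Joint

end H9PO
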