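import Mathlib
import Groth.Agent.Lib.Helper9.Ferrand.Alg

/-!
# Algebra for gluing pushouts of schemes: localization of Milnor squares, point-set lemmas.
-/

universe u

namespace H9PO

open H9Ferrand

/-- `φ` exhibits the target as the localization of the source away from `r` (unbundled form). -/
structure IsLocAway {R S : Type*} [CommRing R] [CommRing S] (φ : R →+* S) (r : R) : Prop where
  unit : IsUnit (φ r)
  surj : ∀ s : S, ∃ (n : ℕ) (x : R), s * φ r ^ n = φ x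
  ker : ∀ x : R, φ x = 0 → ∃ n : ℕ, r ^ n * x = 0

namespace IsLocAway

variable {R S : Type*} [CommRing R] [CommRing S] {φ : R →+* S} {r : R}

lemma isLocalization (h : IsLocAway φ r) :
    @IsLocalization.Away R _ r S _ φ.toAlgebra := by
  letI := φ.toAlgebra
  refine IsLocalization.Away.mk r h.unit h.surj ?_
  intro x y hxy
  have hxy' : φ (x - y) = 0 := by
    rw [map_sub, sub_eq_zero]; exact hxy
  obtain ⟨n, hn⟩ := h.ker _ hxy'
  refine ⟨n, ?_⟩
  rw [← sub_eq_zero, ← mul_sub, hn]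

lemma of_isLocalization (r : R) [Algebra R S] [IsLocalization.Away r S] :
    IsLocAway (algebraMap R S) r where
  unit := IsLocalization.Away.algebraMap_isUnit r
  surj s := by
    obtain ⟨n, a, ha⟩ := IsLocalization.Away.surj r s
    exact ⟨n, a, ha⟩
  ker x hx := by
    have : algebraMap R S x = algebraMap R S 0 := by rw [hx, map_zero]
    obtain ⟨⟨_, n, rfl⟩, hc⟩ := (IsLocalization.eq_iff_exists (Submonoid.powers r) S).1 this
    exact ⟨n, by simpa using hc⟩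

end IsLocAway

namespace MSqLoc

variable {R B A' A R₁ B₁ A'₁ A₁ : Type u} [CommRing R] [CommRing B] [CommRing A'] [CommRing A]
  [CommRing R₁] [CommRing B₁] [CommRing A'₁] [CommRing A₁]

/-- localization of a Milnor square, abstract form -/
theorem isLocAway (M : MSq R B A' A) (M₁ : MSq R₁ B₁ A'₁ A₁)
    (φR : R →+* R₁) (φB : B →+* B₁) (φA' : A' →+* A'₁) (φA : A →+* A₁)
    (hf : M₁.f.comp φR = φB.comp M.f) (hg : M₁.g.comp φR = φA'.comp M.g)
    (hq : M₁.q.comp φB = φA.comp M.q) (hp : M₁.p.comp φA' = φA.comp M.p)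
    (r : R) (hB : IsLocAway φB (M.f r)) (hA' : IsLocAway φA' (M.g r))
    (hA : IsLocAway φA (M.q (M.f r))) : IsLocAway φR r := by
  have hf' : ∀ x, M₁.f (φR x) = φB (M.f x) := fun x => congrArg (fun ψ : R →+* B₁ => ψ x) hf
  have hg' : ∀ x, M₁.g (φR x) = φA' (M.g x) := fun x => congrArg (fun ψ : R →+* A'₁ => ψ x) hg
  have hq' : ∀ x, M₁.q (φB x) = φA (M.q x) := fun x => congrArg (fun ψ : B →+* A₁ => ψ x) hq
  have hp' : ∀ x, M₁.p (φA' x) = φA (M.p x) := fun x => congrArg (fun ψ : A' →+* A₁ => ψ x) hp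
  refine ⟨?_, ?_, ?_⟩
  · -- unit
    obtain ⟨β, hβ⟩ := hB.unit
    obtain ⟨α, hα⟩ := hA'.unit
    have hcomp : M₁.q (↑β⁻¹ : B₁) = M₁.p (↑α⁻¹ : A'₁) := by
      have h1 : M₁.q (↑β⁻¹ : B₁) * φA (M.q (M.f r)) = 1 := by
        rw [← hq', ← map_mul, ← hβ, Units.inv_mul, map_one]
      have h2 : M₁.p (↑α⁻¹ : A'₁) * φA (M.q (M.f r)) = 1 := by
        rw [M.comm_apply, ← hp', ← map_mul, ← hα, Units.inv_mul, map_one]
      have hu : IsUnit (φA (M.q (M.f r))) := hA.unit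
      exact hu.mul_left_injective (by simpa using h1.trans h2.symm)
    obtain ⟨y, ⟨hy1, hy2⟩, -⟩ := M₁.pb _ _ hcomp
    refine IsUnit.of_mul_eq_one y ?_
    apply M₁.ext_elem
    · rw [map_mul, hy1, hf', ← hβ, map_one, Units.mul_inv]
    · rw [map_mul, hy2, hg', ← hα, map_one, Units.mul_inv]
  · -- surjectivity
    intro s
    obtain ⟨n, b, hb⟩ := hB.surj (M₁.f s)
    obtain ⟨m, a', ha'⟩ := hA'.surj (M₁.g s)
    -- common exponent
    have hb' : M₁.f s * φB (M.f r) ^ (n + m) = φB (b * M.f r ^ m) := by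
      rw [pow_add, ← mul_assoc, hb, map_mul, map_pow]
    have ha'' : M₁.g s * φA' (M.g r) ^ (n + m) = φA' (a' * M.g r ^ n) := by
      rw [pow_add, mul_comm (φA' (M.g r) ^ n), ← mul_assoc, ha', map_mul, map_pow]
    have hdiff : φA (M.q (b * M.f r ^ m) - M.p (a' * M.g r ^ n)) = 0 := by
      rw [map_sub, sub_eq_zero, ← hq', ← hp', ← hb', ← ha'', map_mul, map_mul, map_pow, map_pow,
        hq', hp', M₁.comm_apply, M.comm_apply]
    obtain ⟨k, hk⟩ := hA.ker _ hdiff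
    have hcompat : M.q (M.f r ^ k * (b * M.f r ^ m)) = M.p (M.g r ^ k * (a' * M.g r ^ n)) := by
      rw [map_mul M.q, map_mul M.p, map_pow M.q, map_pow M.p, ← M.comm_apply r, ← sub_eq_zero,
        ← mul_sub]
      exact hk
    obtain ⟨x, ⟨hx1, hx2⟩, -⟩ := M.pb _ _ hcompat
    refine ⟨n + m + k, x, ?_⟩
    apply M₁.ext_elem
    · calc M₁.f (s * φR r ^ (n + m + k))
          = M₁.f s * φB (M.f r) ^ (n + m) * φB (M.f r) ^ k := by
            rw [map_mul, map_pow, hf', pow_add (φB (M.f r)) (n + m) k, mul_assoc]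
        _ = φB (b * M.f r ^ m) * φB (M.f r) ^ k := by rw [hb']
        _ = φB (M.f r ^ k * (b * M.f r ^ m)) := by
            rw [map_mul φB (M.f r ^ k), map_pow φB (M.f r) k, mul_comm]
        _ = M₁.f (φR x) := by rw [hf', hx1]
    · calc M₁.g (s * φR r ^ (n + m + k))
          = M₁.g s * φA' (M.g r) ^ (n + m) * φA' (M.g r) ^ k := by
            rw [map_mul, map_pow, hg', pow_add (φA' (M.g r)) (n + m) k, mul_assoc]
        _ = φA' (a' * M.g r ^ n) * φA' (M.g r) ^ k := by rw [ha'']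
        _ = φA' (M.g r ^ k * (a' * M.g r ^ n)) := by
            rw [map_mul φA' (M.g r ^ k), map_pow φA' (M.g r) k, mul_comm]
        _ = M₁.g (φR x) := by rw [hg', hx2]
  · -- kernel
    intro x hx
    have h1 : φB (M.f x) = 0 := by rw [← hf', hx, map_zero]
    have h2 : φA' (M.g x) = 0 := by rw [← hg', hx, map_zero]
    obtain ⟨n, hn⟩ := hB.ker _ h1
    obtain ⟨m, hm⟩ := hA'.ker _ h2
    refine ⟨n + m, ?_⟩
    apply M.ext_elem
    · rw [map_mul, map_pow, pow_add, mul_comm (M.f r ^ n), mul_assoc, hn, mul_zero, map_zero]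
    · rw [map_mul, map_pow, pow_add, mul_assoc, hm, mul_zero, map_zero]

end MSqLoc

namespace MSqTop

variable {R B A' A : Type u} [CommRing R] [CommRing B] [CommRing A'] [CommRing A]
variable (M : MSq R B A' A)

lemma f_surjective : Function.Surjective M.f := by
  intro b
  obtain ⟨a', ha'⟩ := M.surj (M.q b)
  obtain ⟨x, ⟨hx, -⟩, -⟩ := M.pb b a' ha'.symm
  exact ⟨x, hx⟩

/-- elements of `ker p` come from `ker f` -/
lemma exists_of_mem_ker_p (a' : A') (ha' : M.p a' = 0) : ∃ x : R, M.f x = 0 ∧ M.g x = a' := by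
  obtain ⟨x, ⟨hx1, hx2⟩, -⟩ := M.pb 0 a' (by rw [map_zero, ha'])
  exact ⟨x, hx1, hx2⟩

/-- (P2) -/
lemma comap_f_injective : Function.Injective (PrimeSpectrum.comap M.f) :=
  PrimeSpectrum.comap_injective_of_surjective M.f (f_surjective M)

/-- (P3): the square of spectra is cartesian on points -/
lemma exists_of_comap_eq (𝔭 : PrimeSpectrum A') (𝔮 : PrimeSpectrum B)
    (h : PrimeSpectrum.comap M.g 𝔭 = PrimeSpectrum.comap M.f 𝔮) :
    ∃ 𝔯 : PrimeSpectrum A, PrimeSpectrum.comap M.p 𝔯 = 𝔭 ∧ PrimeSpectrum.comap M.q 𝔯 = 𝔮 := by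
  have hmem : ∀ x : R, M.g x ∈ 𝔭.asIdeal ↔ M.f x ∈ 𝔮.asIdeal := by
    intro x
    have := congrArg (fun 𝔰 : PrimeSpectrum R => x ∈ 𝔰.asIdeal) h
    exact Iff.of_eq this
  have hker : RingHom.ker M.p ≤ 𝔭.asIdeal := by
    intro a' ha'
    obtain ⟨x, hx1, hx2⟩ := exists_of_mem_ker_p M a' ha'
    rw [← hx2, hmem, hx1]
    exact 𝔮.asIdeal.zero_mem
  haveI : (𝔭.asIdeal.map M.p).IsPrime := Ideal.map_isPrime_of_surjective M.surj hker
  refine ⟨⟨𝔭.asIdeal.map M.p, inferInstance⟩, ?_, ?_⟩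
  · apply PrimeSpectrum.ext
    change (𝔭.asIdeal.map M.p).comap M.p = 𝔭.asIdeal
    rw [Ideal.comap_map_of_surjective M.p M.surj, sup_eq_left]
    exact hker
  · apply PrimeSpectrum.ext
    ext b
    change M.q b ∈ 𝔭.asIdeal.map M.p ↔ b ∈ 𝔮.asIdeal
    obtain ⟨x, rfl⟩ := f_surjective M b
    rw [M.comm_apply, ← hmem]
    constructor
    · intro hx
      have : M.g x ∈ (𝔭.asIdeal.map M.p).comap M.p := hx
      rw [Ideal.comap_map_of_surjective M.p M.surj,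
        sup_eq_left.2 (show Ideal.comap M.p ⊥ ≤ 𝔭.asIdeal from hker)] at this
      exact this
    · intro hx
      exact Ideal.mem_map_of_mem _ hx

/-- (P4): `Spec A' → Spec R` is injective away from `Spec A` -/
lemma eq_of_comap_g_eq (𝔭₁ 𝔭₂ : PrimeSpectrum A')
    (h : PrimeSpectrum.comap M.g 𝔭₁ = PrimeSpectrum.comap M.g 𝔭₂)
    (h₁ : ¬ RingHom.ker M.p ≤ 𝔭₁.asIdeal) : 𝔭₁ = 𝔭₂ := by
  have hmem : ∀ x : R, M.g x ∈ 𝔭₁.asIdeal ↔ M.g x ∈ 𝔭₂.asIdeal := by
    intro x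
    have := congrArg (fun 𝔰 : PrimeSpectrum R => x ∈ 𝔰.asIdeal) h
    exact Iff.of_eq this
  obtain ⟨t, ht, ht₁⟩ := SetLike.not_le_iff_exists.1 h₁
  obtain ⟨s, hs1, hs2⟩ := exists_of_mem_ker_p M t ht
  have ht₂ : t ∉ 𝔭₂.asIdeal := by
    rw [← hs2, ← hmem, hs2]; exact ht₁
  have key : ∀ (𝔞 𝔟 : PrimeSpectrum A'), (∀ x : R, M.g x ∈ 𝔞.asIdeal ↔ M.g x ∈ 𝔟.asIdeal) →
      t ∉ 𝔟.asIdeal → 𝔞.asIdeal ≤ 𝔟.asIdeal := by
    intro 𝔞 𝔟 hab htb a ha
    have hat : M.p (a * t) = 0 := by rw [map_mul, ht, mul_zero]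
    obtain ⟨s', -, hs'2⟩ := exists_of_mem_ker_p M (a * t) hat
    have h1 : M.g s' ∈ 𝔞.asIdeal := by rw [hs'2]; exact 𝔞.asIdeal.mul_mem_right _ ha
    have h2 : a * t ∈ 𝔟.asIdeal := by rw [← hs'2]; exact (hab s').1 h1
    exact (𝔟.isPrime.mem_or_mem h2).resolve_right htb
  apply PrimeSpectrum.ext
  exact le_antisymm (key 𝔭₁ 𝔭₂ hmem ht₂) (key 𝔭₂ 𝔭₁ (fun x => (hmem x).symm) ht₁)

end MSqTop

end H9PO
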