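import Mathlib
import Groth.Agent.Lib.Helper9.PO.Alg

universe u

namespace H9PO

open H9Ferrand Polynomial

namespace MSqTop

variable {R B A' A : Type u} [CommRing R] [CommRing B] [CommRing A'] [CommRing A]
variable (M : MSq R B A' A)

/-- if `q` is surjective then so is `g` -/
lemma g_surjective (hq : Function.Surjective M.q) : Function.Surjective M.g := by
  intro a'
  obtain ⟨b, hb⟩ := hq (M.p a')
  obtain ⟨x, ⟨-, hx⟩, -⟩ := M.pb b a' hb
  exact ⟨x, hx⟩

/-- if `q` is integral then so is `g` -/
lemma g_isIntegral (hq : M.q.IsIntegral) : M.g.IsIntegral := by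
  intro a'
  rcases subsingleton_or_nontrivial R with hR | hR
  · have : Subsingleton A' := by
      refine subsingleton_of_zero_eq_one ?_
      rw [← map_one M.g, ← map_zero M.g]
      exact congrArg _ (Subsingleton.elim _ _)
    exact ⟨X, Subsingleton.elim _ _, Subsingleton.elim _ _⟩
  obtain ⟨P, hP, hPa⟩ := hq (M.p a')
  have hlift : P ∈ lifts M.f := by
    rw [lifts_iff_coeff_lifts]
    intro n
    exact f_surjective M _
  obtain ⟨P', hP'1, -, hP'3⟩ := lifts_and_natDegree_eq_and_monic hlift hP
  -- the polynomial `X * P'`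
  have hmon : (X * P').Monic := (monic_X).mul hP'3
  have hker : M.p (eval₂ M.g a' (X * P')) = 0 := by
    rw [eval₂_mul, map_mul, hom_eval₂ P']
    have : eval₂ (M.p.comp M.g) (M.p a') P' = eval₂ M.q (M.p a') P := by
      rw [← M.comm, ← hP'1, eval₂_map]
    rw [this, hPa, mul_zero]
  obtain ⟨x, -, hx⟩ := exists_of_mem_ker_p M _ hker
  refine ⟨X * P' - C x, ?_, ?_⟩
  · apply hmon.sub_of_left
    have h1 : (X * P').natDegree = P'.natDegree + 1 := natDegree_X_mul hP'3.ne_zero
    have h2 : 0 < (X * P').degree := natDegree_pos_iff_degree_pos.1 (by omega)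
    exact lt_of_le_of_lt degree_C_le h2
  · rw [eval₂_sub, eval₂_C, hx, sub_self]

end MSqTop

end H9PO
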