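import Mathlib

universe u

open AlgebraicGeometry CategoryTheory Opposite TopologicalSpace Limits

namespace H9PO

/-- a locally directed monotone family of opens covering a scheme -/
structure DirOpens (X : Scheme.{u}) (ι : Type u) [Preorder ι] where
  U : ι → X.Opens
  mono : ∀ {a b}, a ≤ b → U a ≤ U b
  cov : ∀ x : X, ∃ a, x ∈ U a
  dir : ∀ a b (x : X), x ∈ U a → x ∈ U b → ∃ c, c ≤ a ∧ c ≤ b ∧ x ∈ U c

namespace DirOpens

variable {X : Scheme.{u}} {ι : Type u} [Preorder ι] (D : DirOpens X ι)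

/-- the associated open cover -/
abbrev cover : X.OpenCover where
  I₀ := ι
  X a := D.U a
  f a := (D.U a).ι
  mem₀ := by
    rw [Scheme.presieve₀_mem_precoverage_iff]
    refine ⟨fun x ↦ ?_, inferInstance⟩
    obtain ⟨a, ha⟩ := D.cov x
    exact ⟨a, ⟨x, ha⟩, rfl⟩

noncomputable instance : D.cover.LocallyDirected where
  trans f := X.homOfLE (D.mono f.le)
  directed {a b} x := by
    let p := (pullback.fst _ _ ≫ (D.U a).ι) x
    have hpa : p ∈ D.U a := (pullback.fst (D.U a).ι (D.U b).ι x).2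
    have hpb : p ∈ D.U b := by
      unfold p; rw [pullback.condition]; exact (pullback.snd (D.U a).ι (D.U b).ι x).2
    obtain ⟨c, hca, hcb, hpc⟩ := D.dir a b p hpa hpb
    refine ⟨c, homOfLE hca, homOfLE hcb, ⟨p, hpc⟩, ?_⟩
    apply (pullback.fst _ _ ≫ (D.U a).ι).isOpenEmbedding.injective
    dsimp
    change (pullback.lift _ _ _ ≫ pullback.fst _ _ ≫ (D.U a).ι) _ = _
    simp only [pullback.lift_fst_assoc, Scheme.homOfLE_ι, Scheme.Opens.ι_apply]
    rfl

/-- glue morphisms along a locally directed family of opens -/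
noncomputable def glue {T : Scheme.{u}} (g : ∀ a, (D.U a : Scheme.{u}) ⟶ T)
    (h : ∀ a b (hab : a ≤ b), X.homOfLE (D.mono hab) ≫ g b = g a) : X ⟶ T :=
  D.cover.glueMorphismsOfLocallyDirected g (fun {a b} hab => h a b hab.le)

@[reassoc]
lemma ι_glue {T : Scheme.{u}} (g : ∀ a, (D.U a : Scheme.{u}) ⟶ T)
    (h : ∀ a b (hab : a ≤ b), X.homOfLE (D.mono hab) ≫ g b = g a) (a : ι) :
    (D.U a).ι ≫ D.glue g h = g a :=
  D.cover.map_glueMorphismsOfLocallyDirected g (fun {a b} hab => h a b hab.le) a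

lemma hom_ext {T : Scheme.{u}} {f f' : X ⟶ T} (h : ∀ a, (D.U a).ι ≫ f = (D.U a).ι ≫ f') : f = f' :=
  D.cover.hom_ext _ _ h

end DirOpens

end H9PO
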