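import Mathlib
import Groth.Agent.Lib.Helper9.Ferrand.Sch
import Groth.Agent.Lib.Helper9.ThickAff
import Groth.Agent.Lib.Helper9.PO.Alg

/-!
# Compatible pairs of opens, their rings of sections and Milnor squares
-/

universe u

open AlgebraicGeometry CategoryTheory Opposite TopologicalSpace

namespace H9PO

open H9Ferrand H9ThickAff

variable {X Y Z : Scheme.{u}} (i : Z ⟶ X) (j : Z ⟶ Y)

/-- a compatible pair of opens -/
@[ext]
structure Pair where
  U : X.Opens
  V : Y.Opens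
  e : i ⁻¹ᵁ U = j ⁻¹ᵁ V

namespace Pair

variable {i j}

instance : Preorder (Pair i j) where
  le c c' := c.U ≤ c'.U ∧ c.V ≤ c'.V
  le_refl c := ⟨le_rfl, le_rfl⟩
  le_trans _ _ _ h₁ h₂ := ⟨h₁.1.trans h₂.1, h₁.2.trans h₂.2⟩

lemma le_def {c c' : Pair i j} : c ≤ c' ↔ c.U ≤ c'.U ∧ c.V ≤ c'.V := Iff.rfl

/-- the open of `Z` of a pair -/
def W (c : Pair i j) : Z.Opens := i ⁻¹ᵁ c.U

lemma W_le {c c' : Pair i j} (h : c ≤ c') : c.W ≤ c'.W := i.preimage_mono h.1

/-- intersection of pairs -/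
def inf (c c' : Pair i j) : Pair i j where
  U := c.U ⊓ c'.U
  V := c.V ⊓ c'.V
  e := by
    rw [Scheme.Hom.preimage_inf, Scheme.Hom.preimage_inf, c.e, c'.e]

lemma inf_le_left (c c' : Pair i j) : c.inf c' ≤ c := ⟨_root_.inf_le_left, _root_.inf_le_left⟩
lemma inf_le_right (c c' : Pair i j) : c.inf c' ≤ c' := ⟨_root_.inf_le_right, _root_.inf_le_right⟩
lemma le_inf {c c' c'' : Pair i j} (h : c'' ≤ c) (h' : c'' ≤ c') : c'' ≤ c.inf c' :=
  ⟨_root_.le_inf h.1 h'.1, _root_.le_inf h.2 h'.2⟩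

/-- the map `Γ(X, U) → Γ(Z, W)` -/
noncomputable def pC (c : Pair i j) : Γ(X, c.U) →+* Γ(Z, c.W) := (i.app c.U).hom

/-- the map `Γ(Y, V) → Γ(Z, W)` -/
noncomputable def qC (c : Pair i j) : Γ(Y, c.V) →+* Γ(Z, c.W) :=
  (res (show c.W ≤ j ⁻¹ᵁ c.V from c.e.le)).comp (j.app c.V).hom

lemma pC_res {c c' : Pair i j} (h : c ≤ c') (a : Γ(X, c'.U)) :
    c.pC (res h.1 a) = res (W_le h) (c'.pC a) :=
  app_res i h.1 a

lemma qC_res {c c' : Pair i j} (h : c ≤ c') (b : Γ(Y, c'.V)) :
    c.qC (res h.2 b) = res (W_le h) (c'.qC b) := by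
  change res _ (j.app c.V (res h.2 b)) = res _ (res _ (j.app c'.V b))
  rw [app_res, res_res, res_res]

/-- the ring of sections over a pair: the fibre product -/
noncomputable def RC (c : Pair i j) : Subring (Γ(Y, c.V) × Γ(X, c.U)) :=
  RingHom.eqLocus (c.qC.comp (RingHom.fst _ _)) (c.pC.comp (RingHom.snd _ _))

lemma mem_RC {c : Pair i j} (x : Γ(Y, c.V) × Γ(X, c.U)) : x ∈ c.RC ↔ c.qC x.1 = c.pC x.2 := Iff.rfl

/-- first component -/
noncomputable def fC (c : Pair i j) : c.RC →+* Γ(Y, c.V) := (RingHom.fst _ _).comp c.RC.subtype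

/-- second component -/
noncomputable def gC (c : Pair i j) : c.RC →+* Γ(X, c.U) := (RingHom.snd _ _).comp c.RC.subtype

lemma comm_apply (c : Pair i j) (x : c.RC) : c.qC (c.fC x) = c.pC (c.gC x) := x.2

lemma ext_elem {c : Pair i j} {x y : c.RC} (h₁ : c.fC x = c.fC y) (h₂ : c.gC x = c.gC y) : x = y :=
  Subtype.ext (Prod.ext h₁ h₂)

/-- restriction of sections over pairs -/
noncomputable def resR {c c' : Pair i j} (h : c ≤ c') : c'.RC →+* c.RC :=
  RingHom.codRestrict ((RingHom.prodMap (res h.2) (res h.1)).comp c'.RC.subtype) c.RC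
    (fun x => by
      rw [mem_RC]
      change c.qC (res h.2 x.1.1) = c.pC (res h.1 x.1.2)
      rw [qC_res h, pC_res h]
      exact congrArg _ x.2)

lemma fC_resR {c c' : Pair i j} (h : c ≤ c') (x : c'.RC) : c.fC (resR h x) = res h.2 (c'.fC x) := rfl
lemma gC_resR {c c' : Pair i j} (h : c ≤ c') (x : c'.RC) : c.gC (resR h x) = res h.1 (c'.gC x) := rfl

lemma resR_resR {c c' c'' : Pair i j} (h : c ≤ c') (h' : c' ≤ c'') (x : c''.RC) :
    resR h (resR h' x) = resR (h.trans h') x := by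
  apply ext_elem
  · rw [fC_resR, fC_resR, fC_resR, res_res]
  · rw [gC_resR, gC_resR, gC_resR, res_res]

lemma resR_self {c : Pair i j} (x : c.RC) : resR (le_refl c) x = x := by
  apply ext_elem
  · rw [fC_resR, res_self]
  · rw [gC_resR, res_self]

variable [IsClosedImmersion i]

/-- the Milnor square of an affine pair -/
noncomputable def msq (c : Pair i j) (hU : IsAffineOpen c.U) :
    MSq c.RC Γ(Y, c.V) Γ(X, c.U) Γ(Z, c.W) where
  f := c.fC
  g := c.gC
  q := c.qC
  p := c.pC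
  comm := RingHom.ext fun x => c.comm_apply x
  surj := i.app_surjective c.U hU
  pb b a' h := ⟨⟨(b, a'), h⟩, ⟨rfl, rfl⟩, fun y hy => ext_elem hy.1 hy.2⟩

/-- the basic pair of a section over a pair -/
noncomputable def basic (c : Pair i j) (r : c.RC) : Pair i j where
  U := X.basicOpen (c.gC r)
  V := Y.basicOpen (c.fC r)
  e := by
    rw [Scheme.preimage_basicOpen, Scheme.preimage_basicOpen]
    have h1 : Z.basicOpen (c.qC (c.fC r)) = Z.basicOpen (j.app c.V (c.fC r)) := by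
      change Z.basicOpen (res _ (j.app c.V (c.fC r))) = _
      rw [basicOpen_res']
      exact inf_eq_right.2 ((Z.basicOpen_le _).trans c.e.ge)
    rw [← h1, c.comm_apply]
    rfl

lemma basic_le (c : Pair i j) (r : c.RC) : c.basic r ≤ c := ⟨X.basicOpen_le _, Y.basicOpen_le _⟩

lemma isLocAway_res {S : Scheme.{u}} {U U' : S.Opens} (hU : IsAffineOpen U) (f : Γ(S, U))
    (h : U' ≤ U) (e : U' = S.basicOpen f) : IsLocAway (res h) f := by
  have := hU.isLocalization_of_eq_basicOpen f (homOfLE h) e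
  letI := (S.presheaf.map (homOfLE h).op).hom.toAlgebra
  exact IsLocAway.of_isLocalization f

/-- restriction to a basic pair is a localization -/
theorem isLocAway_resR (c : Pair i j) (hU : IsAffineOpen c.U) (hV : IsAffineOpen c.V) (r : c.RC)
    (c'' : Pair i j) (h : c'' ≤ c) (eU : c''.U = X.basicOpen (c.gC r))
    (eV : c''.V = Y.basicOpen (c.fC r)) : IsLocAway (resR h) r := by
  have hU'' : IsAffineOpen c''.U := eU ▸ hU.basicOpen _
  have hW : IsAffineOpen c.W := hU.preimage i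
  have eW : c''.W = Z.basicOpen (c.qC (c.fC r)) := by
    change i ⁻¹ᵁ c''.U = _
    rw [eU, Scheme.preimage_basicOpen, c.comm_apply]
    rfl
  exact MSqLoc.isLocAway (c.msq hU) (c''.msq hU'') (resR h) (res h.2) (res h.1) (res (W_le h))
    (RingHom.ext fun x => fC_resR h x) (RingHom.ext fun x => gC_resR h x)
    (RingHom.ext fun b => qC_res h b) (RingHom.ext fun a => pC_res h a) r
    (isLocAway_res hV _ h.2 eV) (isLocAway_res hU _ h.1 eU) (isLocAway_res hW _ (W_le h) eW)

end Pair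

end H9PO
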