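import Mathlib
import Groth.Agent.Lib.Helper9.Ferrand.Top
import Groth.Agent.Lib.Helper9.PO.Pair

/-!
# Charts (affine compatible pairs), the diagram of affine pushouts, adapted sections
-/

universe u

open AlgebraicGeometry CategoryTheory Opposite TopologicalSpace

namespace H9PO

open H9Ferrand H9ThickAff

variable {X Y Z : Scheme.{u}} (i : Z ⟶ X) (j : Z ⟶ Y)

/-- an affine compatible pair -/
structure Chart extends Pair i j where
  hU : IsAffineOpen U
  hV : IsAffineOpen V

namespace Chart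

variable {i j}

instance : Preorder (Chart i j) := Preorder.lift Chart.toPair

lemma le_def {c c' : Chart i j} : c ≤ c' ↔ c.toPair ≤ c'.toPair := Iff.rfl

variable [IsClosedImmersion i]

/-- the Milnor square of a chart -/
noncomputable abbrev M (c : Chart i j) : MSq c.RC Γ(Y, c.V) Γ(X, c.U) Γ(Z, c.W) := c.toPair.msq c.hU

lemma hW (c : Chart i j) : IsAffineOpen c.W := c.hU.preimage i

/-- the affine pushout of a chart -/
noncomputable abbrev S (c : Chart i j) : Scheme.{u} := Spec (CommRingCat.of c.RC)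

/-- the transition maps -/
noncomputable def tr {c c' : Chart i j} (h : c ≤ c') : c.S ⟶ c'.S :=
  Spec.map (CommRingCat.ofHom (Pair.resR h))

lemma tr_self (c : Chart i j) : tr (le_refl c) = 𝟙 c.S := by
  have : Pair.resR (le_refl c.toPair) = RingHom.id _ := RingHom.ext fun x => Pair.resR_self x
  change Spec.map (CommRingCat.ofHom (Pair.resR (le_refl c.toPair))) = _
  rw [this]
  exact Spec.map_id _

lemma tr_tr {c c' c'' : Chart i j} (h : c ≤ c') (h' : c' ≤ c'') :
    tr h ≫ tr h' = tr (h.trans h') := by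
  have : (Pair.resR h).comp (Pair.resR h') = Pair.resR (le_trans h h') :=
    RingHom.ext fun x => Pair.resR_resR h h' x
  change Spec.map _ ≫ Spec.map _ = Spec.map _
  rw [← Spec.map_comp, ← CommRingCat.ofHom_comp, this]

lemma tr_apply {c c' : Chart i j} (h : c ≤ c') (x : c.S) :
    tr h x = PrimeSpectrum.comap (Pair.resR h) x := rfl

/-- the diagram of affine pushouts -/
noncomputable def F : Chart i j ⥤ Scheme.{u} where
  obj c := c.S
  map f := tr f.le
  map_id c := tr_self c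
  map_comp f g := (tr_tr f.le g.le).symm

/-- the open subset of the affine pushout of a chart defined by a smaller pair -/
lemma exists_open (c : Chart i j) (c₀ : Pair i j) :
    ∃ W₀ : Opens (PrimeSpectrum c.RC),
      (∀ v : PrimeSpectrum Γ(Y, c.V), PrimeSpectrum.comap c.fC v ∈ W₀ ↔ c.hV.fromSpec v ∈ c₀.V) ∧
      (∀ u : PrimeSpectrum Γ(X, c.U), PrimeSpectrum.comap c.gC u ∈ W₀ ↔ c.hU.fromSpec u ∈ c₀.U) := by
  obtain ⟨H, hH, hHB, hHA⟩ := c.M.exists_desc (T := ULift.{u} Prop)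
    (fun v => ULift.up (c.hV.fromSpec v ∈ c₀.V)) (fun u => ULift.up (c.hU.fromSpec u ∈ c₀.U))
    (continuous_uliftUp.comp (continuous_Prop.2 (c₀.V.2.preimage c.hV.fromSpec.continuous)))
    (continuous_uliftUp.comp (continuous_Prop.2 (c₀.U.2.preimage c.hU.fromSpec.continuous)))
    (by
      intro z
      have h1 : c.hV.fromSpec (PrimeSpectrum.comap c.qC z) = j (c.hW.fromSpec z) := by
        have := IsAffineOpen.SpecMap_appLE_fromSpec j c.hV c.hW (show c.W ≤ j ⁻¹ᵁ c.V from c.e.le)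
        exact congr($(this) z)
      have h2 : c.hU.fromSpec (PrimeSpectrum.comap c.pC z) = i (c.hW.fromSpec z) := by
        have := IsAffineOpen.SpecMap_appLE_fromSpec i c.hU c.hW (le_refl _)
        have e : i.appLE c.U c.W (le_refl _) = i.app c.U := (Scheme.Hom.app_eq_appLE i).symm
        rw [e] at this
        exact congr($(this) z)
      change ULift.up (c.hV.fromSpec (PrimeSpectrum.comap c.qC z) ∈ c₀.V) =
        ULift.up (c.hU.fromSpec (PrimeSpectrum.comap c.pC z) ∈ c₀.U)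
      rw [h1, h2]
      congr 1
      apply propext
      change c.hW.fromSpec z ∈ j ⁻¹ᵁ c₀.V ↔ c.hW.fromSpec z ∈ i ⁻¹ᵁ c₀.U
      rw [c₀.e])
  refine ⟨⟨{x | (H x).down}, continuous_Prop.1 (continuous_uliftDown.comp hH)⟩,
    fun v => ?_, fun u => ?_⟩
  · exact Iff.of_eq (congrArg ULift.down (hHB v))
  · exact Iff.of_eq (congrArg ULift.down (hHA u))

/-- adapted sections: basic pairs of a chart inside a given pair, around a point -/
lemma exists_adapted (c : Chart i j) (c₀ : Pair i j) (x : PrimeSpectrum c.RC)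
    (hx : (∃ v, PrimeSpectrum.comap c.fC v = x ∧ c.hV.fromSpec v ∈ c₀.V) ∨
      (∃ u, PrimeSpectrum.comap c.gC u = x ∧ c.hU.fromSpec u ∈ c₀.U)) :
    ∃ r : c.RC, x ∈ PrimeSpectrum.basicOpen r ∧ c.basic r ≤ c₀ := by
  obtain ⟨W₀, hW₀V, hW₀U⟩ := c.exists_open c₀
  have hxW : x ∈ W₀ := by
    rcases hx with ⟨v, rfl, hv⟩ | ⟨u, rfl, hu⟩
    · exact (hW₀V v).2 hv
    · exact (hW₀U u).2 hu
  obtain ⟨_, ⟨r, rfl⟩, hxr, hr⟩ := Opens.isBasis_iff_nbhd.mp
    (PrimeSpectrum.isBasis_basic_opens (R := c.RC)) hxW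
  refine ⟨r, hxr, ?_, ?_⟩
  · intro x' hx'
    have hx'U : x' ∈ c.U := X.basicOpen_le _ hx'
    have h1 : c.hU.fromSpec (c.hU.primeIdealOf ⟨x', hx'U⟩) = x' := c.hU.fromSpec_primeIdealOf _
    have h2 : c.hU.primeIdealOf ⟨x', hx'U⟩ ∈ PrimeSpectrum.basicOpen (c.gC r) := by
      rw [← c.hU.fromSpec_preimage_basicOpen]
      change c.hU.fromSpec _ ∈ X.basicOpen _
      rw [h1]
      exact hx'
    have h3 : PrimeSpectrum.comap c.gC (c.hU.primeIdealOf ⟨x', hx'U⟩) ∈ W₀ := hr h2
    have h4 := (hW₀U _).1 h3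
    rw [h1] at h4
    exact h4
  · intro y' hy'
    have hy'V : y' ∈ c.V := Y.basicOpen_le _ hy'
    have h1 : c.hV.fromSpec (c.hV.primeIdealOf ⟨y', hy'V⟩) = y' := c.hV.fromSpec_primeIdealOf _
    have h2 : c.hV.primeIdealOf ⟨y', hy'V⟩ ∈ PrimeSpectrum.basicOpen (c.fC r) := by
      rw [← c.hV.fromSpec_preimage_basicOpen]
      change c.hV.fromSpec _ ∈ Y.basicOpen _
      rw [h1]
      exact hy'
    have h3 : PrimeSpectrum.comap c.fC (c.hV.primeIdealOf ⟨y', hy'V⟩) ∈ W₀ := hr h2
    have h4 := (hW₀V _).1 h3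
    rw [h1] at h4
    exact h4

/-- the basic chart of a section over a chart -/
noncomputable def basicChart (c : Chart i j) (r : c.RC) : Chart i j where
  toPair := c.toPair.basic r
  hU := c.hU.basicOpen _
  hV := c.hV.basicOpen _

lemma basicChart_le (c : Chart i j) (r : c.RC) : c.basicChart r ≤ c := c.toPair.basic_le r

/-- transition maps from a basic chart are open immersions with range the basic open -/
lemma tr_of_eq_basic {c'' c : Chart i j} (h : c'' ≤ c) (r : c.RC)
    (eU : c''.U = X.basicOpen (c.gC r)) (eV : c''.V = Y.basicOpen (c.fC r)) :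
    IsOpenImmersion (tr h) ∧
      Set.range (tr h) = (PrimeSpectrum.basicOpen r : Set (PrimeSpectrum c.RC)) := by
  have hloc := (Pair.isLocAway_resR c.toPair c.hU c.hV r c''.toPair h eU eV).isLocalization
  letI := (Pair.resR (c := c''.toPair) (c' := c.toPair) h).toAlgebra
  refine ⟨IsOpenImmersion.of_isLocalization (S := c''.RC) r, ?_⟩
  exact PrimeSpectrum.localization_away_comap_range c''.RC r

/-- transition maps are open immersions -/
theorem isOpenImmersion_tr {c₁ c : Chart i j} (h : c₁ ≤ c) : IsOpenImmersion (tr h) := by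
  -- local structure around a point
  have key : ∀ x₁ : c₁.S, ∃ (c'' : Chart i j) (h₁ : c'' ≤ c₁) (r : c.RC),
      IsOpenImmersion (tr h₁) ∧ IsOpenImmersion (tr (h₁.trans h)) ∧
      Set.range (tr h₁) = (PrimeSpectrum.basicOpen (Pair.resR h r) : Set (PrimeSpectrum c₁.RC)) ∧
      tr h x₁ ∈ (PrimeSpectrum.basicOpen r : Set (PrimeSpectrum c.RC)) := by
    intro x₁
    have hx : (∃ v, PrimeSpectrum.comap c.fC v = tr h x₁ ∧ c.hV.fromSpec v ∈ c₁.V) ∨
        (∃ u, PrimeSpectrum.comap c.gC u = tr h x₁ ∧ c.hU.fromSpec u ∈ c₁.U) := by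
      rcases c₁.M.jointly_surjective x₁ with ⟨v₁, rfl⟩ | ⟨u₁, rfl⟩
      · left
        refine ⟨PrimeSpectrum.comap (res h.2) v₁, rfl, ?_⟩
        have := c.hV.map_fromSpec c₁.hV (homOfLE h.2).op
        have e : c.hV.fromSpec (PrimeSpectrum.comap (res h.2) v₁) = c₁.hV.fromSpec v₁ :=
          congr($(this) v₁)
        rw [e]
        have : c₁.hV.fromSpec v₁ ∈ Set.range c₁.hV.fromSpec := ⟨v₁, rfl⟩
        rw [c₁.hV.range_fromSpec] at this
        exact this
      · right
        refine ⟨PrimeSpectrum.comap (res h.1) u₁, rfl, ?_⟩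
        have := c.hU.map_fromSpec c₁.hU (homOfLE h.1).op
        have e : c.hU.fromSpec (PrimeSpectrum.comap (res h.1) u₁) = c₁.hU.fromSpec u₁ :=
          congr($(this) u₁)
        rw [e]
        have : c₁.hU.fromSpec u₁ ∈ Set.range c₁.hU.fromSpec := ⟨u₁, rfl⟩
        rw [c₁.hU.range_fromSpec] at this
        exact this
    obtain ⟨r, hxr, hr⟩ := c.exists_adapted c₁.toPair (tr h x₁) hx
    have h₁ : c.basicChart r ≤ c₁ := hr
    have eU : (c.basicChart r).U = X.basicOpen (c₁.gC (Pair.resR h r)) := by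
      change X.basicOpen (c.gC r) = X.basicOpen (res h.1 (c.gC r))
      rw [basicOpen_res']
      exact (inf_eq_right.2 hr.1).symm
    have eV : (c.basicChart r).V = Y.basicOpen (c₁.fC (Pair.resR h r)) := by
      change Y.basicOpen (c.fC r) = Y.basicOpen (res h.2 (c.fC r))
      rw [basicOpen_res']
      exact (inf_eq_right.2 hr.2).symm
    obtain ⟨ho₁, hr₁⟩ := tr_of_eq_basic h₁ (Pair.resR h r) eU eV
    obtain ⟨ho₂, -⟩ := tr_of_eq_basic (h₁.trans h) r rfl rfl
    exact ⟨c.basicChart r, h₁, r, ho₁, ho₂, hr₁, hxr⟩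
  refine IsOpenImmersion.of_forall_source_exists (tr h) ?_ ?_
  · intro x₁ y₁ hxy
    obtain ⟨c'', h₁, r, ho₁, ho₂, hr₁, hxr⟩ := key x₁
    have hx₁ : x₁ ∈ Set.range (tr h₁) := by rw [hr₁]; exact hxr
    have hy₁ : y₁ ∈ Set.range (tr h₁) := by
      rw [hr₁]
      change tr h y₁ ∈ (PrimeSpectrum.basicOpen r : Set (PrimeSpectrum c.RC))
      rw [← hxy]; exact hxr
    obtain ⟨a, rfl⟩ := hx₁
    obtain ⟨b, rfl⟩ := hy₁
    have hab : tr (h₁.trans h) a = tr (h₁.trans h) b := by
      rw [← tr_tr h₁ h]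
      exact hxy
    haveI := ho₂
    rw [(tr (h₁.trans h)).isOpenEmbedding.injective hab]
  · intro x₁
    obtain ⟨c'', h₁, r, ho₁, ho₂, hr₁, hxr⟩ := key x₁
    refine ⟨c''.S, tr h₁, ho₁, ?_, ?_⟩
    · change x₁ ∈ Set.range (tr h₁)
      rw [hr₁]; exact hxr
    · rw [tr_tr]; exact ho₂

end Chart

end H9PO
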