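import Mathlib
import Groth.Agent.Lib.Helper9.PO.Fun

universe u

open AlgebraicGeometry CategoryTheory Opposite TopologicalSpace Limits

namespace H9PO

open H9Ferrand H9ThickAff

variable {X Y Z : Scheme.{u}} {i : Z ⟶ X} {j : Z ⟶ Y} [IsClosedImmersion i]

namespace Chart

lemma fromSpec_comap_res_U {c'' c : Chart i j} (h : c'' ≤ c) (u : PrimeSpectrum Γ(X, c''.U)) :
    c.hU.fromSpec (PrimeSpectrum.comap (res h.1) u) = c''.hU.fromSpec u := by
  have := c.hU.map_fromSpec c''.hU (homOfLE h.1).op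
  exact congr($(this) u)

lemma fromSpec_comap_res_V {c'' c : Chart i j} (h : c'' ≤ c) (v : PrimeSpectrum Γ(Y, c''.V)) :
    c.hV.fromSpec (PrimeSpectrum.comap (res h.2) v) = c''.hV.fromSpec v := by
  have := c.hV.map_fromSpec c''.hV (homOfLE h.2).op
  exact congr($(this) v)

lemma fromSpec_mem_U (c : Chart i j) (u : PrimeSpectrum Γ(X, c.U)) : c.hU.fromSpec u ∈ c.U := by
  have : c.hU.fromSpec u ∈ Set.range c.hU.fromSpec := ⟨u, rfl⟩
  rw [c.hU.range_fromSpec] at this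
  exact this

lemma fromSpec_mem_V (c : Chart i j) (v : PrimeSpectrum Γ(Y, c.V)) : c.hV.fromSpec v ∈ c.V := by
  have : c.hV.fromSpec v ∈ Set.range c.hV.fromSpec := ⟨v, rfl⟩
  rw [c.hV.range_fromSpec] at this
  exact this

lemma tr_comap_gC {c'' c : Chart i j} (h : c'' ≤ c) (u : PrimeSpectrum Γ(X, c''.U)) :
    tr h (PrimeSpectrum.comap c''.gC u) = PrimeSpectrum.comap c.gC (PrimeSpectrum.comap (res h.1) u) :=
  rfl

lemma tr_comap_fC {c'' c : Chart i j} (h : c'' ≤ c) (v : PrimeSpectrum Γ(Y, c''.V)) :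
    tr h (PrimeSpectrum.comap c''.fC v) = PrimeSpectrum.comap c.fC (PrimeSpectrum.comap (res h.2) v) :=
  rfl

/-- the range of a transition map is the open subset defined by the smaller pair -/
lemma range_tr {c'' c : Chart i j} (h : c'' ≤ c) :
    (∀ v : PrimeSpectrum Γ(Y, c.V),
      PrimeSpectrum.comap c.fC v ∈ Set.range (tr h) ↔ c.hV.fromSpec v ∈ c''.V) ∧
    (∀ u : PrimeSpectrum Γ(X, c.U),
      PrimeSpectrum.comap c.gC u ∈ Set.range (tr h) ↔ c.hU.fromSpec u ∈ c''.U) := by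
  obtain ⟨W₀, hW₀V, hW₀U⟩ := c.exists_open c''.toPair
  have hrange : Set.range (tr h) = (W₀ : Set (PrimeSpectrum c.RC)) := by
    apply Set.Subset.antisymm
    · rintro _ ⟨s'', rfl⟩
      rcases c''.M.jointly_surjective s'' with ⟨v'', rfl⟩ | ⟨u'', rfl⟩
      · refine (hW₀V (PrimeSpectrum.comap (res h.2) v'')).2 ?_
        rw [fromSpec_comap_res_V h]
        exact c''.fromSpec_mem_V v''
      · refine (hW₀U (PrimeSpectrum.comap (res h.1) u'')).2 ?_
        rw [fromSpec_comap_res_U h]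
        exact c''.fromSpec_mem_U u''
    · intro s hs
      have hx : (∃ v, PrimeSpectrum.comap c.fC v = s ∧ c.hV.fromSpec v ∈ c''.V) ∨
          (∃ u, PrimeSpectrum.comap c.gC u = s ∧ c.hU.fromSpec u ∈ c''.U) := by
        rcases c.M.jointly_surjective s with ⟨v, rfl⟩ | ⟨u, rfl⟩
        · exact Or.inl ⟨v, rfl, (hW₀V v).1 hs⟩
        · exact Or.inr ⟨u, rfl, (hW₀U u).1 hs⟩
      obtain ⟨r, hsr, hr⟩ := c.exists_adapted c''.toPair s hx
      have h₁ : c.basicChart r ≤ c'' := hr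
      obtain ⟨-, hr₂⟩ := tr_of_eq_basic (h₁.trans h) r rfl rfl
      have : s ∈ Set.range (tr (h₁.trans h)) := by rw [hr₂]; exact hsr
      obtain ⟨s₀, rfl⟩ := this
      refine ⟨tr h₁ s₀, ?_⟩
      rw [← tr_tr h₁ h]
      rfl
  rw [hrange]
  exact ⟨hW₀V, hW₀U⟩

instance {c c' : Chart i j} (f : c ⟶ c') : IsOpenImmersion ((F (i := i) (j := j)).map f) :=
  isOpenImmersion_tr f.le

instance : ((F (i := i) (j := j)) ⋙ Scheme.forget).IsLocallyDirected where
  cond {c₁ c₂ c} f₁ f₂ x₁ x₂ hx := by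
    have h₁ : c₁ ≤ c := f₁.le
    have h₂ : c₂ ≤ c := f₂.le
    have hx' : tr h₁ x₁ = tr h₂ x₂ := hx
    -- the common image point
    have hs : (∃ v, PrimeSpectrum.comap c.fC v = tr h₁ x₁ ∧ c.hV.fromSpec v ∈ (c₁.toPair.inf c₂.toPair).V) ∨
        (∃ u, PrimeSpectrum.comap c.gC u = tr h₁ x₁ ∧ c.hU.fromSpec u ∈ (c₁.toPair.inf c₂.toPair).U) := by
      rcases c.M.jointly_surjective (tr h₁ x₁) with ⟨v, hv⟩ | ⟨u, hu⟩
      · left
        have hv' : PrimeSpectrum.comap c.fC v = tr h₁ x₁ := hv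
        refine ⟨v, hv', ?_, ?_⟩
        · exact ((range_tr h₁).1 v).1 ⟨x₁, hv'.symm⟩
        · exact ((range_tr h₂).1 v).1 ⟨x₂, hx'.symm.trans hv'.symm⟩
      · right
        have hu' : PrimeSpectrum.comap c.gC u = tr h₁ x₁ := hu
        refine ⟨u, hu', ?_, ?_⟩
        · exact ((range_tr h₁).2 u).1 ⟨x₁, hu'.symm⟩
        · exact ((range_tr h₂).2 u).1 ⟨x₂, hx'.symm.trans hu'.symm⟩
    obtain ⟨r, hsr, hr⟩ := c.exists_adapted (c₁.toPair.inf c₂.toPair) (tr h₁ x₁) hs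
    have hl₁ : c.basicChart r ≤ c₁ := hr.trans (Pair.inf_le_left _ _)
    have hl₂ : c.basicChart r ≤ c₂ := hr.trans (Pair.inf_le_right _ _)
    obtain ⟨-, hr₂⟩ := tr_of_eq_basic (c.basicChart_le r) r rfl rfl
    have : tr h₁ x₁ ∈ Set.range (tr (c.basicChart_le r)) := by rw [hr₂]; exact hsr
    obtain ⟨s₀, hs₀⟩ := this
    refine ⟨c.basicChart r, homOfLE hl₁, homOfLE hl₂, s₀, ?_, ?_⟩
    · haveI := isOpenImmersion_tr h₁
      apply (tr h₁).isOpenEmbedding.injective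
      change tr h₁ (tr hl₁ s₀) = tr h₁ x₁
      rw [← hs₀, ← tr_tr hl₁ h₁]
      rfl
    · haveI := isOpenImmersion_tr h₂
      apply (tr h₂).isOpenEmbedding.injective
      change tr h₂ (tr hl₂ s₀) = tr h₂ x₂
      rw [← hx', ← hs₀, ← tr_tr hl₂ h₂]
      rfl

end Chart

end H9PO
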