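import Mathlib
import Groth.Agent.Lib.Helper9.PO.Glue1
import Groth.Agent.Lib.Helper9.PO.DirCover

universe u

open AlgebraicGeometry CategoryTheory Opposite TopologicalSpace Limits

namespace H9PO

open H9Ferrand H9ThickAff

variable {X Y Z : Scheme.{u}} {i : Z ⟶ X} {j : Z ⟶ Y} [IsClosedImmersion i]

namespace Chart

lemma mem_basicOpen_U_iff (c : Chart i j) (r : c.RC) (x : X) (hx : x ∈ c.U) :
    x ∈ X.basicOpen (c.gC r) ↔
      PrimeSpectrum.comap c.gC (c.hU.primeIdealOf ⟨x, hx⟩) ∈ PrimeSpectrum.basicOpen r := by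
  have h1 : c.hU.fromSpec (c.hU.primeIdealOf ⟨x, hx⟩) = x := c.hU.fromSpec_primeIdealOf _
  have h2 : c.hU.primeIdealOf ⟨x, hx⟩ ∈ PrimeSpectrum.basicOpen (c.gC r) ↔
      c.hU.fromSpec (c.hU.primeIdealOf ⟨x, hx⟩) ∈ X.basicOpen (c.gC r) := by
    rw [← c.hU.fromSpec_preimage_basicOpen]
    rfl
  rw [h1] at h2
  rw [← h2]
  rfl

lemma mem_basicOpen_V_iff (c : Chart i j) (r : c.RC) (y : Y) (hy : y ∈ c.V) :
    y ∈ Y.basicOpen (c.fC r) ↔
      PrimeSpectrum.comap c.fC (c.hV.primeIdealOf ⟨y, hy⟩) ∈ PrimeSpectrum.basicOpen r := by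
  have h1 : c.hV.fromSpec (c.hV.primeIdealOf ⟨y, hy⟩) = y := c.hV.fromSpec_primeIdealOf _
  have h2 : c.hV.primeIdealOf ⟨y, hy⟩ ∈ PrimeSpectrum.basicOpen (c.fC r) ↔
      c.hV.fromSpec (c.hV.primeIdealOf ⟨y, hy⟩) ∈ Y.basicOpen (c.fC r) := by
    rw [← c.hV.fromSpec_preimage_basicOpen]
    rfl
  rw [h1] at h2
  rw [← h2]
  rfl

/-- charts containing a given point of `X` are directed -/
lemma exists_le_of_mem_U (c c' : Chart i j) (x : X) (hx : x ∈ c.U) (hx' : x ∈ c'.U) :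
    ∃ c'' : Chart i j, c'' ≤ c ∧ c'' ≤ c' ∧ x ∈ c''.U := by
  have h1 : c.hU.fromSpec (c.hU.primeIdealOf ⟨x, hx⟩) = x := c.hU.fromSpec_primeIdealOf _
  obtain ⟨r, hsr, hr⟩ := c.exists_adapted (c.toPair.inf c'.toPair)
    (PrimeSpectrum.comap c.gC (c.hU.primeIdealOf ⟨x, hx⟩))
    (Or.inr ⟨_, rfl, by rw [h1]; exact ⟨hx, hx'⟩⟩)
  refine ⟨c.basicChart r, hr.trans (Pair.inf_le_left _ _), hr.trans (Pair.inf_le_right _ _), ?_⟩
  exact (c.mem_basicOpen_U_iff r x hx).2 hsr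

/-- charts containing a given point of `Y` are directed -/
lemma exists_le_of_mem_V (c c' : Chart i j) (y : Y) (hy : y ∈ c.V) (hy' : y ∈ c'.V) :
    ∃ c'' : Chart i j, c'' ≤ c ∧ c'' ≤ c' ∧ y ∈ c''.V := by
  have h1 : c.hV.fromSpec (c.hV.primeIdealOf ⟨y, hy⟩) = y := c.hV.fromSpec_primeIdealOf _
  obtain ⟨r, hsr, hr⟩ := c.exists_adapted (c.toPair.inf c'.toPair)
    (PrimeSpectrum.comap c.fC (c.hV.primeIdealOf ⟨y, hy⟩))
    (Or.inl ⟨_, rfl, by rw [h1]; exact ⟨hy, hy'⟩⟩)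
  refine ⟨c.basicChart r, hr.trans (Pair.inf_le_left _ _), hr.trans (Pair.inf_le_right _ _), ?_⟩
  exact (c.mem_basicOpen_V_iff r y hy).2 hsr

end Chart

variable (i j) in
/-- the covering hypotheses: charts cover `X` and `Y` -/
structure Covers : Prop where
  covX : ∀ x : X, ∃ c : Chart i j, x ∈ c.U
  covY : ∀ y : Y, ∃ c : Chart i j, y ∈ c.V

namespace Covers

variable (H : Covers i j)

/-- the directed family of opens of `X` -/
def dirX : DirOpens X (Chart i j) where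
  U c := c.U
  mono h := h.1
  cov := H.covX
  dir := Chart.exists_le_of_mem_U

/-- the directed family of opens of `Y` -/
def dirY : DirOpens Y (Chart i j) where
  U c := c.V
  mono h := h.2
  cov := H.covY
  dir := Chart.exists_le_of_mem_V

end Covers

namespace Chart

/-- the chart map on the `X` side -/
noncomputable def uX (c : Chart i j) : (c.U : Scheme.{u}) ⟶ c.S :=
  c.hU.isoSpec.hom ≫ c.M.jA'

/-- the chart map on the `Y` side -/
noncomputable def uY (c : Chart i j) : (c.V : Scheme.{u}) ⟶ c.S :=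
  c.hV.isoSpec.hom ≫ c.M.jB

lemma homOfLE_isoSpec_hom {S : Scheme.{u}} {U U' : S.Opens} (hU : IsAffineOpen U)
    (hU' : IsAffineOpen U') (h : U ≤ U') :
    S.homOfLE h ≫ hU'.isoSpec.hom = hU.isoSpec.hom ≫ Spec.map (S.presheaf.map (homOfLE h).op) := by
  have h1 : Spec.map (S.presheaf.map (homOfLE h).op) ≫ hU'.isoSpec.inv =
      hU.isoSpec.inv ≫ S.homOfLE h := by
    rw [← cancel_mono U'.ι, Category.assoc, Category.assoc, IsAffineOpen.isoSpec_inv_ι,
      Scheme.homOfLE_ι, IsAffineOpen.isoSpec_inv_ι]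
    exact hU'.map_fromSpec hU (homOfLE h).op
  rw [← cancel_epi hU.isoSpec.inv, ← Category.assoc, ← h1, Category.assoc, Iso.inv_hom_id,
    Category.comp_id, Iso.inv_hom_id_assoc]

lemma uX_naturality {c c' : Chart i j} (h : c ≤ c') :
    X.homOfLE h.1 ≫ uX c' = uX c ≫ tr h := by
  unfold uX
  rw [← Category.assoc, homOfLE_isoSpec_hom c.hU c'.hU h.1, Category.assoc, Category.assoc]
  congr 1
  change Spec.map (CommRingCat.ofHom (res h.1)) ≫ Spec.map (CommRingCat.ofHom c'.gC) =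
    Spec.map (CommRingCat.ofHom c.gC) ≫ Spec.map (CommRingCat.ofHom (Pair.resR h))
  rw [← Spec.map_comp, ← Spec.map_comp, ← CommRingCat.ofHom_comp, ← CommRingCat.ofHom_comp]
  rfl

lemma uY_naturality {c c' : Chart i j} (h : c ≤ c') :
    Y.homOfLE h.2 ≫ uY c' = uY c ≫ tr h := by
  unfold uY
  rw [← Category.assoc, homOfLE_isoSpec_hom c.hV c'.hV h.2, Category.assoc, Category.assoc]
  congr 1
  change Spec.map (CommRingCat.ofHom (res h.2)) ≫ Spec.map (CommRingCat.ofHom c'.fC) =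
    Spec.map (CommRingCat.ofHom c.fC) ≫ Spec.map (CommRingCat.ofHom (Pair.resR h))
  rw [← Spec.map_comp, ← Spec.map_comp, ← CommRingCat.ofHom_comp, ← CommRingCat.ofHom_comp]
  rfl

end Chart

end H9PO
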