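import Mathlib
import Groth.Agent.Lib.Helper9.PO.Glue2

universe u

open AlgebraicGeometry CategoryTheory Opposite TopologicalSpace Limits

namespace H9PO

open H9Ferrand H9ThickAff

variable {X Y Z : Scheme.{u}} (i : Z ⟶ X) (j : Z ⟶ Y) [IsClosedImmersion i]

/-- the glued pushout -/
noncomputable def PO : Scheme.{u} := colimit (Chart.F (i := i) (j := j))

variable {i j}

namespace Chart

/-- the chart inclusions -/
noncomputable def ι (c : Chart i j) : c.S ⟶ PO i j := colimit.ι (Chart.F (i := i) (j := j)) c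

instance (c : Chart i j) : IsOpenImmersion c.ι :=
  inferInstanceAs (IsOpenImmersion (colimit.ι (Chart.F (i := i) (j := j)) c))

lemma tr_ι {c c' : Chart i j} (h : c ≤ c') : tr h ≫ c'.ι = c.ι :=
  colimit.w (Chart.F (i := i) (j := j)) (homOfLE h)

lemma ι_eq_ι_iff {c c' : Chart i j} {x : c.S} {x' : c'.S} :
    c.ι x = c'.ι x' ↔ ∃ (c'' : Chart i j) (h : c'' ≤ c) (h' : c'' ≤ c') (s : c''.S),
      tr h s = x ∧ tr h' s = x' := by
  refine (Scheme.IsLocallyDirected.ι_eq_ι_iff (Chart.F (i := i) (j := j))).trans ?_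
  constructor
  · rintro ⟨c'', f, f', s, hs, hs'⟩
    exact ⟨c'', f.le, f'.le, s, hs, hs'⟩
  · rintro ⟨c'', h, h', s, hs, hs'⟩
    exact ⟨c'', homOfLE h, homOfLE h', s, hs, hs'⟩

lemma ι_jointly_surjective (p : PO i j) : ∃ (c : Chart i j) (s : c.S), c.ι s = p :=
  Scheme.IsLocallyDirected.ι_jointly_surjective (Chart.F (i := i) (j := j)) p

end Chart

namespace Covers

variable (H : Covers i j)

/-- the map `X ⟶ PO` -/
noncomputable def a : X ⟶ PO i j :=
  H.dirX.glue (fun c => c.uX ≫ c.ι) (fun c c' h => by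
    change X.homOfLE h.1 ≫ c'.uX ≫ c'.ι = c.uX ≫ c.ι
    rw [← Category.assoc, Chart.uX_naturality h, Category.assoc, Chart.tr_ι])

/-- the map `Y ⟶ PO` -/
noncomputable def b : Y ⟶ PO i j :=
  H.dirY.glue (fun c => c.uY ≫ c.ι) (fun c c' h => by
    change Y.homOfLE h.2 ≫ c'.uY ≫ c'.ι = c.uY ≫ c.ι
    rw [← Category.assoc, Chart.uY_naturality h, Category.assoc, Chart.tr_ι])

@[reassoc]
lemma ι_a (c : Chart i j) : c.U.ι ≫ H.a = c.uX ≫ c.ι := H.dirX.ι_glue _ _ c

@[reassoc]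
lemma ι_b (c : Chart i j) : c.V.ι ≫ H.b = c.uY ≫ c.ι := H.dirY.ι_glue _ _ c

end Covers

namespace Chart

lemma resLE_isoSpec_hom {S T : Scheme.{u}} (f : S ⟶ T) {U : T.Opens} {W : S.Opens}
    (hU : IsAffineOpen U) (hW : IsAffineOpen W) (e : W ≤ f ⁻¹ᵁ U) :
    f.resLE U W e ≫ hU.isoSpec.hom = hW.isoSpec.hom ≫ Spec.map (f.appLE U W e) := by
  have h1 : Spec.map (f.appLE U W e) ≫ hU.isoSpec.inv = hW.isoSpec.inv ≫ f.resLE U W e := by
    rw [← cancel_mono U.ι, Category.assoc, Category.assoc, IsAffineOpen.isoSpec_inv_ι,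
      Scheme.Hom.resLE_comp_ι, IsAffineOpen.isoSpec_inv_ι_assoc]
    exact IsAffineOpen.SpecMap_appLE_fromSpec f hU hW e
  rw [← cancel_epi hW.isoSpec.inv, ← Category.assoc, ← h1, Category.assoc, Iso.inv_hom_id,
    Category.comp_id, Iso.inv_hom_id_assoc]

lemma leW (c : Chart i j) : c.W ≤ i ⁻¹ᵁ c.U := le_refl (i ⁻¹ᵁ c.U)
lemma leW' (c : Chart i j) : c.W ≤ j ⁻¹ᵁ c.V := c.e.le

/-- the chart square commutes -/
lemma resLE_uX_eq (c : Chart i j) :
    i.resLE c.U c.W c.leW ≫ c.uX = j.resLE c.V c.W c.leW' ≫ c.uY := by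
  unfold uX uY
  rw [← Category.assoc, ← Category.assoc, resLE_isoSpec_hom i c.hU c.hW c.leW,
    resLE_isoSpec_hom j c.hV c.hW c.leW', Category.assoc, Category.assoc]
  congr 1
  have h1 : i.appLE c.U c.W c.leW = CommRingCat.ofHom c.pC :=
    (Scheme.Hom.app_eq_appLE i).symm
  have h2 : j.appLE c.V c.W c.leW' = CommRingCat.ofHom c.qC := rfl
  rw [h1, h2]
  exact c.M.sq.symm

end Chart

namespace Covers

variable (H : Covers i j)

/-- the square commutes -/
lemma comm : i ≫ H.a = j ≫ H.b := by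
  let D : DirOpens Z (Chart i j) :=
    { U := fun c => c.W
      mono := fun h => Pair.W_le h
      cov := fun z => by
        obtain ⟨c, hc⟩ := H.covX (i z)
        exact ⟨c, hc⟩
      dir := fun c c' z hz hz' => by
        obtain ⟨c'', h, h', hz''⟩ := Chart.exists_le_of_mem_U c c' (i z) hz hz'
        exact ⟨c'', h, h', hz''⟩ }
  apply D.hom_ext
  intro c
  change c.W.ι ≫ i ≫ H.a = c.W.ι ≫ j ≫ H.b
  rw [← Scheme.Hom.resLE_comp_ι_assoc i c.leW, ← Scheme.Hom.resLE_comp_ι_assoc j c.leW',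
    H.ι_a, H.ι_b, ← Category.assoc, ← Category.assoc, c.resLE_uX_eq]

end Covers

end H9PO
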