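import Mathlib
import Groth.Agent.Lib.Helper9.PO.Glue3

universe u

open AlgebraicGeometry CategoryTheory Opposite TopologicalSpace Limits

namespace H9PO

open H9Ferrand H9ThickAff

variable {X Y Z : Scheme.{u}} {i : Z ⟶ X} {j : Z ⟶ Y} [IsClosedImmersion i]

namespace Chart

lemma jA'_ι_eq (H : Covers i j) (c : Chart i j) : c.M.jA' ≫ c.ι = c.hU.fromSpec ≫ H.a := by
  rw [← c.hU.isoSpec_inv_ι, Category.assoc, H.ι_a]
  unfold uX
  rw [Category.assoc, Iso.inv_hom_id_assoc]

lemma jB_ι_eq (H : Covers i j) (c : Chart i j) : c.M.jB ≫ c.ι = c.hV.fromSpec ≫ H.b := by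
  rw [← c.hV.isoSpec_inv_ι, Category.assoc, H.ι_b]
  unfold uY
  rw [Category.assoc, Iso.inv_hom_id_assoc]

lemma kB_fromSpec (c : Chart i j) : c.M.kB ≫ c.hV.fromSpec = c.hW.fromSpec ≫ j :=
  IsAffineOpen.SpecMap_appLE_fromSpec j c.hV c.hW c.leW'

lemma kA'_fromSpec (c : Chart i j) : c.M.kA' ≫ c.hU.fromSpec = c.hW.fromSpec ≫ i := by
  have h1 : i.appLE c.U c.W c.leW = CommRingCat.ofHom c.pC :=
    (Scheme.Hom.app_eq_appLE i).symm
  have := IsAffineOpen.SpecMap_appLE_fromSpec i c.hU c.hW c.leW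
  rw [h1] at this
  exact this

lemma jB_tr {c c' : Chart i j} (h : c ≤ c') :
    c.M.jB ≫ tr h = Spec.map (CommRingCat.ofHom (res h.2)) ≫ c'.M.jB := by
  change Spec.map (CommRingCat.ofHom c.fC) ≫ Spec.map (CommRingCat.ofHom (Pair.resR h)) =
    Spec.map (CommRingCat.ofHom (res h.2)) ≫ Spec.map (CommRingCat.ofHom c'.fC)
  rw [← Spec.map_comp, ← Spec.map_comp, ← CommRingCat.ofHom_comp, ← CommRingCat.ofHom_comp]
  rfl

lemma jA'_tr {c c' : Chart i j} (h : c ≤ c') :
    c.M.jA' ≫ tr h = Spec.map (CommRingCat.ofHom (res h.1)) ≫ c'.M.jA' := by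
  change Spec.map (CommRingCat.ofHom c.gC) ≫ Spec.map (CommRingCat.ofHom (Pair.resR h)) =
    Spec.map (CommRingCat.ofHom (res h.1)) ≫ Spec.map (CommRingCat.ofHom c'.gC)
  rw [← Spec.map_comp, ← Spec.map_comp, ← CommRingCat.ofHom_comp, ← CommRingCat.ofHom_comp]
  rfl

section desc

variable {T : Scheme.{u}} (α : X ⟶ T) (β : Y ⟶ T) (w : i ≫ α = j ≫ β)

include w in
lemma desc_cond (c : Chart i j) :
    c.M.kB ≫ (c.hV.fromSpec ≫ β) = c.M.kA' ≫ (c.hU.fromSpec ≫ α) := by
  rw [← Category.assoc, ← Category.assoc, c.kB_fromSpec, c.kA'_fromSpec, Category.assoc,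
    Category.assoc, w]

/-- the map from a chart to a test scheme -/
noncomputable def descC (c : Chart i j) : c.S ⟶ T :=
  (c.M.exists_desc_hom (c.hV.fromSpec ≫ β) (c.hU.fromSpec ≫ α) (desc_cond α β w c)).choose

lemma jB_descC (c : Chart i j) : c.M.jB ≫ descC α β w c = c.hV.fromSpec ≫ β :=
  (c.M.exists_desc_hom (c.hV.fromSpec ≫ β) (c.hU.fromSpec ≫ α) (desc_cond α β w c)).choose_spec.1

lemma jA'_descC (c : Chart i j) : c.M.jA' ≫ descC α β w c = c.hU.fromSpec ≫ α :=
  (c.M.exists_desc_hom (c.hV.fromSpec ≫ β) (c.hU.fromSpec ≫ α) (desc_cond α β w c)).choose_spec.2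

lemma tr_descC {c c' : Chart i j} (h : c ≤ c') : tr h ≫ descC α β w c' = descC α β w c := by
  apply c.M.hom_ext
  · rw [← Category.assoc, jB_tr, Category.assoc, jB_descC, jB_descC, ← Category.assoc]
    congr 1
    exact c'.hV.map_fromSpec c.hV (homOfLE h.2).op
  · rw [← Category.assoc, jA'_tr, Category.assoc, jA'_descC, jA'_descC, ← Category.assoc]
    congr 1
    exact c'.hU.map_fromSpec c.hU (homOfLE h.1).op

/-- the descent map from the glued pushout -/
noncomputable def desc : PO i j ⟶ T :=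
  colimit.desc (Chart.F (i := i) (j := j))
    { pt := T
      ι := { app := fun c => descC α β w c
             naturality := fun c c' f => by
               change tr f.le ≫ descC α β w c' = descC α β w c ≫ 𝟙 T
               rw [tr_descC, Category.comp_id] } }

lemma ι_desc (c : Chart i j) : c.ι ≫ desc α β w = descC α β w c :=
  colimit.ι_desc _ c

end desc

end Chart

namespace Covers

variable (H : Covers i j)

lemma hom_ext {T : Scheme.{u}} {m m' : PO i j ⟶ T} (ha : H.a ≫ m = H.a ≫ m')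
    (hb : H.b ≫ m = H.b ≫ m') : m = m' := by
  apply colimit.hom_ext
  intro c
  change c.ι ≫ m = c.ι ≫ m'
  apply c.M.hom_ext
  · rw [← Category.assoc, ← Category.assoc, c.jB_ι_eq H, Category.assoc, Category.assoc, hb]
  · rw [← Category.assoc, ← Category.assoc, c.jA'_ι_eq H, Category.assoc, Category.assoc, ha]

lemma a_desc {T : Scheme.{u}} (α : X ⟶ T) (β : Y ⟶ T) (w : i ≫ α = j ≫ β) :
    H.a ≫ Chart.desc α β w = α := by
  apply H.dirX.hom_ext
  intro c
  change c.U.ι ≫ H.a ≫ _ = c.U.ι ≫ α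
  rw [H.ι_a_assoc, Chart.ι_desc]
  unfold Chart.uX
  rw [Category.assoc, Chart.jA'_descC, IsAffineOpen.isoSpec_hom_fromSpec_assoc]

lemma b_desc {T : Scheme.{u}} (α : X ⟶ T) (β : Y ⟶ T) (w : i ≫ α = j ≫ β) :
    H.b ≫ Chart.desc α β w = β := by
  apply H.dirY.hom_ext
  intro c
  change c.V.ι ≫ H.b ≫ _ = c.V.ι ≫ β
  rw [H.ι_b_assoc, Chart.ι_desc]
  unfold Chart.uY
  rw [Category.assoc, Chart.jB_descC, IsAffineOpen.isoSpec_hom_fromSpec_assoc]

/-- the glued square is a pushout of schemes -/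
theorem isPushout : IsPushout i j H.a H.b :=
  ⟨⟨H.comm⟩, ⟨PushoutCocone.IsColimit.mk _
    (fun s => Chart.desc s.inl s.inr s.condition)
    (fun s => H.a_desc s.inl s.inr s.condition)
    (fun s => H.b_desc s.inl s.inr s.condition)
    (fun s _ h1 h2 => H.hom_ext
      (h1.trans (H.a_desc s.inl s.inr s.condition).symm)
      (h2.trans (H.b_desc s.inl s.inr s.condition).symm))⟩⟩

end Covers

end H9PO
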