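import Mathlib
import Groth.Agent.Lib.Helper9.PO.Glue4

universe u

open AlgebraicGeometry CategoryTheory Opposite TopologicalSpace Limits

namespace H9PO

open H9Ferrand H9ThickAff

variable {X Y Z : Scheme.{u}} {i : Z ⟶ X} {j : Z ⟶ Y} [IsClosedImmersion i]

namespace Covers

variable (H : Covers i j)

lemma a_apply (c : Chart i j) (x : X) (hx : x ∈ c.U) :
    H.a x = c.ι (PrimeSpectrum.comap c.gC (c.hU.primeIdealOf ⟨x, hx⟩)) := by
  have := congr($(H.ι_a c) ⟨x, hx⟩)
  exact this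

lemma b_apply (c : Chart i j) (y : Y) (hy : y ∈ c.V) :
    H.b y = c.ι (PrimeSpectrum.comap c.fC (c.hV.primeIdealOf ⟨y, hy⟩)) := by
  have := congr($(H.ι_b c) ⟨y, hy⟩)
  exact this

lemma a_preimage (c : Chart i j) : H.a ⁻¹ᵁ c.ι.opensRange = c.U := by
  ext x
  constructor
  · rintro ⟨s, hs⟩
    obtain ⟨c', hx'⟩ := H.covX x
    have h1 : c'.hU.fromSpec (c'.hU.primeIdealOf ⟨x, hx'⟩) = x := c'.hU.fromSpec_primeIdealOf _
    rw [H.a_apply c' x hx'] at hs
    obtain ⟨c'', h, h', s'', hs1, hs2⟩ := Chart.ι_eq_ι_iff.1 hs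
    have := ((Chart.range_tr h').2 (c'.hU.primeIdealOf ⟨x, hx'⟩)).1 ⟨s'', hs2⟩
    rw [h1] at this
    exact h.1 this
  · intro hx
    exact ⟨_, (H.a_apply c x hx).symm⟩

lemma b_preimage (c : Chart i j) : H.b ⁻¹ᵁ c.ι.opensRange = c.V := by
  ext y
  constructor
  · rintro ⟨s, hs⟩
    obtain ⟨c', hy'⟩ := H.covY y
    have h1 : c'.hV.fromSpec (c'.hV.primeIdealOf ⟨y, hy'⟩) = y := c'.hV.fromSpec_primeIdealOf _
    rw [H.b_apply c' y hy'] at hs
    obtain ⟨c'', h, h', s'', hs1, hs2⟩ := Chart.ι_eq_ι_iff.1 hs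
    have := ((Chart.range_tr h').1 (c'.hV.primeIdealOf ⟨y, hy'⟩)).1 ⟨s'', hs2⟩
    rw [h1] at this
    exact h.2 this
  · intro hy
    exact ⟨_, (H.b_apply c y hy).symm⟩

/-- the pullback square of a chart on the `Y` side -/
lemma isPullback_b (c : Chart i j) : IsPullback c.M.jB c.hV.fromSpec c.ι H.b :=
  IsOpenImmersion.isPullback c.M.jB c.hV.fromSpec c.ι H.b (c.jB_ι_eq H).symm
    (by rw [H.b_preimage, IsAffineOpen.opensRange_fromSpec])

/-- the pullback square of a chart on the `X` side -/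
lemma isPullback_a (c : Chart i j) : IsPullback c.M.jA' c.hU.fromSpec c.ι H.a :=
  IsOpenImmersion.isPullback c.M.jA' c.hU.fromSpec c.ι H.a (c.jA'_ι_eq H).symm
    (by rw [H.a_preimage, IsAffineOpen.opensRange_fromSpec])

/-- the open cover of the glued pushout by charts -/
noncomputable def cover : (PO i j).OpenCover :=
  Scheme.IsLocallyDirected.openCover (Chart.F (i := i) (j := j))

lemma of_chart_b {P : MorphismProperty Scheme.{u}} [IsZariskiLocalAtTarget P]
    (h : ∀ c : Chart i j, P c.M.jB) : P H.b := by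
  refine IsZariskiLocalAtTarget.of_openCover (cover (i := i) (j := j)) ?_
  intro c
  have hpb : IsPullback c.hV.fromSpec c.M.jB H.b c.ι := (H.isPullback_b c).flip
  change P (pullback.snd H.b c.ι)
  rw [← hpb.isoPullback_inv_snd]
  exact (P.cancel_left_of_respectsIso _ _).2 (h c)

lemma of_chart_a {P : MorphismProperty Scheme.{u}} [IsZariskiLocalAtTarget P]
    (h : ∀ c : Chart i j, P c.M.jA') : P H.a := by
  refine IsZariskiLocalAtTarget.of_openCover (cover (i := i) (j := j)) ?_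
  intro c
  have hpb : IsPullback c.hU.fromSpec c.M.jA' H.a c.ι := (H.isPullback_a c).flip
  change P (pullback.snd H.a c.ι)
  rw [← hpb.isoPullback_inv_snd]
  exact (P.cancel_left_of_respectsIso _ _).2 (h c)

instance : IsClosedImmersion H.b :=
  H.of_chart_b (P := @IsClosedImmersion) fun c =>
    IsClosedImmersion.spec_of_surjective _ (MSqTop.f_surjective c.M)

end Covers

end H9PO
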