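import Mathlib
import Groth.Agent.Lib.Helper9.PO.Glue5

universe u

open AlgebraicGeometry CategoryTheory Opposite TopologicalSpace Limits

namespace H9PO

open H9Ferrand H9ThickAff

lemma exists_lift_of_surj {A' A C : Type*} [CommRing A'] [CommRing A] [CommRing C]
    (p : A' →+* A) (hp : Function.Surjective p) (φ : A' →+* C)
    (h : ∀ a', p a' = 0 → φ a' = 0) : ∃ χ : A →+* C, ∀ a', χ (p a') = φ a' :=
  ⟨RingHom.liftOfRightInverse p (Function.surjInv hp) (Function.rightInverse_surjInv hp)
    ⟨φ, fun a' ha' => RingHom.mem_ker.2 (h a' (RingHom.mem_ker.1 ha'))⟩,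
    fun a' => RingHom.liftOfRightInverse_comp_apply _ _ _ _ a'⟩

namespace MSqTop

variable {R B A' A : Type u} [CommRing R] [CommRing B] [CommRing A'] [CommRing A]
variable (M : MSq R B A' A)

/-- a Milnor square is a pushout of commutative rings -/
theorem isPushout_ring :
    IsPushout (CommRingCat.ofHom M.g) (CommRingCat.ofHom M.f)
      (CommRingCat.ofHom M.p) (CommRingCat.ofHom M.q) := by
  have hker : ∀ (s : PushoutCocone (CommRingCat.ofHom M.g) (CommRingCat.ofHom M.f)),
      ∀ a' : A', M.p a' = 0 → s.inl.hom a' = 0 := by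
    intro s a' ha'
    obtain ⟨x, hx1, hx2⟩ := exists_of_mem_ker_p M a' ha'
    have h1 : s.inl.hom (M.g x) = s.inr.hom (M.f x) := congr($(s.condition).hom x)
    rw [← hx2, h1, hx1, map_zero]
  refine ⟨⟨?_⟩, ⟨PushoutCocone.IsColimit.mk _
    (fun s => CommRingCat.ofHom (exists_lift_of_surj M.p M.surj s.inl.hom (hker s)).choose)
    ?_ ?_ ?_⟩⟩
  · ext x
    exact (M.comm_apply x).symm
  · intro s
    ext a'
    exact (exists_lift_of_surj M.p M.surj s.inl.hom (hker s)).choose_spec a'
  · intro s
    ext b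
    obtain ⟨x, rfl⟩ := f_surjective M b
    change (exists_lift_of_surj M.p M.surj s.inl.hom (hker s)).choose (M.q (M.f x)) =
      s.inr.hom (M.f x)
    rw [M.comm_apply]
    have h1 : s.inl.hom (M.g x) = s.inr.hom (M.f x) := congr($(s.condition).hom x)
    rw [← h1]
    exact (exists_lift_of_surj M.p M.surj s.inl.hom (hker s)).choose_spec (M.g x)
  · intro s m h1 h2
    ext a
    obtain ⟨a', rfl⟩ := M.surj a
    have h3 : m.hom (M.p a') = s.inl.hom a' := congr($(h1).hom a')
    change m.hom (M.p a') = (exists_lift_of_surj M.p M.surj s.inl.hom (hker s)).choose (M.p a')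
    rw [h3]
    exact ((exists_lift_of_surj M.p M.surj s.inl.hom (hker s)).choose_spec a').symm

/-- the spectrum of a Milnor square is a pullback square -/
theorem isPullback_Spec : IsPullback M.kA' M.kB M.jA' M.jB :=
  isPullback_SpecMap_of_isPushout _ _ _ _ (isPushout_ring M)

end MSqTop

end H9PO
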