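import Mathlib
import Groth.Agent.Lib.Helper9.PO.Glue6

universe u

open AlgebraicGeometry CategoryTheory Opposite TopologicalSpace Limits

namespace H9PO

open H9Ferrand H9ThickAff

variable {X Y Z : Scheme.{u}} {i : Z ⟶ X} {j : Z ⟶ Y} [IsClosedImmersion i]

namespace Covers

variable (H : Covers i j)

/-- the affine open cover of `X` by charts -/
noncomputable def specCoverX : X.OpenCover where
  I₀ := Chart i j
  X c := Spec Γ(X, c.U)
  f c := c.hU.fromSpec
  mem₀ := by
    rw [Scheme.presieve₀_mem_precoverage_iff]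
    refine ⟨fun x => ?_, inferInstance⟩
    obtain ⟨c, hc⟩ := H.covX x
    exact ⟨c, c.hU.primeIdealOf ⟨x, hc⟩, c.hU.fromSpec_primeIdealOf _⟩

omit H in
lemma isPullback_W (c : Chart i j) : IsPullback c.hW.fromSpec c.M.kA' i c.hU.fromSpec :=
  (IsOpenImmersion.isPullback c.M.kA' c.hW.fromSpec c.hU.fromSpec i (c.kA'_fromSpec).symm
    (by rw [IsAffineOpen.opensRange_fromSpec, IsAffineOpen.opensRange_fromSpec]; rfl)).flip

lemma isPullback_chart (c : Chart i j) :
    IsPullback c.M.kA' (c.hW.fromSpec ≫ j) (c.M.jA' ≫ c.ι) H.b := by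
  have h1 : IsPullback c.M.kB c.M.kA' c.M.jB c.M.jA' := (MSqTop.isPullback_Spec c.M).flip
  have h2 : IsPullback c.hV.fromSpec c.M.jB H.b c.ι := (H.isPullback_b c).flip
  have h3 := (h1.paste_horiz h2).flip
  rw [c.kB_fromSpec] at h3
  exact h3

/-- the glued square is cartesian -/
theorem isPullback : IsPullback i j H.a H.b := by
  refine Scheme.isPullback_of_openCover i j H.a H.b H.specCoverX ?_
  intro c
  change IsPullback (pullback.snd i c.hU.fromSpec) (pullback.fst i c.hU.fromSpec ≫ j)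
    (c.hU.fromSpec ≫ H.a) H.b
  rw [← c.jA'_ι_eq H]
  refine (H.isPullback_chart c).of_iso (isPullback_W c).isoPullback (Iso.refl _) (Iso.refl _)
    (Iso.refl _) ?_ ?_ ?_ ?_
  · simp
  · simp
  · simp
  · simp

end Covers

end H9PO
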