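import Mathlib
import Groth.Agent.Lib.Helper9.PO.Glue7
import Groth.Agent.Lib.Helper9.PO.Alg2

universe u

open AlgebraicGeometry CategoryTheory Opposite TopologicalSpace Limits

namespace H9PO

open H9Ferrand H9ThickAff

variable {X Y Z : Scheme.{u}} {i : Z ⟶ X} {j : Z ⟶ Y} [IsClosedImmersion i]

lemma res_surjective_of_ge {S : Scheme.{u}} {U V : S.Opens} (h : U ≤ V) (h' : V ≤ U) :
    Function.Surjective (res h) := by
  intro s
  refine ⟨res h' s, ?_⟩
  rw [res_res, res_self]

namespace Chart

lemma qC_surjective [IsClosedImmersion j] (c : Chart i j) : Function.Surjective c.qC := by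
  have h1 : Function.Surjective (j.app c.V).hom := j.app_surjective c.V c.hV
  have h2 : Function.Surjective (res c.leW') := res_surjective_of_ge _ c.e.ge
  exact h2.comp h1

lemma qC_isIntegral [IsIntegralHom j] (c : Chart i j) : c.qC.IsIntegral := by
  have h1 : (j.app c.V).hom.IsIntegral := IsIntegralHom.isIntegral_app j c.V c.hV
  have h2 : (res c.leW').IsIntegral :=
    RingHom.isIntegral_of_surjective _ (res_surjective_of_ge _ c.e.ge)
  exact RingHom.IsIntegral.trans _ _ h1 h2

end Chart

namespace Covers

variable (H : Covers i j)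

instance : IsAffineHom H.a :=
  haveI : IsZariskiLocalAtTarget @IsAffineHom.{u} :=
    @HasAffineProperty.instIsZariskiLocalAtTarget _ _ instHasAffinePropertyIsAffineHomIsAffine
  H.of_chart_a (P := @IsAffineHom) fun c => by
    unfold MSq.jA'
    infer_instance

instance [IsClosedImmersion j] : IsClosedImmersion H.a :=
  H.of_chart_a (P := @IsClosedImmersion) fun c =>
    IsClosedImmersion.spec_of_surjective _ (MSqTop.g_surjective c.M c.qC_surjective)

instance [IsIntegralHom j] : IsIntegralHom H.a :=
  haveI : IsZariskiLocalAtTarget @IsIntegralHom.{u} :=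
    @HasAffineProperty.instIsZariskiLocalAtTarget _ _ IsIntegralHom.hasAffineProperty
  H.of_chart_a (P := @IsIntegralHom) fun c =>
    IsIntegralHom.SpecMap_iff.2 (MSqTop.g_isIntegral c.M c.qC_isIntegral)

lemma a_or_b (p : PO i j) : (∃ x, H.a x = p) ∨ (∃ y, H.b y = p) := by
  obtain ⟨c, s, rfl⟩ := Chart.ι_jointly_surjective p
  rcases c.M.jointly_surjective s with ⟨v, rfl⟩ | ⟨u, rfl⟩
  · right
    refine ⟨c.hV.fromSpec v, ?_⟩
    have := congr($(c.jB_ι_eq H) v)
    exact this.symm
  · left
    refine ⟨c.hU.fromSpec u, ?_⟩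
    have := congr($(c.jA'_ι_eq H) u)
    exact this.symm

lemma b_surjective (hi : Function.Surjective i) : Function.Surjective H.b := by
  intro p
  rcases H.a_or_b p with ⟨x, rfl⟩ | ⟨y, rfl⟩
  · obtain ⟨z, rfl⟩ := hi x
    refine ⟨j z, ?_⟩
    have := congr($(H.comm) z)
    exact this.symm
  · exact ⟨y, rfl⟩

end Covers

/-- **Main theorem**: if compatible affine charts cover `X` and `Y`, the pushout of a closed
immersion `i` and `j` exists, is cartesian, with `Y → P` a closed immersion and `X → P` affine. -/
theorem exists_pushout (H : Covers i j) :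
    ∃ (P : Scheme.{u}) (a : X ⟶ P) (b : Y ⟶ P), IsPushout i j a b ∧ IsPullback i j a b ∧
      IsClosedImmersion b ∧ IsAffineHom a ∧ (IsIntegralHom j → IsIntegralHom a) ∧
      (IsClosedImmersion j → IsClosedImmersion a) ∧
      (Function.Surjective i → Function.Surjective b) :=
  ⟨PO i j, H.a, H.b, H.isPushout, H.isPullback, inferInstance, inferInstance,
    fun _ => inferInstance, fun _ => inferInstance, H.b_surjective⟩

end H9PO
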