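import Mathlib
import Groth.Agent.Lib.Helper9.PO.Glue8

universe u

open AlgebraicGeometry CategoryTheory Opposite TopologicalSpace Limits

namespace H9PO

open H9Ferrand H9ThickAff

namespace MSqTop

variable {R B A' A : Type u} [CommRing R] [CommRing B] [CommRing A'] [CommRing A]
variable (M : MSq R B A' A)

/-- if `q` is finite then so is `g` -/
lemma g_finite (hq : M.q.Finite) : M.g.Finite := by
  letI := M.g.toAlgebra
  letI := M.q.toAlgebra
  have hq' : Module.Finite B A := hq
  obtain ⟨s, hs⟩ := hq'.fg_top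
  choose lift hlift using M.surj
  classical
  have key : ∀ a ∈ Submodule.span B (s : Set A),
      ∃ a'' ∈ Submodule.span R ((s.image lift : Finset A') : Set A'), M.p a'' = a := by
    intro a ha
    induction ha using Submodule.span_induction with
    | mem a ha =>
      exact ⟨lift a, Submodule.subset_span (Finset.mem_image_of_mem _ ha), hlift a⟩
    | zero => exact ⟨0, Submodule.zero_mem _, map_zero _⟩
    | add a₁ a₂ _ _ h₁ h₂ =>
      obtain ⟨x₁, hx₁, e₁⟩ := h₁
      obtain ⟨x₂, hx₂, e₂⟩ := h₂
      exact ⟨x₁ + x₂, Submodule.add_mem _ hx₁ hx₂, by rw [map_add, e₁, e₂]⟩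
    | smul b a _ h =>
      obtain ⟨x, hx, e⟩ := h
      obtain ⟨r, rfl⟩ := f_surjective M b
      refine ⟨r • x, Submodule.smul_mem _ _ hx, ?_⟩
      change M.p (M.g r * x) = M.q (M.f r) * a
      rw [map_mul, e, M.comm_apply]
  refine ⟨⟨insert 1 (s.image lift), ?_⟩⟩
  rw [eq_top_iff]
  intro a' _
  obtain ⟨a'', ha'', e⟩ := key (M.p a') (by rw [hs]; trivial)
  have hker : M.p (a' - a'') = 0 := by rw [map_sub, e, sub_self]
  obtain ⟨x, -, hx⟩ := exists_of_mem_ker_p M _ hker
  have h1 : a' = a'' + x • (1 : A') := by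
    change a' = a'' + M.g x * 1
    rw [mul_one, hx]; ring
  rw [h1]
  apply Submodule.add_mem
  · exact Submodule.span_mono (by
      intro y hy
      exact Finset.mem_insert_of_mem hy) ha''
  · exact Submodule.smul_mem _ _ (Submodule.subset_span (Finset.mem_insert_self _ _))

end MSqTop

variable {X Y Z : Scheme.{u}} {i : Z ⟶ X} {j : Z ⟶ Y} [IsClosedImmersion i]

namespace Chart

lemma qC_finite [IsFinite j] (c : Chart i j) : c.qC.Finite := by
  have h1 : (j.app c.V).hom.Finite := IsFinite.finite_app j c.V c.hV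
  have h2 : (res c.leW').Finite :=
    RingHom.Finite.of_surjective _ (res_surjective_of_ge _ c.e.ge)
  exact RingHom.Finite.comp h2 h1

end Chart

namespace Covers

variable (H : Covers i j)

set_option backward.isDefEq.respectTransparency.types false in
instance [IsFinite j] : IsFinite H.a :=
  H.of_chart_a (P := @IsFinite) fun c =>
    (IsFinite.SpecMap_iff _).2 (MSqTop.g_finite c.M c.qC_finite)

/-- any pushout of `(i, j)` is isomorphic to the glued one -/
lemma exists_iso {P : Scheme.{u}} {a : X ⟶ P} {b : Y ⟶ P} (hP : IsPushout i j a b) :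
    ∃ e : PO i j ≅ P, H.a ≫ e.hom = a ∧ H.b ≫ e.hom = b :=
  ⟨H.isPushout.isoIsPushout _ _ hP, IsPushout.inl_isoIsPushout_hom _ _ H.isPushout hP,
    IsPushout.inr_isoIsPushout_hom _ _ H.isPushout hP⟩

include H in
/-- structure of an arbitrary pushout of `(i, j)` -/
theorem structure_of_isPushout {P : Scheme.{u}} {a : X ⟶ P} {b : Y ⟶ P} (hP : IsPushout i j a b) :
    IsPullback i j a b ∧ IsClosedImmersion b ∧ IsAffineHom a ∧
      (IsIntegralHom j → IsIntegralHom a) ∧ (IsClosedImmersion j → IsClosedImmersion a) ∧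
      (IsFinite j → IsFinite a) ∧ (Function.Surjective i → Function.Surjective b) := by
  obtain ⟨e, rfl, rfl⟩ := H.exists_iso hP
  refine ⟨?_, inferInstance, inferInstance, fun _ => inferInstance, fun _ => inferInstance,
    fun _ => inferInstance, fun hi => ?_⟩
  · exact H.isPullback.of_iso (Iso.refl _) (Iso.refl _) (Iso.refl _) e (by simp) (by simp)
      (by simp) (by simp)
  · intro p
    obtain ⟨y, hy⟩ := H.b_surjective hi (e.inv p)
    refine ⟨y, ?_⟩
    change e.hom (H.b y) = p
    rw [hy]
    exact congr($(e.inv_hom_id) p)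

end Covers

end H9PO
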