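import Mathlib
import Groth.Agent.Lib.Helper9.PO.Uniq
import Groth.Agent.Lib.Helper9.PO.Joint

universe u

open AlgebraicGeometry CategoryTheory Limits

namespace H9PO

namespace Covers

/-- joint surjectivity for an arbitrary pushout -/
lemma jointly_surjective_of_isPushout {X Y Z P : Scheme.{u}} {i : Z ⟶ X} {j : Z ⟶ Y}
    [IsClosedImmersion i] (H : Covers i j) {a : X ⟶ P} {b : Y ⟶ P} (hP : IsPushout i j a b)
    (w : P) : (∃ x, a x = w) ∨ (∃ y, b y = w) := by
  obtain ⟨e, rfl, rfl⟩ := H.exists_iso hP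
  have hw : e.hom (e.inv w) = w := congr($(e.inv_hom_id) w)
  rcases H.a_or_b (e.inv w) with ⟨x, hx⟩ | ⟨y, hy⟩
  · left
    refine ⟨x, ?_⟩
    change e.hom (H.a x) = w
    rw [hx, hw]
  · right
    refine ⟨y, ?_⟩
    change e.hom (H.b y) = w
    rw [hy, hw]

end Covers

end H9PO
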