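import Mathlib
import Groth.Agent.Lib.Helper9.FlatKernel

universe u

open TensorProduct

namespace H9PO

namespace BCAlg

section Mod

variable {R : Type*} [CommRing R] (S : Type*) [CommRing S] [Algebra R S]

variable {M₁ M₂ M₃ N₁ N₂ N₃ : Type*} [AddCommGroup M₁] [AddCommGroup M₂] [AddCommGroup M₃]
  [AddCommGroup N₁] [AddCommGroup N₂] [AddCommGroup N₃] [Module R M₁] [Module R M₂] [Module R M₃]
  [Module R N₁] [Module R N₂] [Module R N₃] [Module S N₁] [Module S N₂] [Module S N₃]
  [IsScalarTower R S N₁] [IsScalarTower R S N₂] [IsScalarTower R S N₃]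
  (h₁ : M₁ →ₗ[R] N₁) (h₂ : M₂ →ₗ[R] N₂) (h₃ : M₃ →ₗ[R] N₃)
  {f : M₁ →ₗ[R] M₂} {g : M₂ →ₗ[R] M₃} {f' : N₁ →ₗ[S] N₂} {g' : N₂ →ₗ[S] N₃}

include h₁ h₂ in
lemma equiv_natural (comm₁ : h₂.comp f = (f'.restrictScalars R).comp h₁)
    (isb₁ : IsBaseChange S h₁) (isb₂ : IsBaseChange S h₂) (t : S ⊗[R] M₁) :
    isb₂.equiv (f.baseChange S t) = f' (isb₁.equiv t) := by
  induction t with
  | zero => simp
  | add x y hx hy => rw [map_add, map_add, hx, hy, map_add, map_add]
  | tmul s m =>
    rw [LinearMap.baseChange_tmul, IsBaseChange.equiv_tmul, IsBaseChange.equiv_tmul, map_smul]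
    congr 1
    exact congr($comm₁ m)

/-- left exactness after base change, given left exactness of the tensored sequence -/
lemma exact_of_baseChange (comm₁ : h₂.comp f = (f'.restrictScalars R).comp h₁)
    (comm₂ : h₃.comp g = (g'.restrictScalars R).comp h₂)
    (isb₁ : IsBaseChange S h₁) (isb₂ : IsBaseChange S h₂) (isb₃ : IsBaseChange S h₃)
    (hinj : Function.Injective (f.baseChange S))
    (hex : Function.Exact (f.baseChange S) (g.baseChange S)) :
    Function.Injective f' ∧ Function.Exact f' g' := by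
  have n₁ := equiv_natural S h₁ h₂ comm₁ isb₁ isb₂
  have n₂ := equiv_natural S h₂ h₃ comm₂ isb₂ isb₃
  constructor
  · rw [injective_iff_map_eq_zero]
    intro n hn
    obtain ⟨t, rfl⟩ := isb₁.equiv.surjective n
    rw [← n₁] at hn
    have h0 : f.baseChange S t = 0 := by
      apply isb₂.equiv.injective
      rw [hn, map_zero]
    have : t = 0 := hinj (by rw [h0, map_zero])
    rw [this, map_zero]
  · intro n
    constructor
    · intro hn
      obtain ⟨m, rfl⟩ := isb₂.equiv.surjective n
      rw [← n₂] at hn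
      have h0 : g.baseChange S m = 0 := by
        apply isb₃.equiv.injective
        rw [hn, map_zero]
      obtain ⟨t, rfl⟩ := (hex m).1 h0
      exact ⟨isb₁.equiv t, (n₁ t).symm⟩
    · rintro ⟨n₀, rfl⟩
      obtain ⟨t, rfl⟩ := isb₁.equiv.surjective n₀
      rw [← n₁, ← n₂, hex.apply_apply_eq_zero, map_zero]

end Mod

section Ring

open CategoryTheory CommRingCat

variable {k k' R A B C R' A' B' C' : Type u} [CommRing k] [CommRing k'] [CommRing R] [CommRing A]
  [CommRing B] [CommRing C] [CommRing R'] [CommRing A'] [CommRing B'] [CommRing C']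
  (κ : k →+* R) (f : R →+* B) (g : R →+* A) (q : B →+* C) (p : A →+* C)
  (κ' : k' →+* R') (f' : R' →+* B') (g' : R' →+* A') (q' : B' →+* C') (p' : A' →+* C')
  (σ : k →+* k') (ρ : R →+* R') (α : A →+* A') (β : B →+* B') (γ : C →+* C')

/-- Base change of a fibre square of rings: it stays a fibre square if the base change is flat,
or if the corner `C` is flat over the base and `p` is surjective. -/
theorem milnor_baseChange
    (hc : q.comp f = p.comp g) (hc' : q'.comp f' = p'.comp g')
    (hκ : κ'.comp σ = ρ.comp κ)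
    (hf : f'.comp ρ = β.comp f) (hg : g'.comp ρ = α.comp g)
    (hq : q'.comp β = γ.comp q) (hp : p'.comp α = γ.comp p)
    (hR : IsPushout (ofHom σ) (ofHom κ) (ofHom κ') (ofHom ρ))
    (hA : IsPushout (ofHom σ) (ofHom (g.comp κ)) (ofHom (g'.comp κ')) (ofHom α))
    (hB : IsPushout (ofHom σ) (ofHom (f.comp κ)) (ofHom (f'.comp κ')) (ofHom β))
    (hC : IsPushout (ofHom σ) (ofHom ((q.comp f).comp κ)) (ofHom ((q'.comp f').comp κ')) (ofHom γ))
    (hinj : ∀ r, f r = 0 → g r = 0 → r = 0)
    (hex : ∀ b a, q b = p a → ∃ r, f r = b ∧ g r = a)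
    (htens : σ.Flat ∨ (Function.Surjective p ∧ ((q.comp f).comp κ).Flat)) :
    (∀ r', f' r' = 0 → g' r' = 0 → r' = 0) ∧
      (∀ b' a', q' b' = p' a' → ∃ r', f' r' = b' ∧ g' r' = a') := by
  letI : Algebra k k' := σ.toAlgebra
  letI : Algebra k R := κ.toAlgebra
  letI : Algebra k A := (g.comp κ).toAlgebra
  letI : Algebra k B := (f.comp κ).toAlgebra
  letI : Algebra k C := ((q.comp f).comp κ).toAlgebra
  letI : Algebra k' R' := κ'.toAlgebra
  letI : Algebra k' A' := (g'.comp κ').toAlgebra
  letI : Algebra k' B' := (f'.comp κ').toAlgebra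
  letI : Algebra k' C' := ((q'.comp f').comp κ').toAlgebra
  letI : Algebra R R' := ρ.toAlgebra
  letI : Algebra A A' := α.toAlgebra
  letI : Algebra B B' := β.toAlgebra
  letI : Algebra C C' := γ.toAlgebra
  letI : Algebra k R' := (ρ.comp κ).toAlgebra
  letI : Algebra k A' := (α.comp (g.comp κ)).toAlgebra
  letI : Algebra k B' := (β.comp (f.comp κ)).toAlgebra
  letI : Algebra k C' := (γ.comp ((q.comp f).comp κ)).toAlgebra
  haveI : IsScalarTower k R R' := .of_algebraMap_eq' rfl
  haveI : IsScalarTower k A A' := .of_algebraMap_eq' rfl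
  haveI : IsScalarTower k B B' := .of_algebraMap_eq' rfl
  haveI : IsScalarTower k C C' := .of_algebraMap_eq' rfl
  haveI : IsScalarTower k k' R' := .of_algebraMap_eq' hκ.symm
  have hκx : ∀ x, κ' (σ x) = ρ (κ x) := fun x => RingHom.congr_fun hκ x
  have hfx : ∀ x, f' (ρ x) = β (f x) := fun x => RingHom.congr_fun hf x
  have hgx : ∀ x, g' (ρ x) = α (g x) := fun x => RingHom.congr_fun hg x
  have hqx : ∀ x, q' (β x) = γ (q x) := fun x => RingHom.congr_fun hq x
  have hpx : ∀ x, p' (α x) = γ (p x) := fun x => RingHom.congr_fun hp x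
  have hcx : ∀ x, q (f x) = p (g x) := fun x => RingHom.congr_fun hc x
  haveI : IsScalarTower k k' A' := .of_algebraMap_eq' (RingHom.ext fun x => by
    change α (g (κ x)) = g' (κ' (σ x))
    rw [hκx, hgx])
  haveI : IsScalarTower k k' B' := .of_algebraMap_eq' (RingHom.ext fun x => by
    change β (f (κ x)) = f' (κ' (σ x))
    rw [hκx, hfx])
  haveI : IsScalarTower k k' C' := .of_algebraMap_eq' (RingHom.ext fun x => by
    change γ (q (f (κ x))) = q' (f' (κ' (σ x)))
    rw [hκx, hfx, hqx])
  haveI pR : Algebra.IsPushout k k' R R' := CommRingCat.isPushout_iff_isPushout.mp hR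
  haveI pA : Algebra.IsPushout k k' A A' := CommRingCat.isPushout_iff_isPushout.mp hA
  haveI pB : Algebra.IsPushout k k' B B' := CommRingCat.isPushout_iff_isPushout.mp hB
  haveI pC : Algebra.IsPushout k k' C C' := CommRingCat.isPushout_iff_isPushout.mp hC
  have isbR : IsBaseChange k' (IsScalarTower.toAlgHom k R R').toLinearMap := pR.out
  have isbA : IsBaseChange k' (IsScalarTower.toAlgHom k A A').toLinearMap := pA.out
  have isbB : IsBaseChange k' (IsScalarTower.toAlgHom k B B').toLinearMap := pB.out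
  have isbC : IsBaseChange k' (IsScalarTower.toAlgHom k C C').toLinearMap := pC.out
  -- the linear maps
  let fa : R →ₐ[k] B := { f with commutes' := fun x => rfl }
  let ga : R →ₐ[k] A := { g with commutes' := fun x => rfl }
  let qa : B →ₐ[k] C := { q with commutes' := fun x => rfl }
  let pa : A →ₐ[k] C := { p with commutes' := fun x => (hcx (κ x)).symm }
  let fa' : R' →ₐ[k'] B' := { f' with commutes' := fun x => rfl }
  let ga' : R' →ₐ[k'] A' := { g' with commutes' := fun x => rfl }
  let qa' : B' →ₐ[k'] C' := { q' with commutes' := fun x => rfl }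
  have hcx' : ∀ x, q' (f' x) = p' (g' x) := fun x => RingHom.congr_fun hc' x
  let pa' : A' →ₐ[k'] C' := { p' with commutes' := fun x => (hcx' (κ' x)).symm }
  -- the exact sequences
  let F₁ : R →ₗ[k] B × A := fa.toLinearMap.prod ga.toLinearMap
  let δ : B × A →ₗ[k] C := qa.toLinearMap.coprod (-pa.toLinearMap)
  let F₁' : R' →ₗ[k'] B' × A' := fa'.toLinearMap.prod ga'.toLinearMap
  let δ' : B' × A' →ₗ[k'] C' := qa'.toLinearMap.coprod (-pa'.toLinearMap)
  have hF₁inj : Function.Injective F₁ := by
    rw [injective_iff_map_eq_zero]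
    intro r hr
    exact hinj r (congrArg Prod.fst hr) (congrArg Prod.snd hr)
  have hexact : Function.Exact F₁ δ := by
    intro x
    constructor
    · intro hx
      have hx' : q x.1 + -(p x.2) = 0 := hx
      obtain ⟨r, hr1, hr2⟩ := hex x.1 x.2 (by rwa [← sub_eq_add_neg, sub_eq_zero] at hx')
      exact ⟨r, Prod.ext hr1 hr2⟩
    · rintro ⟨r, rfl⟩
      change q (f r) + -(p (g r)) = 0
      rw [hcx, add_neg_cancel]
  let h₂ : B × A →ₗ[k] B' × A' :=
    (IsScalarTower.toAlgHom k B B').toLinearMap.prodMap (IsScalarTower.toAlgHom k A A').toLinearMap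
  have isb₂ : IsBaseChange k' h₂ := IsBaseChange.prodMap _ _ isbB isbA
  have comm₁ : h₂.comp F₁ =
      (F₁'.restrictScalars k).comp (IsScalarTower.toAlgHom k R R').toLinearMap := by
    ext r
    · exact (hfx r).symm
    · exact (hgx r).symm
  have comm₂ : (IsScalarTower.toAlgHom k C C').toLinearMap.comp δ =
      (δ'.restrictScalars k).comp h₂ := by
    apply LinearMap.ext
    intro x
    change γ (q x.1 + -(p x.2)) = q' (β x.1) + -(p' (α x.2))
    rw [map_add, map_neg, hqx, hpx]
  have hT : Function.Injective (F₁.baseChange k') ∧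
      Function.Exact (F₁.baseChange k') (δ.baseChange k') := by
    rcases htens with hσ | ⟨hpsurj, hCflat⟩
    · haveI : Module.Flat k k' := hσ
      exact ⟨Module.Flat.lTensor_preserves_injective_linearMap F₁ hF₁inj,
        Module.Flat.lTensor_exact k' hexact⟩
    · haveI : Module.Flat k C := hCflat
      have hδsurj : Function.Surjective δ := by
        intro c
        obtain ⟨a, ha⟩ := hpsurj (-c)
        refine ⟨(0, a), ?_⟩
        change q 0 + -(p a) = c
        rw [ha, map_zero, zero_add, neg_neg]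
      exact ⟨Groth.Agent.Helper9.lTensor_injective_of_exact_of_flat F₁ δ hF₁inj hexact hδsurj k',
        lTensor_exact k' hexact hδsurj⟩
  obtain ⟨hinj', hex'⟩ := exact_of_baseChange k' (IsScalarTower.toAlgHom k R R').toLinearMap h₂
    (IsScalarTower.toAlgHom k C C').toLinearMap (f' := F₁') (g' := δ') comm₁ comm₂ isbR isb₂ isbC
    hT.1 hT.2
  constructor
  · intro r' h1 h2
    apply hinj'
    rw [map_zero]
    exact Prod.ext h1 h2
  · intro b' a' hba
    have : δ' (b', a') = 0 := by
      change q' b' + -(p' a') = 0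
      rw [hba, add_neg_cancel]
    obtain ⟨r', hr'⟩ := (hex' (b', a')).1 this
    exact ⟨r', congrArg Prod.fst hr', congrArg Prod.snd hr'⟩

end Ring

end BCAlg

end H9PO
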