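import Mathlib
import Groth.Agent.Lib.Helper9.PO.JointPO

universe u

open AlgebraicGeometry CategoryTheory Opposite TopologicalSpace Limits

namespace H9PO

namespace Recog

open H9Ferrand H9ThickAff

lemma app_eq_of_eq {Z F : Scheme.{u}} (f g : Z ⟶ F) (h : f = g) (W : F.Opens)
    (le : f ⁻¹ᵁ W ≤ g ⁻¹ᵁ W) (s : Γ(F, W)) :
    res le ((g.app W).hom s) = (f.app W).hom s := by
  subst h
  exact res_self _

variable {X Y Z F : Scheme.{u}} (i : Z ⟶ X) (j : Z ⟶ Y) (a : X ⟶ F) (b : Y ⟶ F)
  [IsAffineHom a] [IsAffineHom b] (hcomm : i ≫ a = j ≫ b)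

/-- chart of an affine open of the target -/
noncomputable def chartOf (W : F.Opens) (hW : IsAffineOpen W) : Chart i j where
  U := a ⁻¹ᵁ W
  V := b ⁻¹ᵁ W
  e := by
    rw [← Scheme.Hom.comp_preimage, ← Scheme.Hom.comp_preimage, hcomm]
  hU := hW.preimage a
  hV := hW.preimage b

/-- canonical map from sections on the target to the fibre product ring -/
noncomputable def can (W : F.Opens) (hW : IsAffineOpen W) :
    Γ(F, W) →+* (chartOf i j a b hcomm W hW).RC :=
  RingHom.codRestrict (RingHom.prod (b.app W).hom (a.app W).hom) _ (fun s => by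
    refine (Pair.mem_RC _).2 ?_
    change res _ ((j.app (b ⁻¹ᵁ W)).hom ((b.app W).hom s)) = (i.app (a ⁻¹ᵁ W)).hom ((a.app W).hom s)
    exact app_eq_of_eq (i ≫ a) (j ≫ b) hcomm W _ s)

lemma fC_can (W : F.Opens) (hW : IsAffineOpen W) (s : Γ(F, W)) :
    (chartOf i j a b hcomm W hW).fC (can i j a b hcomm W hW s) = (b.app W).hom s := rfl

lemma gC_can (W : F.Opens) (hW : IsAffineOpen W) (s : Γ(F, W)) :
    (chartOf i j a b hcomm W hW).gC (can i j a b hcomm W hW s) = (a.app W).hom s := rfl

variable [IsClosedImmersion i]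

omit [IsClosedImmersion i] in
include hcomm in
lemma covers : Covers i j where
  covX x := by
    obtain ⟨W, hW, hxW, -⟩ := Opens.isBasis_iff_nbhd.mp F.isBasis_affineOpens
      (show a x ∈ (⊤ : F.Opens) from trivial)
    exact ⟨chartOf i j a b hcomm W hW, hxW⟩
  covY y := by
    obtain ⟨W, hW, hyW, -⟩ := Opens.isBasis_iff_nbhd.mp F.isBasis_affineOpens
      (show b y ∈ (⊤ : F.Opens) from trivial)
    exact ⟨chartOf i j a b hcomm W hW, hyW⟩

/-- the comparison morphism -/
noncomputable def u : PO i j ⟶ F := (covers i j a b hcomm).isPushout.desc a b hcomm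

lemma a_u : (covers i j a b hcomm).a ≫ u i j a b hcomm = a :=
  (covers i j a b hcomm).isPushout.inl_desc a b hcomm

lemma b_u : (covers i j a b hcomm).b ≫ u i j a b hcomm = b :=
  (covers i j a b hcomm).isPushout.inr_desc a b hcomm

lemma ι_u (W : F.Opens) (hW : IsAffineOpen W) :
    (chartOf i j a b hcomm W hW).ι ≫ u i j a b hcomm =
      Spec.map (CommRingCat.ofHom (can i j a b hcomm W hW)) ≫ hW.fromSpec := by
  set c := chartOf i j a b hcomm W hW with hc
  have H := covers i j a b hcomm
  apply c.M.hom_ext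
  · -- B side
    rw [← Category.assoc, c.jB_ι_eq H, Category.assoc, b_u]
    have h1 : c.M.jB ≫ Spec.map (CommRingCat.ofHom (can i j a b hcomm W hW)) =
        Spec.map (b.app W) := by
      change Spec.map _ ≫ Spec.map _ = _
      rw [← Spec.map_comp]
      rfl
    rw [← Category.assoc, h1]
    have := IsAffineOpen.SpecMap_appLE_fromSpec b hW c.hV (le_refl _)
    have e : b.appLE W c.V (le_refl _) = b.app W := (Scheme.Hom.app_eq_appLE b).symm
    rw [e] at this
    exact this.symm
  · rw [← Category.assoc, c.jA'_ι_eq H, Category.assoc, a_u]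
    have h1 : c.M.jA' ≫ Spec.map (CommRingCat.ofHom (can i j a b hcomm W hW)) =
        Spec.map (a.app W) := by
      change Spec.map _ ≫ Spec.map _ = _
      rw [← Spec.map_comp]
      rfl
    rw [← Category.assoc, h1]
    have := IsAffineOpen.SpecMap_appLE_fromSpec a hW c.hU (le_refl _)
    have e : a.appLE W c.U (le_refl _) = a.app W := (Scheme.Hom.app_eq_appLE a).symm
    rw [e] at this
    exact this.symm

lemma u_preimage (W : F.Opens) (hW : IsAffineOpen W) :
    u i j a b hcomm ⁻¹ᵁ W = (chartOf i j a b hcomm W hW).ι.opensRange := by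
  set c := chartOf i j a b hcomm W hW with hc
  have H := covers i j a b hcomm
  ext p
  rcases H.a_or_b p with ⟨x, rfl⟩ | ⟨y, rfl⟩
  · have h1 : H.a x ∈ u i j a b hcomm ⁻¹ᵁ W ↔ x ∈ c.U := by
      change u i j a b hcomm (H.a x) ∈ W ↔ a x ∈ W
      rw [← Scheme.Hom.comp_apply, a_u]
    have h2 : H.a x ∈ c.ι.opensRange ↔ x ∈ c.U := by
      rw [← H.a_preimage c]; rfl
    exact h1.trans h2.symm
  · have h1 : H.b y ∈ u i j a b hcomm ⁻¹ᵁ W ↔ y ∈ c.V := by
      change u i j a b hcomm (H.b y) ∈ W ↔ b y ∈ W
      rw [← Scheme.Hom.comp_apply, b_u]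
    have h2 : H.b y ∈ c.ι.opensRange ↔ y ∈ c.V := by
      rw [← H.b_preimage c]; rfl
    exact h1.trans h2.symm

lemma isIso_restrict (W : F.Opens) (hW : IsAffineOpen W)
    (hbij : Function.Bijective (can i j a b hcomm W hW)) : IsIso (u i j a b hcomm ∣_ W) := by
  set c := chartOf i j a b hcomm W hW with hc
  have e : Set.range c.ι = Set.range (u i j a b hcomm ⁻¹ᵁ W).ι := by
    rw [Scheme.Opens.range_ι, u_preimage i j a b hcomm W hW]
    rfl
  let θ := IsOpenImmersion.isoOfRangeEq c.ι (u i j a b hcomm ⁻¹ᵁ W).ι e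
  have hθ : θ.hom ≫ (u i j a b hcomm ⁻¹ᵁ W).ι = c.ι := IsOpenImmersion.isoOfRangeEq_hom_fac _ _ e
  haveI : IsIso (CommRingCat.ofHom (can i j a b hcomm W hW)) :=
    (ConcreteCategory.isIso_iff_bijective _).2 hbij
  have key : θ.hom ≫ (u i j a b hcomm ∣_ W) =
      Spec.map (CommRingCat.ofHom (can i j a b hcomm W hW)) ≫ hW.isoSpec.inv := by
    rw [← cancel_mono W.ι, Category.assoc, Category.assoc, morphismRestrict_ι, ← Category.assoc, hθ,
      ι_u i j a b hcomm W hW, IsAffineOpen.isoSpec_inv_ι]
  have : u i j a b hcomm ∣_ W =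
      θ.inv ≫ Spec.map (CommRingCat.ofHom (can i j a b hcomm W hW)) ≫ hW.isoSpec.inv := by
    rw [← key, Iso.inv_hom_id_assoc]
  rw [this]
  infer_instance

/-- Recognition theorem for pushouts along a closed immersion: a commutative square with affine
legs which induces fibre products of rings on a cover by affine opens is a pushout. -/
theorem isPushout
    (hMil : ∀ w : F, ∃ (W : F.Opens) (hW : IsAffineOpen W), w ∈ W ∧
      Function.Bijective (can i j a b hcomm W hW)) : IsPushout i j a b := by
  have H := covers i j a b hcomm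
  choose W hW hwW hbij using hMil
  have hiso : IsIso (u i j a b hcomm) := by
    refine IsZariskiLocalAtTarget.of_iSup_eq_top (P := MorphismProperty.isomorphisms Scheme)
      W ?_ (fun w => isIso_restrict i j a b hcomm (W w) (hW w) (hbij w))
    rw [eq_top_iff]
    intro w _
    exact Opens.mem_iSup.2 ⟨w, hwW w⟩
  refine IsPushout.of_iso H.isPushout (Iso.refl Z) (Iso.refl X) (Iso.refl Y)
    (asIso (u i j a b hcomm)) (by simp) (by simp) ?_ ?_
  · simp only [Iso.refl_hom, Category.id_comp, asIso_hom]
    exact a_u i j a b hcomm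
  · simp only [Iso.refl_hom, Category.id_comp, asIso_hom]
    exact b_u i j a b hcomm

/-- Converse: in a pushout square with affine legs, sections over an affine open of the pushout
are the fibre product of the sections over the preimages. -/
theorem can_bijective (hP : IsPushout i j a b) (W : F.Opens) (hW : IsAffineOpen W) :
    Function.Bijective (can i j a b hP.w W hW) := by
  have hcomm := hP.w
  have H := covers i j a b hcomm
  set c := chartOf i j a b hcomm W hW with hc
  -- `u` is an isomorphism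
  have hu : u i j a b hcomm = (H.isPushout.isoIsPushout _ _ hP).hom := by
    apply H.isPushout.hom_ext
    · rw [IsPushout.inl_isoIsPushout_hom]; exact a_u i j a b hcomm
    · rw [IsPushout.inr_isoIsPushout_hom]; exact b_u i j a b hcomm
  haveI : IsIso (u i j a b hcomm) := by rw [hu]; infer_instance
  set φ := Spec.map (CommRingCat.ofHom (can i j a b hcomm W hW)) with hφ
  have hι := ι_u i j a b hcomm W hW
  haveI : IsOpenImmersion (φ ≫ hW.fromSpec) := by
    rw [← hι]; infer_instance
  haveI : IsOpenImmersion φ := IsOpenImmersion.of_comp φ hW.fromSpec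
  have hsurj : Function.Surjective φ := by
    intro s
    have hs : hW.fromSpec s ∈ W := by
      have : hW.fromSpec s ∈ hW.fromSpec.opensRange := ⟨s, rfl⟩
      rwa [hW.opensRange_fromSpec] at this
    obtain ⟨p, hp⟩ : ∃ p, u i j a b hcomm p = hW.fromSpec s :=
      ⟨inv (u i j a b hcomm) (hW.fromSpec s), by
        rw [← Scheme.Hom.comp_apply, IsIso.inv_hom_id]; rfl⟩
    have hpW : p ∈ u i j a b hcomm ⁻¹ᵁ W := by
      change u i j a b hcomm p ∈ W
      rw [hp]; exact hs
    rw [u_preimage i j a b hcomm W hW] at hpW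
    obtain ⟨t, ht⟩ := hpW
    refine ⟨t, ?_⟩
    apply hW.fromSpec.isOpenEmbedding.injective
    rw [← hp, ← ht, ← Scheme.Hom.comp_apply, ← Scheme.Hom.comp_apply, hι]
  have hφiso : IsIso φ := by
    apply isIso_of_isOpenImmersion_of_opensRange_eq_top
    rw [eq_top_iff]
    intro s _
    exact hsurj s
  haveI : IsIso (CommRingCat.ofHom (can i j a b hcomm W hW)) := by
    haveI h1 : IsIso (Scheme.Spec.map (CommRingCat.ofHom (can i j a b hcomm W hW)).op) := hφiso
    haveI h2 : IsIso (CommRingCat.ofHom (can i j a b hcomm W hW)).op :=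
      isIso_of_reflects_iso _ Scheme.Spec
    exact isIso_of_op _
  exact (ConcreteCategory.isIso_iff_bijective (CommRingCat.ofHom (can i j a b hcomm W hW))).1
    inferInstance

end Recog

end H9PO
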