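import Mathlib
import Groth.Prelude.Def_EtMil
import Groth.Agent.Lib.Helper4.MilnorGlue

/-!
# Algebras over a Milnor square: finite type, flat, finitely presented, smooth, étale

Relative form (`rel_*`): `B' = B ×_A A'`, `D'` a `B'`-algebra, `D = B ⊗ D'`, `C' = A' ⊗ D'`.
Glue form: `D' = D ×_C C'`; `isPushout_fst`, `isPushout_snd` reduce it to the relative form.
-/

set_option linter.unusedSectionVars false
set_option linter.style.haveILetI false

universe u
open TensorProduct Groth.Agent.Helper4.Milnor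

namespace H9PO.MilAlg


section Sq

variable {B' B A' A : Type u} [CommRing B'] [CommRing B] [CommRing A'] [CommRing A]
    [Algebra B' B] [Algebra B' A'] [Algebra B A] [Algebra A' A] [Algebra B' A] [IsScalarTower B' B A] [IsScalarTower B' A' A]
    (hsq : EtMil.IsFibreSquare B' B A' A)

include hsq in
/-- A submodule whose base changes to `B` and `A'` surject is everything. -/
theorem top_of_lTensor_surjective {L' : Type u} [AddCommGroup L'] [Module B' L'] (E : Submodule B' L')
    (h1 : Function.Surjective (E.subtype.lTensor B)) (h2 : Function.Surjective (E.subtype.lTensor A')) :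
    E = ⊤ := by
  have key : ∀ (T : Type u) [CommRing T] [Algebra B' T], Function.Surjective (E.subtype.lTensor T) →
      Subsingleton (T ⊗[B'] (L' ⧸ E)) := by
    intro T _ _ hT
    have hex : Function.Exact (E.subtype.lTensor T) (E.mkQ.lTensor T) :=
      lTensor_exact T (LinearMap.exact_subtype_mkQ E) (Submodule.mkQ_surjective E)
    have hs : Function.Surjective (E.mkQ.lTensor T) :=
      LinearMap.lTensor_surjective T (Submodule.mkQ_surjective E)
    have hz : ∀ z : T ⊗[B'] (L' ⧸ E), z = 0 := by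
      intro z
      obtain ⟨w, rfl⟩ := hs z
      obtain ⟨v, rfl⟩ := hT w
      exact hex.apply_apply_eq_zero v
    exact ⟨fun a b => by rw [hz a, hz b]⟩
  haveI := key B h1
  haveI := key A' h2
  have hsub : Subsingleton (L' ⧸ E) := subsingleton_of_tensor (L' ⧸ E) hsq
  exact Submodule.Quotient.subsingleton_iff.mp hsub

end Sq

section BC0

variable {R T S ST : Type*} [CommRing R] [CommRing T] [CommRing S] [CommRing ST]
  [Algebra R T] [Algebra R S] [Algebra T ST] [Algebra S ST] [Algebra R ST]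
  [IsScalarTower R T ST] [IsScalarTower R S ST] [Algebra.IsPushout R T S ST]

theorem lTensor_surj_of_adjoin (E : Subalgebra R S)
    (h : Algebra.adjoin T ((algebraMap S ST) '' (E : Set S)) = ⊤) :
    Function.Surjective ((Subalgebra.toSubmodule E).subtype.lTensor T) := by
  let ε : T ⊗[R] S ≃ₐ[T] ST := Algebra.IsPushout.equiv R T S ST
  let ρ : T ⊗[R] (Subalgebra.toSubmodule E) →ₗ[T] ST :=
    ε.toLinearMap ∘ₗ ((Subalgebra.toSubmodule E).subtype.baseChange T)
  have hρ : ∀ e : Subalgebra.toSubmodule E, ρ ((1 : T) ⊗ₜ e) = algebraMap S ST (e : S) := by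
    intro e
    change ε ((1 : T) ⊗ₜ (e : S)) = _
    rw [Algebra.IsPushout.equiv_tmul, map_one, one_mul]
  have hs : (algebraMap S ST) '' (E : Set S) =
      ((E.toSubmonoid.map (algebraMap S ST : S →* ST) : Submonoid ST) : Set ST) := by
    ext x; simp
  have hr : LinearMap.range ρ = ⊤ := by
    rw [eq_top_iff, ← Algebra.top_toSubmodule, ← h, Algebra.adjoin_eq_span, hs,
      Submonoid.closure_eq, ← hs, Submodule.span_le]
    rintro _ ⟨e, he, rfl⟩
    exact ⟨(1 : T) ⊗ₜ (⟨e, he⟩ : Subalgebra.toSubmodule E), hρ ⟨e, he⟩⟩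
  intro y
  obtain ⟨x, hx⟩ := LinearMap.range_eq_top.mp hr (ε y)
  refine ⟨x, ε.injective ?_⟩
  rw [← hx]
  rfl

end BC0

section FPgen

variable {R T P S : Type*} [CommRing R] [CommRing T] [CommRing P] [CommRing S]
  [Algebra R T] [Algebra R P] [Algebra R S]

theorem exists_finset_ker (π : P →ₐ[R] S) (hπ : Function.Surjective π)
    [Algebra.FinitePresentation R P] [Algebra.FinitePresentation T (T ⊗[R] S)] :
    ∃ F : Finset P, (∀ p ∈ F, π p = 0) ∧
      ∀ y : T ⊗[R] P, π.toLinearMap.lTensor T y = 0 →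
        y ∈ Ideal.span ((fun p : P => (1 : T) ⊗ₜ[R] p) '' (F : Set P)) := by
  classical
  let g : T ⊗[R] P →ₐ[T] T ⊗[R] S := Algebra.TensorProduct.map (AlgHom.id T T) π
  have hgs : Function.Surjective g := by
    have h1 : Function.Surjective (π.toLinearMap.lTensor T) := LinearMap.lTensor_surjective T hπ
    intro y
    obtain ⟨x, hx⟩ := h1 y
    exact ⟨x, hx⟩
  have hfg : (RingHom.ker g.toRingHom).FG :=
    Algebra.FinitePresentation.ker_fG_of_surjective g hgs
  have hker : RingHom.ker g.toRingHom =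
      Ideal.map Algebra.TensorProduct.includeRight (RingHom.ker π) :=
    Algebra.TensorProduct.lTensor_ker π hπ
  rw [hker] at hfg
  unfold Ideal.map at hfg
  obtain ⟨s', hs's, hs'⟩ := (Submodule.fg_span_iff_fg_span_finset_subset _).mp hfg
  obtain ⟨F, hF, rfl⟩ := Finset.subset_set_image_iff.mp hs's
  refine ⟨F, fun p hp => hF hp, ?_⟩
  intro y hy
  have hy' : y ∈ RingHom.ker g.toRingHom := hy
  rw [hker] at hy'
  unfold Ideal.map at hy'
  rw [Finset.coe_image] at hs'
  have h3 : y ∈ Submodule.span (T ⊗[R] P) ((Algebra.TensorProduct.includeRight : P →ₐ[R] T ⊗[R] P) '' (F : Set P)) := by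
    rw [← hs']; exact hy'
  exact h3

end FPgen

section FPsq

variable {B' B A' A : Type u} [CommRing B'] [CommRing B] [CommRing A'] [CommRing A]
    [Algebra B' B] [Algebra B' A'] [Algebra B A] [Algebra A' A] [Algebra B' A] [IsScalarTower B' B A] [IsScalarTower B' A' A]
    (hsq : EtMil.IsFibreSquare B' B A' A)

/-- the key vanishing -/
theorem subsingleton_tensor_ker {R T P S : Type*} [CommRing R] [CommRing T] [CommRing P] [CommRing S]
    [Algebra R T] [Algebra R P] [Algebra R S] [Module.Flat R S] (π : P →ₐ[R] S) (hπ : Function.Surjective π)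
    (F : Finset P) (hF : ∀ y : T ⊗[R] P, π.toLinearMap.lTensor T y = 0 →
        y ∈ Ideal.span ((fun p : P => (1 : T) ⊗ₜ[R] p) '' (F : Set P)))
    (J₀ : Ideal P) (hFJ : ∀ p ∈ F, p ∈ J₀) (hJ₀ : ∀ a ∈ J₀, π a = 0) :
    Subsingleton (T ⊗[R] LinearMap.ker (Ideal.Quotient.liftₐ J₀ π hJ₀).toLinearMap) := by
  set ρ : (P ⧸ J₀) →ₐ[R] S := Ideal.Quotient.liftₐ J₀ π hJ₀ with hρ
  set N := LinearMap.ker ρ.toLinearMap with hN
  have hρs : Function.Surjective ρ.toLinearMap := by
    intro s
    obtain ⟨p, rfl⟩ := hπ s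
    exact ⟨Ideal.Quotient.mk J₀ p, rfl⟩
  have hinj : Function.Injective (N.subtype.lTensor T) :=
    LinearMap.lTensor_injective_of_exact_of_flat ρ.toLinearMap hρs N.subtype N.subtype_injective
      (LinearMap.exact_subtype_ker_map _) T
  let mk : P →ₐ[R] (P ⧸ J₀) := Ideal.Quotient.mkₐ R J₀
  have hmk : Function.Surjective mk.toLinearMap := Ideal.Quotient.mkₐ_surjective R J₀
  have hcomp : ρ.toLinearMap ∘ₗ mk.toLinearMap = π.toLinearMap := by
    ext p; rfl
  let Φ : T ⊗[R] P →ₐ[T] T ⊗[R] (P ⧸ J₀) := Algebra.TensorProduct.map (AlgHom.id T T) mk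
  have hΦ : ∀ y, Φ y = mk.toLinearMap.lTensor T y := fun y => rfl
  have hz : ∀ z : T ⊗[R] N, z = 0 := by
    intro z
    apply hinj
    rw [map_zero]
    obtain ⟨y, hy⟩ := LinearMap.lTensor_surjective T hmk (N.subtype.lTensor T z)
    have h1 : π.toLinearMap.lTensor T y = 0 := by
      rw [← hcomp, LinearMap.lTensor_comp, LinearMap.comp_apply, hy, ← LinearMap.comp_apply,
        ← LinearMap.lTensor_comp]
      have : ρ.toLinearMap ∘ₗ N.subtype = 0 := by
        ext n; exact n.2
      rw [this, LinearMap.lTensor_zero, LinearMap.zero_apply]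
    have h2 := hF y h1
    have h3 : Ideal.span ((fun p : P => (1 : T) ⊗ₜ[R] p) '' (F : Set P)) ≤ RingHom.ker Φ.toRingHom := by
      rw [Ideal.span_le]
      rintro _ ⟨p, hp, rfl⟩
      change Φ ((1 : T) ⊗ₜ[R] p) = 0
      rw [hΦ, LinearMap.lTensor_tmul]
      have : mk.toLinearMap p = 0 := by
        change Ideal.Quotient.mk J₀ p = 0
        exact Ideal.Quotient.eq_zero_iff_mem.mpr (hFJ p hp)
      rw [this, TensorProduct.tmul_zero]
    have h4 : Φ y = 0 := h3 h2
    rw [← hy, ← hΦ, h4]
  exact ⟨fun a b => by rw [hz a, hz b]⟩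

include hsq in
theorem fg_ker_of_square {P D' : Type u} [CommRing P] [CommRing D'] [Algebra B' P] [Algebra B' D']
    [Algebra.FinitePresentation B' P] [Module.Flat B' D']
    [Algebra.FinitePresentation B (B ⊗[B'] D')] [Algebra.FinitePresentation A' (A' ⊗[B'] D')]
    (π : P →ₐ[B'] D') (hπ : Function.Surjective π) : (RingHom.ker π.toRingHom).FG := by
  classical
  obtain ⟨F₁, hF₁, hF₁'⟩ := exists_finset_ker (T := B) π hπ
  obtain ⟨F₂, hF₂, hF₂'⟩ := exists_finset_ker (T := A') π hπ
  set J₀ : Ideal P := Ideal.span ((F₁ ∪ F₂ : Finset P) : Set P) with hJ₀def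
  have hJ₀ : ∀ a ∈ J₀, π a = 0 := by
    intro a ha
    have : J₀ ≤ RingHom.ker π.toRingHom := by
      rw [hJ₀def, Ideal.span_le]
      intro p hp
      rw [Finset.coe_union] at hp
      rcases hp with hp | hp
      · exact hF₁ p hp
      · exact hF₂ p hp
    exact this ha
  have hFJ₁ : ∀ p ∈ F₁, p ∈ J₀ := fun p hp => Ideal.subset_span (by
    rw [Finset.coe_union]; exact Or.inl hp)
  have hFJ₂ : ∀ p ∈ F₂, p ∈ J₀ := fun p hp => Ideal.subset_span (by
    rw [Finset.coe_union]; exact Or.inr hp)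
  haveI := subsingleton_tensor_ker (T := B) π hπ F₁ hF₁' J₀ hFJ₁ hJ₀
  haveI := subsingleton_tensor_ker (T := A') π hπ F₂ hF₂' J₀ hFJ₂ hJ₀
  have hsub : Subsingleton (LinearMap.ker (Ideal.Quotient.liftₐ J₀ π hJ₀).toLinearMap) :=
    subsingleton_of_tensor _ hsq
  have heq : RingHom.ker π.toRingHom = J₀ := by
    apply le_antisymm
    · intro x hx
      have hx' : (Ideal.Quotient.mk J₀ x) ∈ LinearMap.ker (Ideal.Quotient.liftₐ J₀ π hJ₀).toLinearMap := by
        rw [LinearMap.mem_ker]
        change π x = 0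
        exact hx
      have := congrArg Subtype.val (hsub.elim ⟨_, hx'⟩ 0)
      exact Ideal.Quotient.eq_zero_iff_mem.mp this
    · intro x hx
      exact hJ₀ x hx
  rw [heq]
  exact ⟨F₁ ∪ F₂, rfl⟩

end FPsq

section Factor

variable {B' B A' A : Type u} [CommRing B'] [CommRing B] [CommRing A'] [CommRing A]
    [Algebra B' B] [Algebra B' A'] [Algebra B A] [Algebra A' A] [Algebra B' A] [IsScalarTower B' B A] [IsScalarTower B' A' A]
    (hsq : EtMil.IsFibreSquare B' B A' A)

include hsq in
theorem exists_factor_fst {L : Type*} [CommRing L] (φ : B' →+* L)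
    (h : ∀ x, algebraMap B' B x = 0 → φ x = 0) : ∃ ψ : B →+* L, ψ.comp (algebraMap B' B) = φ := by
  refine ⟨RingHom.liftOfSurjective (algebraMap B' B) (surj hsq) ⟨φ, fun x hx => h x hx⟩, ?_⟩
  exact RingHom.liftOfRightInverse_comp _ _ _ _

include hsq in
theorem exists_factor_snd {L : Type*} [Field L] (φ : B' →+* L) (ι : B')
    (hι : algebraMap B' B ι = 0) (hφ : φ ι ≠ 0) : ∃ ψ : A' →+* L, ψ.comp (algebraMap B' A') = φ := by
  obtain ⟨s, hs0, hs1, hs2⟩ := exists_star hsq ι hι
  have key : ∀ a b : A', s a * s b = ι * s (a * b) := by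
    intro a b
    apply eq_of hsq
    · rw [map_mul, map_mul, hs0, hs0, hι, zero_mul, zero_mul]
    · rw [map_mul, map_mul, hs1, hs1, hs1]; ring
  refine ⟨{ toFun := fun a => φ (s a) / φ ι, map_one' := ?_, map_mul' := ?_, map_zero' := ?_, map_add' := ?_ }, ?_⟩
  · rw [hs2, div_self hφ]
  · intro a b
    have h : φ (s a) * φ (s b) = φ ι * φ (s (a * b)) := by rw [← φ.map_mul, key, φ.map_mul]
    rw [div_mul_div_comm, h, mul_div_mul_left _ _ hφ]
  · rw [map_zero, map_zero, zero_div]
  · intro a b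
    rw [map_add, map_add, add_div]
  · ext b
    change φ (s (algebraMap B' A' b)) / φ ι = φ b
    rw [Algebra.algebraMap_eq_smul_one, map_smul, hs2, smul_eq_mul, map_mul, mul_div_assoc,
      div_self hφ, mul_one]

end Factor

section BCfield

variable {R T S ST L : Type*} [CommRing R] [CommRing T] [CommRing S] [CommRing ST] [CommRing L]
  [Algebra R T] [Algebra R S] [Algebra T ST] [Algebra S ST] [Algebra R ST]
  [IsScalarTower R T ST] [IsScalarTower R S ST] [Algebra.IsPushout R T S ST]
  [Algebra R L] [Algebra T L] [IsScalarTower R T L]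

variable (R T S ST L) in
theorem formallySmooth_fibre [Algebra.FormallySmooth T ST] : Algebra.FormallySmooth L (L ⊗[R] S) := by
  let e1 : L ⊗[T] (T ⊗[R] S) ≃ₐ[L] L ⊗[R] S := Algebra.TensorProduct.cancelBaseChange R T L L S
  let e2 : L ⊗[T] (T ⊗[R] S) ≃ₐ[L] L ⊗[T] ST :=
    Algebra.TensorProduct.congr AlgEquiv.refl (Algebra.IsPushout.equiv R T S ST)
  exact Algebra.FormallySmooth.of_equiv (e2.symm.trans e1)

end BCfield

section BC

variable {R T S ST : Type*} [CommRing R] [CommRing T] [CommRing S] [CommRing ST]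
  [Algebra R T] [Algebra R S] [Algebra T ST] [Algebra S ST] [Algebra R ST]
  [IsScalarTower R T ST] [IsScalarTower R S ST] [Algebra.IsPushout R T S ST]

variable (R T S ST) in
theorem surjective_of_isPushout (hT : Function.Surjective (algebraMap R T)) :
    Function.Surjective (algebraMap S ST) := by
  intro x
  obtain ⟨s, hs⟩ := exists_one_tmul_of_surjective S hT ((Algebra.IsPushout.equiv R T S ST).symm x)
  refine ⟨s, ?_⟩
  have := congrArg (Algebra.IsPushout.equiv R T S ST) hs
  rw [AlgEquiv.apply_symm_apply, Algebra.IsPushout.equiv_tmul, map_one, one_mul] at this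
  exact this

include R in
variable (R T S ST) in
theorem exists_finset_span (x : ST) : ∃ t : Finset S, x ∈ Submodule.span T ((algebraMap S ST) '' (t : Set S)) := by
  classical
  have h : IsBaseChange T (IsScalarTower.toAlgHom R S ST).toLinearMap := Algebra.IsPushout.out
  refine h.inductionOn x (fun x => ∃ t : Finset S, x ∈ Submodule.span T ((algebraMap S ST) '' (t : Set S)))
    ⟨∅, by simp⟩ ?_ ?_ ?_
  · intro m
    exact ⟨{m}, Submodule.subset_span ⟨m, by simp, rfl⟩⟩
  · rintro s n ⟨t, ht⟩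
    exact ⟨t, Submodule.smul_mem _ s ht⟩
  · rintro n₁ n₂ ⟨t₁, ht₁⟩ ⟨t₂, ht₂⟩
    refine ⟨t₁ ∪ t₂, Submodule.add_mem _ ?_ ?_⟩
    · exact Submodule.span_mono (Set.image_mono (by simp)) ht₁
    · exact Submodule.span_mono (Set.image_mono (by simp)) ht₂


variable (R T S ST) in
theorem bc_finiteType [Algebra.FiniteType R S] : Algebra.FiniteType T ST :=
  Algebra.FiniteType.equiv inferInstance (Algebra.IsPushout.equiv R T S ST)

variable (R T S ST) in
theorem bc_flat [Module.Flat R S] : Module.Flat T ST :=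
  Module.Flat.of_linearEquiv (Algebra.IsPushout.equiv R T S ST).symm.toLinearEquiv

variable (R T S ST) in
theorem bc_fp [Algebra.FinitePresentation R S] : Algebra.FinitePresentation T ST :=
  Algebra.FinitePresentation.equiv (Algebra.IsPushout.equiv R T S ST)

variable (R T S ST) in
theorem bc_smooth [Algebra.Smooth R S] : Algebra.Smooth T ST :=
  Algebra.Smooth.of_equiv (Algebra.IsPushout.equiv R T S ST)

variable (R T S ST) in
theorem bc_etale [Algebra.Etale R S] : Algebra.Etale T ST :=
  Algebra.Etale.of_equiv (Algebra.IsPushout.equiv R T S ST)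

variable (R T S ST) in
theorem bc_finite [Module.Finite R S] : Module.Finite T ST :=
  Module.Finite.equiv (Algebra.IsPushout.equiv R T S ST).toLinearEquiv

end BC

section Rel

variable {B' B A' A : Type u} [CommRing B'] [CommRing B] [CommRing A'] [CommRing A]
    [Algebra B' B] [Algebra B' A'] [Algebra B A] [Algebra A' A] [Algebra B' A] [IsScalarTower B' B A] [IsScalarTower B' A' A]
    (hsq : EtMil.IsFibreSquare B' B A' A)
    {D' D C' : Type u} [CommRing D'] [CommRing D] [CommRing C']
    [Algebra B' D'] [Algebra B D] [Algebra A' C'] [Algebra D' D] [Algebra D' C']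
    [Algebra B' D] [IsScalarTower B' B D] [IsScalarTower B' D' D]
    [Algebra B' C'] [IsScalarTower B' A' C'] [IsScalarTower B' D' C']
    [Algebra.IsPushout B' B D' D] [Algebra.IsPushout B' A' D' C']

include hsq in
theorem rel_finiteType [Algebra.FiniteType B D] [Algebra.FiniteType A' C'] :
    Algebra.FiniteType B' D' := by
  classical
  obtain ⟨s₁, hs₁⟩ := (Algebra.FiniteType.out : (⊤ : Subalgebra B D).FG)
  obtain ⟨s₂, hs₂⟩ := (Algebra.FiniteType.out : (⊤ : Subalgebra A' C').FG)
  have hD := surjective_of_isPushout B' B D' D (surj hsq)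
  choose l₁ hl₁ using hD
  choose F hF using exists_finset_span B' A' D' C'
  let t : Finset D' := s₁.image l₁ ∪ s₂.biUnion F
  have hE : Algebra.adjoin B' (t : Set D') = ⊤ := by
    apply Subalgebra.toSubmodule_injective
    rw [Algebra.top_toSubmodule]
    apply top_of_lTensor_surjective hsq
    · apply lTensor_surj_of_adjoin (ST := D)
      rw [eq_top_iff, ← hs₁]
      apply Algebra.adjoin_le
      intro d hd
      apply Algebra.subset_adjoin
      refine ⟨l₁ d, Algebra.subset_adjoin ?_, hl₁ d⟩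
      simp only [t, Finset.coe_union, Finset.coe_image, Set.mem_union, Set.mem_image]
      exact Or.inl ⟨d, hd, rfl⟩
    · apply lTensor_surj_of_adjoin (ST := C')
      rw [eq_top_iff, ← hs₂]
      apply Algebra.adjoin_le
      intro c' hc'
      have h1 := hF c'
      have h2 : Submodule.span A' ((algebraMap D' C') '' (F c' : Set D')) ≤
          Subalgebra.toSubmodule (Algebra.adjoin A'
            ((algebraMap D' C') '' ((Algebra.adjoin B' (t : Set D') : Subalgebra B' D') : Set D'))) := by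
        rw [Submodule.span_le]
        rintro _ ⟨x, hx, rfl⟩
        apply Algebra.subset_adjoin
        refine ⟨x, Algebra.subset_adjoin ?_, rfl⟩
        simp only [t, Finset.coe_union, Finset.coe_biUnion, Set.mem_union, Set.mem_iUnion]
        exact Or.inr ⟨c', hc', hx⟩
      exact h2 h1
  exact ⟨⟨t, hE⟩⟩


include hsq in
theorem rel_flat [Module.Flat B D] [Module.Flat A' C'] : Module.Flat B' D' := by
  haveI : Module.Flat B (B ⊗[B'] D') :=
    Module.Flat.of_linearEquiv (Algebra.IsPushout.equiv B' B D' D).toLinearEquiv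
  haveI : Module.Flat A' (A' ⊗[B'] D') :=
    Module.Flat.of_linearEquiv (Algebra.IsPushout.equiv B' A' D' C').toLinearEquiv
  exact flat_of_tensor D' hsq

include hsq in
theorem rel_finite [Module.Finite B D] [Module.Finite A' C'] : Module.Finite B' D' := by
  haveI : Module.Finite B (B ⊗[B'] D') :=
    Module.Finite.equiv (Algebra.IsPushout.equiv B' B D' D).symm.toLinearEquiv
  haveI : Module.Finite A' (A' ⊗[B'] D') :=
    Module.Finite.equiv (Algebra.IsPushout.equiv B' A' D' C').symm.toLinearEquiv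
  exact finite_of_tensor D' hsq

include hsq in
theorem rel_fp [Module.Flat B D] [Algebra.FinitePresentation B D] [Module.Flat A' C']
    [Algebra.FinitePresentation A' C'] : Algebra.FinitePresentation B' D' := by
  haveI : Module.Flat B' D' := rel_flat hsq (D := D) (C' := C')
  haveI : Algebra.FiniteType B' D' := rel_finiteType hsq (D := D) (C' := C')
  haveI : Algebra.FinitePresentation B (B ⊗[B'] D') :=
    Algebra.FinitePresentation.equiv (Algebra.IsPushout.equiv B' B D' D).symm
  haveI : Algebra.FinitePresentation A' (A' ⊗[B'] D') :=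
    Algebra.FinitePresentation.equiv (Algebra.IsPushout.equiv B' A' D' C').symm
  obtain ⟨n, π, hπ⟩ := Algebra.FiniteType.iff_quotient_mvPolynomial''.mp
    (inferInstance : Algebra.FiniteType B' D')
  have hfg := fg_ker_of_square hsq π hπ
  exact Algebra.FinitePresentation.of_surjective hπ hfg

include hsq in
theorem rel_smooth [Algebra.Smooth B D] [Algebra.Smooth A' C'] : Algebra.Smooth B' D' := by
  haveI : Module.Flat B' D' := rel_flat hsq (D := D) (C' := C')
  haveI : Algebra.FinitePresentation B' D' := rel_fp hsq (D := D) (C' := C')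
  refine Algebra.Smooth.of_formallySmooth_fiber fun 𝔭 _ => ?_
  by_cases h : ∀ x, algebraMap B' B x = 0 → algebraMap B' 𝔭.ResidueField x = 0
  · obtain ⟨ψ, hψ⟩ := exists_factor_fst hsq (algebraMap B' 𝔭.ResidueField) h
    letI : Algebra B 𝔭.ResidueField := ψ.toAlgebra
    haveI : IsScalarTower B' B 𝔭.ResidueField := IsScalarTower.of_algebraMap_eq' hψ.symm
    exact formallySmooth_fibre B' B D' D 𝔭.ResidueField
  · push Not at h
    obtain ⟨ι, hι, hφ⟩ := h
    obtain ⟨ψ, hψ⟩ := exists_factor_snd hsq (algebraMap B' 𝔭.ResidueField) ι hι hφ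
    letI : Algebra A' 𝔭.ResidueField := ψ.toAlgebra
    haveI : IsScalarTower B' A' 𝔭.ResidueField := IsScalarTower.of_algebraMap_eq' hψ.symm
    exact formallySmooth_fibre B' A' D' C' 𝔭.ResidueField

include hsq in
theorem rel_etale [Algebra.Etale B D] [Algebra.Etale A' C'] : Algebra.Etale B' D' := by
  haveI : Module.Flat B' D' := rel_flat hsq (D := D) (C' := C')
  haveI : Algebra.FinitePresentation B' D' := rel_fp hsq (D := D) (C' := C')
  haveI : Subsingleton (Ω[D⁄B]) := inferInstance
  haveI : Subsingleton (Ω[C'⁄A']) := inferInstance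
  haveI : Subsingleton (B ⊗[B'] Ω[D'⁄B']) :=
    (KaehlerDifferential.tensorKaehlerEquivBase B' B D' D).toEquiv.subsingleton
  haveI : Subsingleton (A' ⊗[B'] Ω[D'⁄B']) :=
    (KaehlerDifferential.tensorKaehlerEquivBase B' A' D' C').toEquiv.subsingleton
  haveI : Subsingleton (Ω[D'⁄B']) := subsingleton_of_tensor _ hsq
  haveI : Algebra.FormallyUnramified B' D' := ⟨inferInstance⟩
  exact Algebra.Etale.of_formallyUnramified_of_flat

end Rel

section Glue

variable {B' B A' A : Type u} [CommRing B'] [CommRing B] [CommRing A'] [CommRing A]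
    [Algebra B' B] [Algebra B' A'] [Algebra B A] [Algebra A' A] [Algebra B' A] [IsScalarTower B' B A] [IsScalarTower B' A' A]
    (hsq : EtMil.IsFibreSquare B' B A' A)
    {D' D C' C : Type u} [CommRing D'] [CommRing D] [CommRing C'] [CommRing C]
    [Algebra D' D] [Algebra D' C'] [Algebra D C] [Algebra C' C] [Algebra D' C] [IsScalarTower D' D C] [IsScalarTower D' C' C]
    (hsq' : EtMil.IsFibreSquare D' D C' C)
    [Algebra B' D'] [Algebra B D] [Algebra A' C'] [Algebra A C]
    [Algebra B' D] [IsScalarTower B' B D] [IsScalarTower B' D' D]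
    [Algebra B' C'] [IsScalarTower B' A' C'] [IsScalarTower B' D' C']
    [Algebra B C] [IsScalarTower B A C] [IsScalarTower B D C]
    [Algebra A' C] [IsScalarTower A' A C] [IsScalarTower A' C' C]
    [Algebra.IsPushout B D A C] [Algebra.IsPushout A' C' A C]

variable (B A D C) in
/-- `A ⊗[B] D ≃ C`. -/
noncomputable def e1 : A ⊗[B] D ≃ₗ[A] C :=
  (Algebra.IsPushout.symm (inferInstance : Algebra.IsPushout B D A C)).out.equiv

variable (A' A C' C) in
/-- `A ⊗[A'] C' ≃ C`. -/
noncomputable def e2 : A ⊗[A'] C' ≃ₗ[A] C :=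
  (Algebra.IsPushout.symm (inferInstance : Algebra.IsPushout A' C' A C)).out.equiv

theorem e1_tmul (a : A) (d : D) : e1 B A D C (a ⊗ₜ d) = a • algebraMap D C d :=
  IsBaseChange.equiv_tmul _ _ _

theorem e2_tmul (a : A) (c' : C') : e2 A' A C' C (a ⊗ₜ c') = a • algebraMap C' C c' :=
  IsBaseChange.equiv_tmul _ _ _

variable (B A' A D C' C) in
/-- The glueing isomorphism. -/
noncomputable def φ : A ⊗[B] D ≃ₗ[A] A ⊗[A'] C' := (e1 B A D C).trans (e2 A' A C' C).symm

theorem φ_iff (d : D) (c' : C') :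
    φ B A' A D C' C ((1 : A) ⊗ₜ[B] d) = (1 : A) ⊗ₜ[A'] c' ↔ algebraMap D C d = algebraMap C' C c' := by
  unfold φ
  rw [LinearEquiv.trans_apply, LinearEquiv.symm_apply_eq, e1_tmul, e2_tmul, one_smul, one_smul]

variable (B' B A' A D' D C' C) in
/-- `D' → D ×_φ C'`. -/
noncomputable def θ : D' →ₗ[B'] EtMil.glue B' (φ B A' A D C' C) where
  toFun d' := ⟨(algebraMap D' D d', algebraMap D' C' d'), by
    change φ B A' A D C' C ((1 : A) ⊗ₜ[B] (algebraMap D' D d')) = (1 : A) ⊗ₜ[A'] (algebraMap D' C' d')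
    rw [φ_iff, ← IsScalarTower.algebraMap_apply, ← IsScalarTower.algebraMap_apply]⟩
  map_add' x y := by
    apply Subtype.ext
    simp
  map_smul' r x := by
    apply Subtype.ext
    simp only [RingHom.id_apply, Submodule.coe_smul, Prod.smul_mk]
    rw [Algebra.smul_def, map_mul, map_mul, ← IsScalarTower.algebraMap_apply,
      ← IsScalarTower.algebraMap_apply, Algebra.smul_def, Algebra.smul_def]

theorem θ_fst (d' : D') : (θ B' B A' A D' D C' C d' : D × C').1 = algebraMap D' D d' := rfl
theorem θ_snd (d' : D') : (θ B' B A' A D' D C' C d' : D × C').2 = algebraMap D' C' d' := rfl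

include hsq' in
theorem θ_bijective : Function.Bijective (θ B' B A' A D' D C' C) := by
  constructor
  · intro x y hxy
    apply eq_of hsq'
    · exact congrArg (fun z : EtMil.glue B' (φ B A' A D C' C) => (z : D × C').1) hxy
    · exact congrArg (fun z : EtMil.glue B' (φ B A' A D C' C) => (z : D × C').2) hxy
  · rintro ⟨⟨d, c'⟩, h⟩
    have h' : algebraMap D C d = algebraMap C' C c' := (φ_iff d c').mp h
    obtain ⟨d', h1, h2⟩ := exists_pair hsq' d c' h'
    exact ⟨d', Subtype.ext (Prod.ext h1 h2)⟩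

variable (B' B A' A D' D C' C) in
/-- `D' ≃ D ×_φ C'`. -/
noncomputable def θe : D' ≃ₗ[B'] EtMil.glue B' (φ B A' A D C' C) :=
  LinearEquiv.ofBijective (θ B' B A' A D' D C' C) (θ_bijective hsq')

include hsq hsq' in
/-- P1. -/
theorem isPushout_fst : Algebra.IsPushout B' B D' D := by
  constructor
  let E : B ⊗[B'] D' ≃ₗ[B] D :=
    (TensorProduct.AlgebraTensorModule.congr (LinearEquiv.refl B B) (θe B' B A' A D' D C' C hsq')).trans
      (glueEquivFst (φ B A' A D C' C) hsq)
  refine IsBaseChange.of_equiv E ?_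
  intro x
  change (glueEquivFst (φ B A' A D C' C) hsq) ((1 : B) ⊗ₜ (θ B' B A' A D' D C' C x)) = _
  change Groth.Agent.S2019.g₁ B' (φ B A' A D C' C) _ = _
  rw [Groth.Agent.S2019.g₁_tmul, one_smul, θ_fst]
  rfl

include hsq hsq' in
/-- P2. -/
theorem isPushout_snd : Algebra.IsPushout B' A' D' C' := by
  constructor
  let E : A' ⊗[B'] D' ≃ₗ[A'] C' :=
    (TensorProduct.AlgebraTensorModule.congr (LinearEquiv.refl A' A') (θe B' B A' A D' D C' C hsq')).trans
      (glueEquivSnd (φ B A' A D C' C) hsq)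
  refine IsBaseChange.of_equiv E ?_
  intro x
  change (glueEquivSnd (φ B A' A D C' C) hsq) ((1 : A') ⊗ₜ (θ B' B A' A D' D C' C x)) = _
  change Groth.Agent.S2019.g₂ B' (φ B A' A D C' C) _ = _
  rw [Groth.Agent.S2019.g₂_tmul, one_smul, θ_snd]
  rfl


include hsq hsq' in
/-- The glue form: all five equivalences. -/
theorem main :
    (Algebra.FiniteType B' D' ↔ Algebra.FiniteType B D ∧ Algebra.FiniteType A' C') ∧
    (Module.Flat B' D' ↔ Module.Flat B D ∧ Module.Flat A' C') ∧
    (Module.Flat B' D' ∧ Algebra.FinitePresentation B' D' ↔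
      (Module.Flat B D ∧ Algebra.FinitePresentation B D) ∧ (Module.Flat A' C' ∧ Algebra.FinitePresentation A' C')) ∧
    (Algebra.Smooth B' D' ↔ Algebra.Smooth B D ∧ Algebra.Smooth A' C') ∧
    (Algebra.Etale B' D' ↔ Algebra.Etale B D ∧ Algebra.Etale A' C') := by
  haveI := isPushout_fst hsq hsq'
  haveI := isPushout_snd hsq hsq'
  refine ⟨⟨?_, ?_⟩, ⟨?_, ?_⟩, ⟨?_, ?_⟩, ⟨?_, ?_⟩, ⟨?_, ?_⟩⟩
  · intro h
    exact ⟨bc_finiteType B' B D' D, bc_finiteType B' A' D' C'⟩
  · rintro ⟨h1, h2⟩
    exact rel_finiteType hsq (D := D) (C' := C')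
  · intro h
    exact ⟨bc_flat B' B D' D, bc_flat B' A' D' C'⟩
  · rintro ⟨h1, h2⟩
    exact rel_flat hsq (D := D) (C' := C')
  · rintro ⟨h1, h2⟩
    exact ⟨⟨bc_flat B' B D' D, bc_fp B' B D' D⟩, ⟨bc_flat B' A' D' C', bc_fp B' A' D' C'⟩⟩
  · rintro ⟨⟨h1, h2⟩, ⟨h3, h4⟩⟩
    exact ⟨rel_flat hsq (D := D) (C' := C'), rel_fp hsq (D := D) (C' := C')⟩
  · intro h
    exact ⟨bc_smooth B' B D' D, bc_smooth B' A' D' C'⟩
  · rintro ⟨h1, h2⟩
    exact rel_smooth hsq (D := D) (C' := C')
  · intro h
    exact ⟨bc_etale B' B D' D, bc_etale B' A' D' C'⟩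
  · rintro ⟨h1, h2⟩
    exact rel_etale hsq (D := D) (C' := C')

include hsq hsq' in
/-- Finiteness in the glue form. -/
theorem main_finite : Module.Finite B' D' ↔ Module.Finite B D ∧ Module.Finite A' C' := by
  haveI := isPushout_fst hsq hsq'
  haveI := isPushout_snd hsq hsq'
  refine ⟨fun h => ⟨bc_finite B' B D' D, bc_finite B' A' D' C'⟩, ?_⟩
  rintro ⟨h1, h2⟩
  exact rel_finite hsq (D := D) (C' := C')

end Glue

end H9PO.MilAlg
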