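import Mathlib
import Groth.Agent.Lib.Helper9.PO.MilAlg

set_option linter.unusedSectionVars false
set_option linter.style.haveILetI false

universe u
open TensorProduct CategoryTheory CategoryTheory.Limits CommRingCat

namespace H9PO.MilAlg

section Hom

variable {R B A' A R₁ B₁ A'₁ A₁ : Type u} [CommRing R] [CommRing B] [CommRing A'] [CommRing A]
  [CommRing R₁] [CommRing B₁] [CommRing A'₁] [CommRing A₁]
  (f : R →+* B) (g : R →+* A') (q : B →+* A) (p : A' →+* A)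
  (f₁ : R₁ →+* B₁) (g₁ : R₁ →+* A'₁) (q₁ : B₁ →+* A₁) (p₁ : A'₁ →+* A₁)
  (ρ : R →+* R₁) (β : B →+* B₁) (α' : A' →+* A'₁) (α : A →+* A₁)

/-- Ring-hom form of the Milnor-square algebra theorem (glue form), with the two base-change
squares in addition. -/
theorem ringHom_main
    (hc : q.comp f = p.comp g) (hc₁ : q₁.comp f₁ = p₁.comp g₁)
    (hf : f₁.comp ρ = β.comp f) (hg : g₁.comp ρ = α'.comp g)
    (hq : q₁.comp β = α.comp q) (hp : p₁.comp α' = α.comp p)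
    (hps : Function.Surjective p) (hpb : ∀ b a', q b = p a' → ∃! r, f r = b ∧ g r = a')
    (hps₁ : Function.Surjective p₁) (hpb₁ : ∀ b a', q₁ b = p₁ a' → ∃! r, f₁ r = b ∧ g₁ r = a')
    (hB : IsPushout (ofHom β) (ofHom q) (ofHom q₁) (ofHom α))
    (hA : IsPushout (ofHom α') (ofHom p) (ofHom p₁) (ofHom α)) :
    (ρ.FiniteType ↔ β.FiniteType ∧ α'.FiniteType) ∧
    (ρ.Flat ↔ β.Flat ∧ α'.Flat) ∧
    (ρ.Flat ∧ ρ.FinitePresentation ↔ (β.Flat ∧ β.FinitePresentation) ∧ (α'.Flat ∧ α'.FinitePresentation)) ∧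
    (ρ.Smooth ↔ β.Smooth ∧ α'.Smooth) ∧
    (ρ.Etale ↔ β.Etale ∧ α'.Etale) ∧
    (ρ.Finite ↔ β.Finite ∧ α'.Finite) ∧
    IsPushout (ofHom f) (ofHom ρ) (ofHom β) (ofHom f₁) ∧
    IsPushout (ofHom g) (ofHom ρ) (ofHom α') (ofHom g₁) := by
  have hcx : ∀ x, q (f x) = p (g x) := fun x => RingHom.congr_fun hc x
  have hc₁x : ∀ x, q₁ (f₁ x) = p₁ (g₁ x) := fun x => RingHom.congr_fun hc₁ x
  have hfx : ∀ x, f₁ (ρ x) = β (f x) := fun x => RingHom.congr_fun hf x
  have hgx : ∀ x, g₁ (ρ x) = α' (g x) := fun x => RingHom.congr_fun hg x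
  have hqx : ∀ x, q₁ (β x) = α (q x) := fun x => RingHom.congr_fun hq x
  have hpx : ∀ x, p₁ (α' x) = α (p x) := fun x => RingHom.congr_fun hp x
  letI : Algebra R B := f.toAlgebra
  letI : Algebra R A' := g.toAlgebra
  letI : Algebra B A := q.toAlgebra
  letI : Algebra A' A := p.toAlgebra
  letI : Algebra R A := (q.comp f).toAlgebra
  haveI : IsScalarTower R B A := .of_algebraMap_eq' rfl
  haveI : IsScalarTower R A' A := .of_algebraMap_eq' hc
  letI : Algebra R₁ B₁ := f₁.toAlgebra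
  letI : Algebra R₁ A'₁ := g₁.toAlgebra
  letI : Algebra B₁ A₁ := q₁.toAlgebra
  letI : Algebra A'₁ A₁ := p₁.toAlgebra
  letI : Algebra R₁ A₁ := (q₁.comp f₁).toAlgebra
  haveI : IsScalarTower R₁ B₁ A₁ := .of_algebraMap_eq' rfl
  haveI : IsScalarTower R₁ A'₁ A₁ := .of_algebraMap_eq' hc₁
  letI : Algebra R R₁ := ρ.toAlgebra
  letI : Algebra B B₁ := β.toAlgebra
  letI : Algebra A' A'₁ := α'.toAlgebra
  letI : Algebra A A₁ := α.toAlgebra
  letI : Algebra R B₁ := (β.comp f).toAlgebra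
  haveI : IsScalarTower R B B₁ := .of_algebraMap_eq' rfl
  haveI : IsScalarTower R R₁ B₁ := .of_algebraMap_eq' hf.symm
  letI : Algebra R A'₁ := (α'.comp g).toAlgebra
  haveI : IsScalarTower R A' A'₁ := .of_algebraMap_eq' rfl
  haveI : IsScalarTower R R₁ A'₁ := .of_algebraMap_eq' hg.symm
  letI : Algebra B A₁ := (α.comp q).toAlgebra
  haveI : IsScalarTower B A A₁ := .of_algebraMap_eq' rfl
  haveI : IsScalarTower B B₁ A₁ := .of_algebraMap_eq' hq.symm
  letI : Algebra A' A₁ := (α.comp p).toAlgebra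
  haveI : IsScalarTower A' A A₁ := .of_algebraMap_eq' rfl
  haveI : IsScalarTower A' A'₁ A₁ := .of_algebraMap_eq' hp.symm
  have hsq : EtMil.IsFibreSquare R B A' A := ⟨hps, hpb⟩
  have hsq' : EtMil.IsFibreSquare R₁ B₁ A'₁ A₁ := ⟨hps₁, hpb₁⟩
  haveI : Algebra.IsPushout B B₁ A A₁ := CommRingCat.isPushout_iff_isPushout.mp hB
  haveI : Algebra.IsPushout A' A'₁ A A₁ := CommRingCat.isPushout_iff_isPushout.mp hA
  obtain ⟨h1, h2, h3, h4, h5⟩ := main hsq hsq'
  have h6 := main_finite hsq hsq'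
  haveI P1 : Algebra.IsPushout R B R₁ B₁ := isPushout_fst hsq hsq'
  haveI P2 : Algebra.IsPushout R A' R₁ A'₁ := isPushout_snd hsq hsq'
  exact ⟨h1, h2, h3, h4, h5, h6, CommRingCat.isPushout_iff_isPushout.mpr P1,
    CommRingCat.isPushout_iff_isPushout.mpr P2⟩

end Hom

end H9PO.MilAlg
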