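import Mathlib
import Groth.Agent.Lib.Helper9.PO.BCGeo
import Groth.Agent.Lib.Helper9.PO.MilAlgHom

set_option linter.unusedSectionVars false

universe u

open AlgebraicGeometry CategoryTheory Opposite TopologicalSpace Limits

namespace H9PO

namespace MilGeo

open H9Ferrand H9ThickAff BCGeo

section Chart

variable {X Y Z P X' Y' Z' P' : Scheme.{u}}
  (i : Z ⟶ X) (j : Z ⟶ Y) (a : X ⟶ P) (b : Y ⟶ P) [IsClosedImmersion i] [IsAffineHom a] [IsAffineHom b]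
  (hP : IsPushout i j a b)
  (f : X' ⟶ X) (g : Y' ⟶ Y) (i' : Z' ⟶ X') (j' : Z' ⟶ Y') (c : Z' ⟶ Z)
  (hX : IsPullback i' c f i) (hY : IsPullback j' c g j)
  (a' : X' ⟶ P') (b' : Y' ⟶ P') [IsClosedImmersion i'] [IsAffineHom a'] [IsAffineHom b']
  (hP' : IsPushout i' j' a' b') (h : P' ⟶ P) (ha : a' ≫ h = f ≫ a) (hb : b' ≫ h = g ≫ b)

include ha in
omit [IsClosedImmersion i] [IsAffineHom a] [IsAffineHom b] [IsClosedImmersion i'] [IsAffineHom a'] [IsAffineHom b'] in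
theorem leA (O : P.Opens) (O' : P'.Opens) (hle : O' ≤ h ⁻¹ᵁ O) :
    a' ⁻¹ᵁ O' ≤ f ⁻¹ᵁ (a ⁻¹ᵁ O) := by
  intro x hx
  have h1 : h (a' x) ∈ O := hle hx
  have h2 : a (f x) = h (a' x) := by
    rw [← Scheme.Hom.comp_apply, ← Scheme.Hom.comp_apply, ha]
  change a (f x) ∈ O
  rw [h2]; exact h1

include hb in
omit [IsClosedImmersion i] [IsAffineHom a] [IsAffineHom b] [IsClosedImmersion i'] [IsAffineHom a'] [IsAffineHom b'] in
theorem leB (O : P.Opens) (O' : P'.Opens) (hle : O' ≤ h ⁻¹ᵁ O) :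
    b' ⁻¹ᵁ O' ≤ g ⁻¹ᵁ (b ⁻¹ᵁ O) := by
  intro x hx
  have h1 : h (b' x) ∈ O := hle hx
  have h2 : b (g x) = h (b' x) := by
    rw [← Scheme.Hom.comp_apply, ← Scheme.Hom.comp_apply, hb]
  change b (g x) ∈ O
  rw [h2]; exact h1

include hP hX hY hP' ha hb in
/-- The chart statement: over affine opens `O' ≤ h⁻¹ O` the ring maps satisfy the Milnor
equivalences, and the squares of sections are pushouts. -/
theorem chart (O : P.Opens) (hO : IsAffineOpen O) (O' : P'.Opens) (hO' : IsAffineOpen O')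
    (hle : O' ≤ h ⁻¹ᵁ O) :
    ((h.appLE O O' hle).hom.FiniteType ↔
      (g.appLE (b ⁻¹ᵁ O) (b' ⁻¹ᵁ O') (leB b g b' h hb O O' hle)).hom.FiniteType ∧
      (f.appLE (a ⁻¹ᵁ O) (a' ⁻¹ᵁ O') (leA a f a' h ha O O' hle)).hom.FiniteType) ∧
    ((h.appLE O O' hle).hom.Flat ↔
      (g.appLE (b ⁻¹ᵁ O) (b' ⁻¹ᵁ O') (leB b g b' h hb O O' hle)).hom.Flat ∧
      (f.appLE (a ⁻¹ᵁ O) (a' ⁻¹ᵁ O') (leA a f a' h ha O O' hle)).hom.Flat) ∧
    ((h.appLE O O' hle).hom.Flat ∧ (h.appLE O O' hle).hom.FinitePresentation ↔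
      ((g.appLE (b ⁻¹ᵁ O) (b' ⁻¹ᵁ O') (leB b g b' h hb O O' hle)).hom.Flat ∧
        (g.appLE (b ⁻¹ᵁ O) (b' ⁻¹ᵁ O') (leB b g b' h hb O O' hle)).hom.FinitePresentation) ∧
      ((f.appLE (a ⁻¹ᵁ O) (a' ⁻¹ᵁ O') (leA a f a' h ha O O' hle)).hom.Flat ∧
        (f.appLE (a ⁻¹ᵁ O) (a' ⁻¹ᵁ O') (leA a f a' h ha O O' hle)).hom.FinitePresentation)) ∧
    ((h.appLE O O' hle).hom.Smooth ↔
      (g.appLE (b ⁻¹ᵁ O) (b' ⁻¹ᵁ O') (leB b g b' h hb O O' hle)).hom.Smooth ∧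
      (f.appLE (a ⁻¹ᵁ O) (a' ⁻¹ᵁ O') (leA a f a' h ha O O' hle)).hom.Smooth) ∧
    ((h.appLE O O' hle).hom.Etale ↔
      (g.appLE (b ⁻¹ᵁ O) (b' ⁻¹ᵁ O') (leB b g b' h hb O O' hle)).hom.Etale ∧
      (f.appLE (a ⁻¹ᵁ O) (a' ⁻¹ᵁ O') (leA a f a' h ha O O' hle)).hom.Etale) ∧
    ((h.appLE O O' hle).hom.Finite ↔
      (g.appLE (b ⁻¹ᵁ O) (b' ⁻¹ᵁ O') (leB b g b' h hb O O' hle)).hom.Finite ∧
      (f.appLE (a ⁻¹ᵁ O) (a' ⁻¹ᵁ O') (leA a f a' h ha O O' hle)).hom.Finite) ∧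
    IsPushout (b.app O) (h.appLE O O' hle)
      (g.appLE (b ⁻¹ᵁ O) (b' ⁻¹ᵁ O') (leB b g b' h hb O O' hle)) (b'.app O') ∧
    IsPushout (a.app O) (h.appLE O O' hle)
      (f.appLE (a ⁻¹ᵁ O) (a' ⁻¹ᵁ O') (leA a f a' h ha O O' hle)) (a'.app O') := by
  let c₀ := Recog.chartOf i j a b hP.w O hO
  let c₁ := Recog.chartOf i' j' a' b' hP'.w O' hO'
  have lA := leA a f a' h ha O O' hle
  have lB := leB b g b' h hb O O' hle
  have leC : c₁.W ≤ c ⁻¹ᵁ c₀.W := by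
    intro z hz
    have h1 : i' z ∈ a' ⁻¹ᵁ O' := hz
    have h2 : f (i' z) ∈ a ⁻¹ᵁ O := lA h1
    have h3 : i (c z) = f (i' z) := by
      rw [← Scheme.Hom.comp_apply, ← Scheme.Hom.comp_apply, hX.w]
    change i (c z) ∈ a ⁻¹ᵁ O
    rw [h3]; exact h2
  let ρ : Γ(P, O) →+* Γ(P', O') := (h.appLE O O' hle).hom
  let α' : Γ(X, a ⁻¹ᵁ O) →+* Γ(X', a' ⁻¹ᵁ O') := (f.appLE _ _ lA).hom
  let β : Γ(Y, b ⁻¹ᵁ O) →+* Γ(Y', b' ⁻¹ᵁ O') := (g.appLE _ _ lB).hom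
  let γ : Γ(Z, c₀.W) →+* Γ(Z', c₁.W) := (c.appLE _ _ leC).hom
  have hcc : c₀.qC.comp (b.app O).hom = c₀.pC.comp (a.app O).hom :=
    RingHom.ext fun r => (Recog.can i j a b hP.w O hO r).2
  have hcc' : c₁.qC.comp (b'.app O').hom = c₁.pC.comp (a'.app O').hom :=
    RingHom.ext fun r => (Recog.can i' j' a' b' hP'.w O' hO' r).2
  have hf : (b'.app O').hom.comp ρ = β.comp (b.app O).hom := by
    have := appLE_comp_eq b' h g b hb O O' (b ⁻¹ᵁ O) (b' ⁻¹ᵁ O') hle le_rfl le_rfl lB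
    rw [Scheme.Hom.appLE_eq_app, Scheme.Hom.appLE_eq_app] at this
    exact this
  have hg : (a'.app O').hom.comp ρ = α'.comp (a.app O).hom := by
    have := appLE_comp_eq a' h f a ha O O' (a ⁻¹ᵁ O) (a' ⁻¹ᵁ O') hle le_rfl le_rfl lA
    rw [Scheme.Hom.appLE_eq_app, Scheme.Hom.appLE_eq_app] at this
    exact this
  have hq : c₁.qC.comp β = γ.comp c₀.qC :=
    appLE_comp_eq j' g c j hY.w (b ⁻¹ᵁ O) (b' ⁻¹ᵁ O') c₀.W c₁.W lB c₁.leW' c₀.leW' leC
  have hp : c₁.pC.comp α' = γ.comp c₀.pC := by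
    have := appLE_comp_eq i' f c i hX.w (a ⁻¹ᵁ O) (a' ⁻¹ᵁ O') c₀.W c₁.W lA c₁.leW c₀.leW leC
    have e1 : i'.appLE (a' ⁻¹ᵁ O') c₁.W c₁.leW = i'.app (a' ⁻¹ᵁ O') :=
      (Scheme.Hom.app_eq_appLE i').symm
    have e2 : i.appLE (a ⁻¹ᵁ O) c₀.W c₀.leW = i.app (a ⁻¹ᵁ O) := (Scheme.Hom.app_eq_appLE i).symm
    rw [e1, e2] at this
    exact this
  -- fibre squares
  have hbij := Recog.can_bijective i j a b hP O hO
  have hbij' := Recog.can_bijective i' j' a' b' hP' O' hO'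
  have hpb : ∀ y x, c₀.qC y = c₀.pC x → ∃! r, (b.app O).hom r = y ∧ (a.app O).hom r = x := by
    intro y x hyx
    obtain ⟨r, hr⟩ := hbij.2 ⟨(y, x), hyx⟩
    refine ⟨r, ⟨congrArg (fun t => c₀.fC t) hr, congrArg (fun t => c₀.gC t) hr⟩, ?_⟩
    rintro r' ⟨h1, h2⟩
    apply hbij.1
    rw [hr]
    exact Pair.ext_elem h1 h2
  have hpb' : ∀ y x, c₁.qC y = c₁.pC x → ∃! r, (b'.app O').hom r = y ∧ (a'.app O').hom r = x := by
    intro y x hyx
    obtain ⟨r, hr⟩ := hbij'.2 ⟨(y, x), hyx⟩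
    refine ⟨r, ⟨congrArg (fun t => c₁.fC t) hr, congrArg (fun t => c₁.gC t) hr⟩, ?_⟩
    rintro r' ⟨h1, h2⟩
    apply hbij'.1
    rw [hr]
    exact Pair.ext_elem h1 h2
  have hps : Function.Surjective c₀.pC := i.app_surjective (a ⁻¹ᵁ O) (hO.preimage a)
  have hps' : Function.Surjective c₁.pC := i'.app_surjective (a' ⁻¹ᵁ O') (hO'.preimage a')
  -- pushout squares of sections
  have eB : c₁.W = j' ⁻¹ᵁ (b' ⁻¹ᵁ O') ⊓ c ⁻¹ᵁ c₀.W := by
    apply le_antisymm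
    · exact le_inf c₁.leW' leC
    · exact inf_le_left.trans c₁.e.ge
  have eA : c₁.W = i' ⁻¹ᵁ (a' ⁻¹ᵁ O') ⊓ c ⁻¹ᵁ c₀.W := by
    apply le_antisymm
    · exact le_inf c₁.leW leC
    · exact inf_le_left
  have hB : IsPushout (CommRingCat.ofHom β) (CommRingCat.ofHom c₀.qC) (CommRingCat.ofHom c₁.qC)
      (CommRingCat.ofHom γ) :=
    (isPushout_sections hY c₀.leW' lB eB (hO.preimage b) c₀.hW (hO'.preimage b')).flip
  have hA : IsPushout (CommRingCat.ofHom α') (CommRingCat.ofHom c₀.pC) (CommRingCat.ofHom c₁.pC)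
      (CommRingCat.ofHom γ) := by
    have := (isPushout_sections hX c₀.leW lA eA (hO.preimage a) c₀.hW (hO'.preimage a')).flip
    change IsPushout (f.appLE (a ⁻¹ᵁ O) (a' ⁻¹ᵁ O') lA) (i.app (a ⁻¹ᵁ O)) (i'.app (a' ⁻¹ᵁ O'))
      (c.appLE c₀.W c₁.W leC)
    rw [Scheme.Hom.app_eq_appLE i, Scheme.Hom.app_eq_appLE i']
    exact this
  exact MilAlg.ringHom_main (b.app O).hom (a.app O).hom c₀.qC c₀.pC (b'.app O').hom (a'.app O').hom
    c₁.qC c₁.pC ρ β α' γ hcc hcc' hf hg hq hp hps hpb hps' hpb' hB hA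

end Chart


section Glob

variable {X Y P X' Y' P' : Scheme.{u}}
  (a : X ⟶ P) (b : Y ⟶ P) (f : X' ⟶ X) (g : Y' ⟶ Y)
  (a' : X' ⟶ P') (b' : Y' ⟶ P') (h : P' ⟶ P) (ha : a' ≫ h = f ≫ a) (hb : b' ≫ h = g ≫ b)

theorem exists_opens (p' : P') : ∃ (O : P.Opens) (O' : P'.Opens), IsAffineOpen O ∧ IsAffineOpen O' ∧
    O' ≤ h ⁻¹ᵁ O ∧ p' ∈ O' := by
  obtain ⟨O, hO, hpO, -⟩ := Opens.isBasis_iff_nbhd.mp P.isBasis_affineOpens
    (show h p' ∈ (⊤ : P.Opens) from trivial)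
  obtain ⟨O', hO', hpO', hle⟩ := Opens.isBasis_iff_nbhd.mp P'.isBasis_affineOpens
    (show p' ∈ h ⁻¹ᵁ O from hpO)
  exact ⟨O, O', hO, hO', hle, hpO'⟩

theorem stableSource_finiteType :
    RingHom.StableUnderCompositionWithLocalizationAwaySource.{u} @RingHom.FiniteType :=
  (RingHom.finiteType_stableUnderComposition.stableUnderCompositionWithLocalizationAway
    RingHom.finiteType_holdsForLocalizationAway).left

theorem stableSource_flat :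
    RingHom.StableUnderCompositionWithLocalizationAwaySource.{u} @RingHom.Flat :=
  (RingHom.Flat.stableUnderComposition.stableUnderCompositionWithLocalizationAway
    RingHom.Flat.holdsForLocalizationAway).left

theorem stableSource_fp :
    RingHom.StableUnderCompositionWithLocalizationAwaySource.{u} @RingHom.FinitePresentation :=
  (RingHom.finitePresentation_stableUnderComposition.stableUnderCompositionWithLocalizationAway
    RingHom.finitePresentation_holdsForLocalizationAway).left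

theorem stableSource_smooth :
    RingHom.StableUnderCompositionWithLocalizationAwaySource.{u} @RingHom.Smooth :=
  (RingHom.Smooth.stableUnderComposition.stableUnderCompositionWithLocalizationAway
    RingHom.Smooth.holdsForLocalizationAway).left

theorem stableSource_etale :
    RingHom.StableUnderCompositionWithLocalizationAwaySource.{u} @RingHom.Etale := by
  refine (RingHom.Etale.stableUnderComposition.stableUnderCompositionWithLocalizationAway ?_).left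
  intro R S _ _ _ r _
  rw [RingHom.etale_algebraMap]
  exact Algebra.Etale.of_isLocalizationAway r

variable {Pr : MorphismProperty Scheme.{u}}
  {Q : ∀ {R S : Type u} [CommRing R] [CommRing S], (R →+* S) → Prop} [HasRingHomProperty Pr Q]

theorem of_charts_P (hQ : RingHom.StableUnderCompositionWithLocalizationAwaySource @Q)
    (key : ∀ (O : P.Opens) (O' : P'.Opens) (_ : IsAffineOpen O) (_ : IsAffineOpen O')
      (hle : O' ≤ h ⁻¹ᵁ O), Q (h.appLE O O' hle).hom) : Pr h := by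
  rw [HasRingHomProperty.iff_exists_appLE (P := Pr) hQ]
  intro p'
  obtain ⟨O, O', hO, hO', hle, hp'⟩ := exists_opens h p'
  exact ⟨⟨O, hO⟩, ⟨O', hO'⟩, hp', hle, key O O' hO hO' hle⟩

include ha in
theorem of_charts_X [IsAffineHom a] [IsAffineHom a']
    (hQ : RingHom.StableUnderCompositionWithLocalizationAwaySource @Q)
    (key : ∀ (O : P.Opens) (O' : P'.Opens) (_ : IsAffineOpen O) (_ : IsAffineOpen O')
      (hle : O' ≤ h ⁻¹ᵁ O),
      Q (f.appLE (a ⁻¹ᵁ O) (a' ⁻¹ᵁ O') (leA a f a' h ha O O' hle)).hom) : Pr f := by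
  rw [HasRingHomProperty.iff_exists_appLE (P := Pr) hQ]
  intro x'
  obtain ⟨O, O', hO, hO', hle, hp'⟩ := exists_opens h (a' x')
  exact ⟨⟨a ⁻¹ᵁ O, hO.preimage a⟩, ⟨a' ⁻¹ᵁ O', hO'.preimage a'⟩, hp', leA a f a' h ha O O' hle,
    key O O' hO hO' hle⟩

include hb in
theorem of_charts_Y [IsAffineHom b] [IsAffineHom b']
    (hQ : RingHom.StableUnderCompositionWithLocalizationAwaySource @Q)
    (key : ∀ (O : P.Opens) (O' : P'.Opens) (_ : IsAffineOpen O) (_ : IsAffineOpen O')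
      (hle : O' ≤ h ⁻¹ᵁ O),
      Q (g.appLE (b ⁻¹ᵁ O) (b' ⁻¹ᵁ O') (leB b g b' h hb O O' hle)).hom) : Pr g := by
  rw [HasRingHomProperty.iff_exists_appLE (P := Pr) hQ]
  intro y'
  obtain ⟨O, O', hO, hO', hle, hp'⟩ := exists_opens h (b' y')
  exact ⟨⟨b ⁻¹ᵁ O, hO.preimage b⟩, ⟨b' ⁻¹ᵁ O', hO'.preimage b'⟩, hp', leB b g b' h hb O O' hle,
    key O O' hO hO' hle⟩

end Glob


section Main

variable {X Y Z P X' Y' Z' P' : Scheme.{u}}
  (i : Z ⟶ X) (j : Z ⟶ Y) (a : X ⟶ P) (b : Y ⟶ P) [IsClosedImmersion i] [IsAffineHom a] [IsAffineHom b]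
  (hP : IsPushout i j a b)
  (f : X' ⟶ X) (g : Y' ⟶ Y) (i' : Z' ⟶ X') (j' : Z' ⟶ Y') (c : Z' ⟶ Z)
  (hX : IsPullback i' c f i) (hY : IsPullback j' c g j)
  (a' : X' ⟶ P') (b' : Y' ⟶ P') [IsClosedImmersion i'] [IsAffineHom a'] [IsAffineHom b']
  (hP' : IsPushout i' j' a' b') (h : P' ⟶ P) (ha : a' ≫ h = f ≫ a) (hb : b' ≫ h = g ≫ b)

include hP hX hY hP' ha hb in
theorem main :
    (LocallyOfFiniteType h ↔ LocallyOfFiniteType f ∧ LocallyOfFiniteType g) ∧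
    (Flat h ↔ Flat f ∧ Flat g) ∧
    ((Flat h ∧ LocallyOfFinitePresentation h) ↔
      (Flat f ∧ LocallyOfFinitePresentation f) ∧ (Flat g ∧ LocallyOfFinitePresentation g)) ∧
    (Smooth h ↔ Smooth f ∧ Smooth g) ∧
    (Etale h ↔ Etale f ∧ Etale g) := by
  have C := chart i j a b hP f g i' j' c hX hY a' b' hP' h ha hb
  refine ⟨⟨fun H => ⟨?_, ?_⟩, fun H => ?_⟩, ⟨fun H => ⟨?_, ?_⟩, fun H => ?_⟩,
    ⟨fun H => ⟨⟨?_, ?_⟩, ⟨?_, ?_⟩⟩, fun H => ⟨?_, ?_⟩⟩, ⟨fun H => ⟨?_, ?_⟩, fun H => ?_⟩,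
    ⟨fun H => ⟨?_, ?_⟩, fun H => ?_⟩⟩
  -- finite type
  · exact of_charts_X a f a' h ha stableSource_finiteType fun O O' hO hO' hle =>
      ((C O hO O' hO' hle).1.mp
        (HasRingHomProperty.appLE @LocallyOfFiniteType h H ⟨O, hO⟩ ⟨O', hO'⟩ hle)).2
  · exact of_charts_Y b g b' h hb stableSource_finiteType fun O O' hO hO' hle =>
      ((C O hO O' hO' hle).1.mp
        (HasRingHomProperty.appLE @LocallyOfFiniteType h H ⟨O, hO⟩ ⟨O', hO'⟩ hle)).1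
  · exact of_charts_P h stableSource_finiteType fun O O' hO hO' hle =>
      (C O hO O' hO' hle).1.mpr
        ⟨HasRingHomProperty.appLE @LocallyOfFiniteType g H.2 ⟨_, hO.preimage b⟩
          ⟨_, hO'.preimage b'⟩ _,
         HasRingHomProperty.appLE @LocallyOfFiniteType f H.1 ⟨_, hO.preimage a⟩
          ⟨_, hO'.preimage a'⟩ _⟩
  -- flat
  · exact of_charts_X a f a' h ha stableSource_flat fun O O' hO hO' hle =>
      ((C O hO O' hO' hle).2.1.mp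
        (HasRingHomProperty.appLE @Flat h H ⟨O, hO⟩ ⟨O', hO'⟩ hle)).2
  · exact of_charts_Y b g b' h hb stableSource_flat fun O O' hO hO' hle =>
      ((C O hO O' hO' hle).2.1.mp
        (HasRingHomProperty.appLE @Flat h H ⟨O, hO⟩ ⟨O', hO'⟩ hle)).1
  · exact of_charts_P h stableSource_flat fun O O' hO hO' hle =>
      (C O hO O' hO' hle).2.1.mpr
        ⟨HasRingHomProperty.appLE @Flat g H.2 ⟨_, hO.preimage b⟩ ⟨_, hO'.preimage b'⟩ _,
         HasRingHomProperty.appLE @Flat f H.1 ⟨_, hO.preimage a⟩ ⟨_, hO'.preimage a'⟩ _⟩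
  -- flat and lfp
  · exact of_charts_X a f a' h ha stableSource_flat fun O O' hO hO' hle =>
      ((C O hO O' hO' hle).2.2.1.mp
        ⟨HasRingHomProperty.appLE @Flat h H.1 ⟨O, hO⟩ ⟨O', hO'⟩ hle,
         HasRingHomProperty.appLE @LocallyOfFinitePresentation h H.2 ⟨O, hO⟩ ⟨O', hO'⟩ hle⟩).2.1
  · exact of_charts_X a f a' h ha stableSource_fp fun O O' hO hO' hle =>
      ((C O hO O' hO' hle).2.2.1.mp
        ⟨HasRingHomProperty.appLE @Flat h H.1 ⟨O, hO⟩ ⟨O', hO'⟩ hle,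
         HasRingHomProperty.appLE @LocallyOfFinitePresentation h H.2 ⟨O, hO⟩ ⟨O', hO'⟩ hle⟩).2.2
  · exact of_charts_Y b g b' h hb stableSource_flat fun O O' hO hO' hle =>
      ((C O hO O' hO' hle).2.2.1.mp
        ⟨HasRingHomProperty.appLE @Flat h H.1 ⟨O, hO⟩ ⟨O', hO'⟩ hle,
         HasRingHomProperty.appLE @LocallyOfFinitePresentation h H.2 ⟨O, hO⟩ ⟨O', hO'⟩ hle⟩).1.1
  · exact of_charts_Y b g b' h hb stableSource_fp fun O O' hO hO' hle =>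
      ((C O hO O' hO' hle).2.2.1.mp
        ⟨HasRingHomProperty.appLE @Flat h H.1 ⟨O, hO⟩ ⟨O', hO'⟩ hle,
         HasRingHomProperty.appLE @LocallyOfFinitePresentation h H.2 ⟨O, hO⟩ ⟨O', hO'⟩ hle⟩).1.2
  · exact of_charts_P h stableSource_flat fun O O' hO hO' hle =>
      ((C O hO O' hO' hle).2.2.1.mpr
        ⟨⟨HasRingHomProperty.appLE @Flat g H.2.1 ⟨_, hO.preimage b⟩ ⟨_, hO'.preimage b'⟩ _,
          HasRingHomProperty.appLE @LocallyOfFinitePresentation g H.2.2 ⟨_, hO.preimage b⟩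
            ⟨_, hO'.preimage b'⟩ _⟩,
         ⟨HasRingHomProperty.appLE @Flat f H.1.1 ⟨_, hO.preimage a⟩ ⟨_, hO'.preimage a'⟩ _,
          HasRingHomProperty.appLE @LocallyOfFinitePresentation f H.1.2 ⟨_, hO.preimage a⟩
            ⟨_, hO'.preimage a'⟩ _⟩⟩).1
  · exact of_charts_P h stableSource_fp fun O O' hO hO' hle =>
      ((C O hO O' hO' hle).2.2.1.mpr
        ⟨⟨HasRingHomProperty.appLE @Flat g H.2.1 ⟨_, hO.preimage b⟩ ⟨_, hO'.preimage b'⟩ _,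
          HasRingHomProperty.appLE @LocallyOfFinitePresentation g H.2.2 ⟨_, hO.preimage b⟩
            ⟨_, hO'.preimage b'⟩ _⟩,
         ⟨HasRingHomProperty.appLE @Flat f H.1.1 ⟨_, hO.preimage a⟩ ⟨_, hO'.preimage a'⟩ _,
          HasRingHomProperty.appLE @LocallyOfFinitePresentation f H.1.2 ⟨_, hO.preimage a⟩
            ⟨_, hO'.preimage a'⟩ _⟩⟩).2
  -- smooth
  · exact of_charts_X a f a' h ha stableSource_smooth fun O O' hO hO' hle =>
      ((C O hO O' hO' hle).2.2.2.1.mp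
        (HasRingHomProperty.appLE @Smooth h H ⟨O, hO⟩ ⟨O', hO'⟩ hle)).2
  · exact of_charts_Y b g b' h hb stableSource_smooth fun O O' hO hO' hle =>
      ((C O hO O' hO' hle).2.2.2.1.mp
        (HasRingHomProperty.appLE @Smooth h H ⟨O, hO⟩ ⟨O', hO'⟩ hle)).1
  · exact of_charts_P h stableSource_smooth fun O O' hO hO' hle =>
      (C O hO O' hO' hle).2.2.2.1.mpr
        ⟨HasRingHomProperty.appLE @Smooth g H.2 ⟨_, hO.preimage b⟩ ⟨_, hO'.preimage b'⟩ _,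
         HasRingHomProperty.appLE @Smooth f H.1 ⟨_, hO.preimage a⟩ ⟨_, hO'.preimage a'⟩ _⟩
  -- etale
  · exact of_charts_X a f a' h ha stableSource_etale fun O O' hO hO' hle =>
      ((C O hO O' hO' hle).2.2.2.2.1.mp
        (HasRingHomProperty.appLE @Etale h H ⟨O, hO⟩ ⟨O', hO'⟩ hle)).2
  · exact of_charts_Y b g b' h hb stableSource_etale fun O O' hO hO' hle =>
      ((C O hO O' hO' hle).2.2.2.2.1.mp
        (HasRingHomProperty.appLE @Etale h H ⟨O, hO⟩ ⟨O', hO'⟩ hle)).1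
  · exact of_charts_P h stableSource_etale fun O O' hO hO' hle =>
      (C O hO O' hO' hle).2.2.2.2.1.mpr
        ⟨HasRingHomProperty.appLE @Etale g H.2 ⟨_, hO.preimage b⟩ ⟨_, hO'.preimage b'⟩ _,
         HasRingHomProperty.appLE @Etale f H.1 ⟨_, hO.preimage a⟩ ⟨_, hO'.preimage a'⟩ _⟩

end Main

end MilGeo

end H9PO
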