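import Mathlib
import Groth.Agent.Lib.Helper9.PO.MilGeo
import Groth.Agent.Lib.Helper9.PO.JointPO

set_option linter.unusedSectionVars false

universe u

open AlgebraicGeometry CategoryTheory Opposite TopologicalSpace Limits

namespace H9PO

namespace MilGeo

open H9Ferrand H9ThickAff BCGeo

section Cart

variable {X P X' P' : Scheme.{u}} (a : X ⟶ P) (f : X' ⟶ X) (a' : X' ⟶ P') (h : P' ⟶ P)
  [IsAffineHom a] [IsAffineHom a'] (ha : a' ≫ h = f ≫ a)

include ha in
/-- A commutative square with affine legs `a`, `a'` is cartesian if it induces pushouts of rings of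
sections over affine opens. -/
theorem isPullback_of_sections
    (key : ∀ (O : P.Opens) (O' : P'.Opens) (_ : IsAffineOpen O) (_ : IsAffineOpen O')
      (hle : O' ≤ h ⁻¹ᵁ O), IsPushout (a.app O) (h.appLE O O' hle)
        (f.appLE (a ⁻¹ᵁ O) (a' ⁻¹ᵁ O') (leA a f a' h ha O O' hle)) (a'.app O')) :
    IsPullback a' f h a := by
  let κ : X' ⟶ pullback h a := pullback.lift a' f ha
  suffices IsIso κ from
    IsPullback.of_iso_pullback ⟨ha⟩ (asIso κ) (pullback.lift_fst _ _ _) (pullback.lift_snd _ _ _)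
  haveI : IsAffineHom κ := by
    refine MorphismProperty.of_postcomp (W := @IsAffineHom) (W' := @IsSeparated) κ
      (pullback.fst h a) inferInstance ?_
    rw [pullback.lift_fst]; infer_instance
  -- the cover
  have hcov : ∀ q : ↥(pullback h a), ∃ (O : P.Opens) (O' : P'.Opens), IsAffineOpen O ∧ IsAffineOpen O' ∧
      O' ≤ h ⁻¹ᵁ O ∧ q ∈ pullback.fst h a ⁻¹ᵁ O' ⊓ pullback.snd h a ⁻¹ᵁ (a ⁻¹ᵁ O) := by
    intro q
    obtain ⟨O, O', hO, hO', hle, hp'⟩ := exists_opens h (pullback.fst h a q)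
    refine ⟨O, O', hO, hO', hle, hp', ?_⟩
    change a (pullback.snd h a q) ∈ O
    have : a (pullback.snd h a q) = h (pullback.fst h a q) := by
      rw [← Scheme.Hom.comp_apply, ← Scheme.Hom.comp_apply, pullback.condition]
    rw [this]
    exact hle hp'
  choose O O' hO hO' hle hq using hcov
  refine IsZariskiLocalAtTarget.of_iSup_eq_top (P := MorphismProperty.isomorphisms Scheme)
    (fun q => pullback.fst h a ⁻¹ᵁ O' q ⊓ pullback.snd h a ⁻¹ᵁ (a ⁻¹ᵁ O q)) ?_ (fun q => ?_)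
  · rw [eq_top_iff]
    intro q _
    exact Opens.mem_iSup.2 ⟨q, hq q⟩
  · -- local statement
    have hOpb : IsAffineOpen (pullback.fst h a ⁻¹ᵁ O' q ⊓ pullback.snd h a ⁻¹ᵁ (a ⁻¹ᵁ O q)) :=
      isAffineOpen_inf (IsPullback.of_hasPullback h a) le_rfl (hle q) (hO q) ((hO q).preimage a)
        (hO' q)
    change IsIso (κ ∣_ _)
    rw [isIso_morphismRestrict_iff_isIso_app κ hOpb]
    have S1 := isPushout_sections (IsPullback.of_hasPullback h a) (le_refl (a ⁻¹ᵁ O q)) (hle q) rfl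
      (hO q) ((hO q).preimage a) (hO' q)
    have S2 := key (O q) (O' q) (hO q) (hO' q) (hle q)
    rw [Scheme.Hom.app_eq_appLE a] at S2
    have leκ : a' ⁻¹ᵁ O' q ≤ κ ⁻¹ᵁ (pullback.fst h a ⁻¹ᵁ O' q ⊓ pullback.snd h a ⁻¹ᵁ (a ⁻¹ᵁ O q)) := by
      intro x hx
      constructor
      · change pullback.fst h a (κ x) ∈ O' q
        have : pullback.fst h a (κ x) = a' x := by
          rw [← Scheme.Hom.comp_apply, pullback.lift_fst]
        rw [this]; exact hx
      · change pullback.snd h a (κ x) ∈ a ⁻¹ᵁ O q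
        have : pullback.snd h a (κ x) = f x := by
          rw [← Scheme.Hom.comp_apply, pullback.lift_snd]
        rw [this]; exact leA a f a' h ha (O q) (O' q) (hle q) hx
    have geκ : κ ⁻¹ᵁ (pullback.fst h a ⁻¹ᵁ O' q ⊓ pullback.snd h a ⁻¹ᵁ (a ⁻¹ᵁ O q)) ≤ a' ⁻¹ᵁ O' q := by
      intro x hx
      have h1 : pullback.fst h a (κ x) ∈ O' q := hx.1
      have : pullback.fst h a (κ x) = a' x := by
        rw [← Scheme.Hom.comp_apply, pullback.lift_fst]
      rw [this] at h1; exact h1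
    have hiso : IsIso (κ.appLE _ (a' ⁻¹ᵁ O' q) leκ) := by
      have e : κ.appLE _ (a' ⁻¹ᵁ O' q) leκ = (S1.isoIsPushout _ _ S2).hom := by
        apply S1.hom_ext
        · rw [IsPushout.inl_isoIsPushout_hom, Scheme.Hom.appLE_comp_appLE]
          exact appLE_of_eq _ _ (pullback.lift_snd _ _ _) _ _ _ _
        · rw [IsPushout.inr_isoIsPushout_hom, Scheme.Hom.appLE_comp_appLE,
            Scheme.Hom.app_eq_appLE a']
          exact appLE_of_eq _ _ (pullback.lift_fst _ _ _) _ _ _ _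
      rw [e]; infer_instance
    have hdef : κ.appLE _ (a' ⁻¹ᵁ O' q) leκ =
        κ.app _ ≫ X'.presheaf.map (homOfLE leκ).op := rfl
    haveI : IsIso (homOfLE leκ) :=
      ⟨⟨homOfLE geκ, Subsingleton.elim _ _, Subsingleton.elim _ _⟩⟩
    haveI : IsIso (X'.presheaf.map (homOfLE leκ).op) := inferInstance
    rw [hdef] at hiso
    exact IsIso.of_isIso_comp_right _ (X'.presheaf.map (homOfLE leκ).op)

end Cart

section Aff

variable {X Y Z P : Scheme.{u}} {i : Z ⟶ X} {j : Z ⟶ Y} [IsClosedImmersion i]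

/-- An open of a pushout whose preimages in `X` and `Y` are affine is affine. -/
theorem isAffineOpen_of_preimages (H : Covers i j) {a : X ⟶ P} {b : Y ⟶ P} (hP : IsPushout i j a b)
    (Ω : P.Opens) (hU : IsAffineOpen (a ⁻¹ᵁ Ω)) (hV : IsAffineOpen (b ⁻¹ᵁ Ω)) : IsAffineOpen Ω := by
  obtain ⟨e, rfl, rfl⟩ := H.exists_iso hP
  let c : Chart i j :=
    { U := (H.a ≫ e.hom) ⁻¹ᵁ Ω
      V := (H.b ≫ e.hom) ⁻¹ᵁ Ω
      e := by
        rw [← Scheme.Hom.comp_preimage, ← Scheme.Hom.comp_preimage, ← Category.assoc,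
          ← Category.assoc, H.isPushout.w]
      hU := hU
      hV := hV }
  have hΩ : Ω = (c.ι ≫ e.hom).opensRange := by
    ext p
    have hp : e.hom (e.inv p) = p := congr($(e.inv_hom_id) p)
    constructor
    · intro hpΩ
      rcases H.a_or_b (e.inv p) with ⟨x, hx⟩ | ⟨y, hy⟩
      · have hxU : x ∈ c.U := by
          change e.hom (H.a x) ∈ Ω
          rw [hx, hp]; exact hpΩ
        rw [← H.a_preimage c] at hxU
        obtain ⟨s, hs⟩ := hxU
        refine ⟨s, ?_⟩
        change e.hom (c.ι s) = p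
        rw [hs, hx, hp]
      · have hyV : y ∈ c.V := by
          change e.hom (H.b y) ∈ Ω
          rw [hy, hp]; exact hpΩ
        rw [← H.b_preimage c] at hyV
        obtain ⟨s, hs⟩ := hyV
        refine ⟨s, ?_⟩
        change e.hom (c.ι s) = p
        rw [hs, hy, hp]
    · rintro ⟨s, rfl⟩
      change e.hom (c.ι s) ∈ Ω
      rcases H.a_or_b (c.ι s) with ⟨x, hx⟩ | ⟨y, hy⟩
      · have hxU : x ∈ H.a ⁻¹ᵁ c.ι.opensRange := ⟨s, hx.symm⟩
        rw [H.a_preimage c] at hxU
        have : e.hom (H.a x) ∈ Ω := hxU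
        rwa [hx] at this
      · have hyV : y ∈ H.b ⁻¹ᵁ c.ι.opensRange := ⟨s, hy.symm⟩
        rw [H.b_preimage c] at hyV
        have : e.hom (H.b y) ∈ Ω := hyV
        rwa [hy] at this
  rw [hΩ]
  exact isAffineOpen_opensRange _

end Aff


section Fin

variable {X Y Z P X' Y' Z' P' : Scheme.{u}}
  (i : Z ⟶ X) (j : Z ⟶ Y) (a : X ⟶ P) (b : Y ⟶ P) [IsClosedImmersion i] [IsAffineHom a] [IsAffineHom b]
  (hP : IsPushout i j a b)
  (f : X' ⟶ X) (g : Y' ⟶ Y) (i' : Z' ⟶ X') (j' : Z' ⟶ Y') (c : Z' ⟶ Z)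
  (hX : IsPullback i' c f i) (hY : IsPullback j' c g j)
  (a' : X' ⟶ P') (b' : Y' ⟶ P') [IsClosedImmersion i'] [IsAffineHom a'] [IsAffineHom b']
  (hP' : IsPushout i' j' a' b') (h : P' ⟶ P) (ha : a' ≫ h = f ≫ a) (hb : b' ≫ h = g ≫ b)

include hP' ha hb in
theorem isAffineHom_h (H' : Covers i' j') [IsAffineHom f] [IsAffineHom g] : IsAffineHom h := by
  refine ⟨fun O hO => ?_⟩
  refine isAffineOpen_of_preimages H' hP' (h ⁻¹ᵁ O) ?_ ?_
  · rw [← Scheme.Hom.comp_preimage, ha, Scheme.Hom.comp_preimage]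
    exact (hO.preimage a).preimage f
  · rw [← Scheme.Hom.comp_preimage, hb, Scheme.Hom.comp_preimage]
    exact (hO.preimage b).preimage g

omit [IsClosedImmersion i] [IsAffineHom a] [IsAffineHom b] [IsClosedImmersion i'] [IsAffineHom a'] [IsAffineHom b'] in
theorem finite_appLE_of_eq {S T : Scheme.{u}} (φ : S ⟶ T) [IsFinite φ] (V : T.Opens) (hV : IsAffineOpen V)
    (V' : S.Opens) (e : V' = φ ⁻¹ᵁ V) : (φ.appLE V V' e.le).hom.Finite := by
  subst e
  rw [← Scheme.Hom.app_eq_appLE]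
  exact IsFinite.finite_app φ V hV

include hP hX hY hP' ha hb in
theorem isFinite_h (H' : Covers i' j') [IsFinite f] [IsFinite g] : IsFinite h := by
  haveI : IsAffineHom h := isAffineHom_h a b f g i' j' a' b' hP' h ha hb H'
  refine { finite_app := fun O hO => ?_ }
  have hO' : IsAffineOpen (h ⁻¹ᵁ O) := hO.preimage h
  have C := (chart i j a b hP f g i' j' c hX hY a' b' hP' h ha hb O hO (h ⁻¹ᵁ O) hO' le_rfl).2.2.2.2.2.1
  rw [Scheme.Hom.app_eq_appLE]
  refine C.mpr ⟨finite_appLE_of_eq g _ (hO.preimage b) _ ?_, finite_appLE_of_eq f _ (hO.preimage a) _ ?_⟩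
  · rw [← Scheme.Hom.comp_preimage, hb, Scheme.Hom.comp_preimage]
  · rw [← Scheme.Hom.comp_preimage, ha, Scheme.Hom.comp_preimage]

include hP hX hY hP' ha hb in
theorem isPullback_a : IsPullback a' f h a :=
  isPullback_of_sections a f a' h ha fun O O' hO hO' hle =>
    (chart i j a b hP f g i' j' c hX hY a' b' hP' h ha hb O hO O' hO' hle).2.2.2.2.2.2.2

include hP hX hY hP' ha hb in
theorem isPullback_b : IsPullback b' g h b :=
  isPullback_of_sections b g b' h hb fun O O' hO hO' hle =>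
    (chart i j a b hP f g i' j' c hX hY a' b' hP' h ha hb O hO O' hO' hle).2.2.2.2.2.2.1

end Fin

end MilGeo

end H9PO
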