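import Mathlib

namespace H9PO

namespace Avoid

variable {R : Type*} [CommRing R]

/-- coset version of prime avoidance -/
theorem exists_add_not_mem (I : Ideal R) (s : R) :
    ∀ (S : Finset (Ideal R)), (∀ 𝔭 ∈ S, 𝔭.IsPrime ∧ ¬ I ≤ 𝔭) →
      ∃ y ∈ I, ∀ 𝔭 ∈ S, s + y ∉ 𝔭 := by
  classical
  intro S
  induction S using Finset.strongInduction with
  | H S ih =>
    intro hS
    rcases S.eq_empty_or_nonempty with rfl | hne
    · exact ⟨0, I.zero_mem, fun 𝔭 h𝔭 => absurd h𝔭 (by simp)⟩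
    obtain ⟨𝔭, h𝔭S, hmin⟩ := S.exists_minimal hne
    have hS' : ∀ 𝔮 ∈ S.erase 𝔭, 𝔮.IsPrime ∧ ¬ I ≤ 𝔮 :=
      fun 𝔮 h𝔮 => hS 𝔮 (Finset.mem_of_mem_erase h𝔮)
    obtain ⟨y', hy'I, hy'⟩ := ih (S.erase 𝔭) (Finset.erase_ssubset h𝔭S) hS'
    by_cases hsp : s + y' ∈ 𝔭
    · -- need a correction
      haveI h𝔭prime : 𝔭.IsPrime := (hS 𝔭 h𝔭S).1
      obtain ⟨z₀, hz₀I, hz₀⟩ := SetLike.not_le_iff_exists.1 (hS 𝔭 h𝔭S).2
      have hq : ∀ 𝔮 ∈ S.erase 𝔭, ∃ z, z ∈ 𝔮 ∧ z ∉ 𝔭 := by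
        intro 𝔮 h𝔮
        have h𝔮S := Finset.mem_of_mem_erase h𝔮
        have hne : 𝔮 ≠ 𝔭 := Finset.ne_of_mem_erase h𝔮
        have hnle : ¬ 𝔮 ≤ 𝔭 := by
          intro hle
          have := hmin h𝔮S hle
          exact hne (le_antisymm hle this)
        exact SetLike.not_le_iff_exists.1 hnle
      choose! zq hzq using hq
      let z := z₀ * ∏ 𝔮 ∈ S.erase 𝔭, zq 𝔮
      have hzI : z ∈ I := I.mul_mem_right _ hz₀I
      have hzp : z ∉ 𝔭 := by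
        intro hz
        rcases h𝔭prime.mem_or_mem hz with h | h
        · exact hz₀ h
        · obtain ⟨𝔮, h𝔮, hmem⟩ := (h𝔭prime.prod_mem_iff).1 h
          exact (hzq 𝔮 h𝔮).2 hmem
      have hzq' : ∀ 𝔮 ∈ S.erase 𝔭, z ∈ 𝔮 := by
        intro 𝔮 h𝔮
        apply 𝔮.mul_mem_left
        rw [← Finset.mul_prod_erase _ _ h𝔮]
        exact 𝔮.mul_mem_right _ (hzq 𝔮 h𝔮).1
      refine ⟨y' + z, I.add_mem hy'I hzI, ?_⟩
      intro 𝔮 h𝔮S hmem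
      by_cases h𝔮 : 𝔮 = 𝔭
      · subst h𝔮
        have : z ∈ 𝔮 := by
          have h1 := 𝔮.sub_mem hmem hsp
          have : s + (y' + z) - (s + y') = z := by ring
          rwa [this] at h1
        exact hzp this
      · have h𝔮e : 𝔮 ∈ S.erase 𝔭 := Finset.mem_erase.2 ⟨h𝔮, h𝔮S⟩
        have h1 := 𝔮.sub_mem hmem (hzq' 𝔮 h𝔮e)
        have : s + (y' + z) - z = s + y' := by ring
        rw [this] at h1
        exact hy' 𝔮 h𝔮e h1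
    · refine ⟨y', hy'I, ?_⟩
      intro 𝔮 h𝔮S
      by_cases h𝔮 : 𝔮 = 𝔭
      · subst h𝔮; exact hsp
      · exact hy' 𝔮 (Finset.mem_erase.2 ⟨h𝔮, h𝔮S⟩)

end Avoid

end H9PO
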