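import Mathlib
import Groth.Agent.Lib.Helper9.FlatKernel

universe u

open TensorProduct

namespace H9PO

namespace BCAlg

section Flat

variable {k R A B C : Type*} [CommRing k] [CommRing R] [CommRing A]
  [CommRing B] [CommRing C]
  (κ : k →+* R) (f : R →+* B) (g : R →+* A) (q : B →+* C) (p : A →+* C)

/-- the fibre product of flat algebras over a flat algebra along a surjection is flat -/
theorem flat_of_milnor
    (hc : q.comp f = p.comp g)
    (hinj : ∀ r, f r = 0 → g r = 0 → r = 0)
    (hex : ∀ b a, q b = p a → ∃ r, f r = b ∧ g r = a)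
    (hp : Function.Surjective p)
    (hA : (g.comp κ).Flat) (hB : (f.comp κ).Flat) (hC : ((q.comp f).comp κ).Flat) :
    κ.Flat := by
  letI : Algebra k R := κ.toAlgebra
  letI : Algebra k A := (g.comp κ).toAlgebra
  letI : Algebra k B := (f.comp κ).toAlgebra
  letI : Algebra k C := ((q.comp f).comp κ).toAlgebra
  have hcx : ∀ x, q (f x) = p (g x) := fun x => RingHom.congr_fun hc x
  let fa : R →ₐ[k] B := { f with commutes' := fun x => rfl }
  let ga : R →ₐ[k] A := { g with commutes' := fun x => rfl }
  let qa : B →ₐ[k] C := { q with commutes' := fun x => rfl }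
  let pa : A →ₐ[k] C := { p with commutes' := fun x => (hcx (κ x)).symm }
  let F₁ : R →ₗ[k] B × A := fa.toLinearMap.prod ga.toLinearMap
  let δ : B × A →ₗ[k] C := qa.toLinearMap.coprod (-pa.toLinearMap)
  have hF₁inj : Function.Injective F₁ := by
    rw [injective_iff_map_eq_zero]
    intro r hr
    exact hinj r (congrArg Prod.fst hr) (congrArg Prod.snd hr)
  have hexact : Function.Exact F₁ δ := by
    intro x
    constructor
    · intro hx
      have hx' : q x.1 + -(p x.2) = 0 := hx
      obtain ⟨r, hr1, hr2⟩ := hex x.1 x.2 (by rwa [← sub_eq_add_neg, sub_eq_zero] at hx')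
      exact ⟨r, Prod.ext hr1 hr2⟩
    · rintro ⟨r, rfl⟩
      change q (f r) + -(p (g r)) = 0
      rw [hcx, add_neg_cancel]
  have hδsurj : Function.Surjective δ := by
    intro c
    obtain ⟨a, ha⟩ := hp (-c)
    refine ⟨(0, a), ?_⟩
    change q 0 + -(p a) = c
    rw [ha, map_zero, zero_add, neg_neg]
  haveI : Module.Flat k A := hA
  haveI : Module.Flat k B := hB
  haveI : Module.Flat k C := hC
  haveI : Module.Flat k (B × A) := Groth.Agent.Helper9.flat_prod
  exact Groth.Agent.Helper9.flat_of_exact_of_flat F₁ δ hF₁inj hexact hδsurj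

end Flat

end BCAlg

end H9PO
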