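import Mathlib
import Groth.Agent.Lib.Helper9.FlatKernel
import Groth.Agent.Lib.Helper9.PO.BCAlg
import Groth.Prelude.Def_W4c3jacimperfPinch

universe u

open TensorProduct

namespace H9PO

namespace BCAlg

section Split

variable {k R A B C : Type u} [CommRing k] [CommRing R] [CommRing A] [CommRing B] [CommRing C]
  (κ : k →+* R) (f : R →+* B) (g : R →+* A) (q : B →+* C) (p : A →+* C)

/-- a linear section of the difference map, from projectivity of the cokernel of `q` -/
theorem split_of_cokerProjective (hc : q.comp f = p.comp g)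
    (hp : Function.Surjective p) (hq : Function.Injective q)
    (hproj : @Pinch.CokerProjective k C B _ _ _ ((q.comp f).comp κ).toAlgebra q) :
    letI : Algebra k A := (g.comp κ).toAlgebra
    letI : Algebra k B := (f.comp κ).toAlgebra
    letI : Algebra k C := ((q.comp f).comp κ).toAlgebra
    ∃ sec : C →ₗ[k] B × A, ∀ c, q (sec c).1 + -(p (sec c).2) = c := by
  letI : Algebra k A := (g.comp κ).toAlgebra
  letI : Algebra k B := (f.comp κ).toAlgebra
  letI : Algebra k C := ((q.comp f).comp κ).toAlgebra
  have hcx : ∀ x, q (f x) = p (g x) := fun x => RingHom.congr_fun hc x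
  let qa : B →ₐ[k] C := { q with commutes' := fun x => rfl }
  let pa : A →ₐ[k] C := { p with commutes' := fun x => (hcx (κ x)).symm }
  set N : Submodule k C := Submodule.span k (Set.range q) with hN
  haveI : Module.Projective k (C ⧸ N) := hproj
  have hNrange : N = LinearMap.range qa.toLinearMap := by
    apply le_antisymm
    · rw [hN, Submodule.span_le]
      rintro _ ⟨b, rfl⟩
      exact ⟨b, rfl⟩
    · rintro _ ⟨b, rfl⟩
      exact Submodule.subset_span ⟨b, rfl⟩
  -- section of the quotient map
  obtain ⟨σQ, hσQ⟩ := Module.projective_lifting_property N.mkQ LinearMap.id (Submodule.mkQ_surjective N)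
  -- lift through `p`
  obtain ⟨τ, hτ⟩ := Module.projective_lifting_property pa.toLinearMap σQ hp
  -- the `B`-component
  have hmem : ∀ c : C, c - σQ (N.mkQ c) ∈ LinearMap.range qa.toLinearMap := by
    intro c
    rw [← hNrange, ← Submodule.Quotient.mk_eq_zero, Submodule.Quotient.mk_sub]
    have : N.mkQ (σQ (N.mkQ c)) = N.mkQ c := LinearMap.congr_fun hσQ (N.mkQ c)
    change N.mkQ c - N.mkQ (σQ (N.mkQ c)) = 0
    rw [this, sub_self]
  let ψ : C →ₗ[k] C := LinearMap.id - σQ.comp N.mkQ
  let secB : C →ₗ[k] B :=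
    (LinearEquiv.ofInjective qa.toLinearMap hq).symm.toLinearMap.comp
      (ψ.codRestrict (LinearMap.range qa.toLinearMap) hmem)
  have hsecB : ∀ c, q (secB c) = c - σQ (N.mkQ c) := by
    intro c
    have := (LinearEquiv.ofInjective qa.toLinearMap hq).apply_symm_apply
      ⟨ψ c, hmem c⟩
    exact congrArg Subtype.val this
  refine ⟨secB.prod (-(τ.comp N.mkQ)), ?_⟩
  intro c
  change q (secB c) + -(p (-(τ (N.mkQ c)))) = c
  have h2 : p (τ (N.mkQ c)) = σQ (N.mkQ c) := LinearMap.congr_fun hτ (N.mkQ c)
  rw [hsecB, map_neg, neg_neg, h2, sub_add_cancel]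

end Split

section Ring

open CategoryTheory CommRingCat

variable {k k' R A B C R' A' B' C' : Type u} [CommRing k] [CommRing k'] [CommRing R] [CommRing A]
  [CommRing B] [CommRing C] [CommRing R'] [CommRing A'] [CommRing B'] [CommRing C']
  (κ : k →+* R) (f : R →+* B) (g : R →+* A) (q : B →+* C) (p : A →+* C)
  (κ' : k' →+* R') (f' : R' →+* B') (g' : R' →+* A') (q' : B' →+* C') (p' : A' →+* C')
  (σ : k →+* k') (ρ : R →+* R') (α : A →+* A') (β : B →+* B') (γ : C →+* C')

/-- Base change of a fibre square of rings: it stays a fibre square if the base change is flat,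
or if the corner `C` is flat over the base and `p` is surjective. -/
theorem milnor_baseChange'
    (hc : q.comp f = p.comp g) (hc' : q'.comp f' = p'.comp g')
    (hκ : κ'.comp σ = ρ.comp κ)
    (hf : f'.comp ρ = β.comp f) (hg : g'.comp ρ = α.comp g)
    (hq : q'.comp β = γ.comp q) (hp : p'.comp α = γ.comp p)
    (hR : IsPushout (ofHom σ) (ofHom κ) (ofHom κ') (ofHom ρ))
    (hA : IsPushout (ofHom σ) (ofHom (g.comp κ)) (ofHom (g'.comp κ')) (ofHom α))
    (hB : IsPushout (ofHom σ) (ofHom (f.comp κ)) (ofHom (f'.comp κ')) (ofHom β))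
    (hC : IsPushout (ofHom σ) (ofHom ((q.comp f).comp κ)) (ofHom ((q'.comp f').comp κ')) (ofHom γ))
    (hinj : ∀ r, f r = 0 → g r = 0 → r = 0)
    (hex : ∀ b a, q b = p a → ∃ r, f r = b ∧ g r = a)
    (htens : σ.Flat ∨ (Function.Surjective p ∧ ((q.comp f).comp κ).Flat) ∨
      (Function.Surjective p ∧ Function.Injective q ∧
        @Pinch.CokerProjective k C B _ _ _ ((q.comp f).comp κ).toAlgebra q)) :
    (∀ r', f' r' = 0 → g' r' = 0 → r' = 0) ∧
      (∀ b' a', q' b' = p' a' → ∃ r', f' r' = b' ∧ g' r' = a') := by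
  letI : Algebra k k' := σ.toAlgebra
  letI : Algebra k R := κ.toAlgebra
  letI : Algebra k A := (g.comp κ).toAlgebra
  letI : Algebra k B := (f.comp κ).toAlgebra
  letI : Algebra k C := ((q.comp f).comp κ).toAlgebra
  letI : Algebra k' R' := κ'.toAlgebra
  letI : Algebra k' A' := (g'.comp κ').toAlgebra
  letI : Algebra k' B' := (f'.comp κ').toAlgebra
  letI : Algebra k' C' := ((q'.comp f').comp κ').toAlgebra
  letI : Algebra R R' := ρ.toAlgebra
  letI : Algebra A A' := α.toAlgebra
  letI : Algebra B B' := β.toAlgebra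
  letI : Algebra C C' := γ.toAlgebra
  letI : Algebra k R' := (ρ.comp κ).toAlgebra
  letI : Algebra k A' := (α.comp (g.comp κ)).toAlgebra
  letI : Algebra k B' := (β.comp (f.comp κ)).toAlgebra
  letI : Algebra k C' := (γ.comp ((q.comp f).comp κ)).toAlgebra
  haveI : IsScalarTower k R R' := .of_algebraMap_eq' rfl
  haveI : IsScalarTower k A A' := .of_algebraMap_eq' rfl
  haveI : IsScalarTower k B B' := .of_algebraMap_eq' rfl
  haveI : IsScalarTower k C C' := .of_algebraMap_eq' rfl
  haveI : IsScalarTower k k' R' := .of_algebraMap_eq' hκ.symm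
  have hκx : ∀ x, κ' (σ x) = ρ (κ x) := fun x => RingHom.congr_fun hκ x
  have hfx : ∀ x, f' (ρ x) = β (f x) := fun x => RingHom.congr_fun hf x
  have hgx : ∀ x, g' (ρ x) = α (g x) := fun x => RingHom.congr_fun hg x
  have hqx : ∀ x, q' (β x) = γ (q x) := fun x => RingHom.congr_fun hq x
  have hpx : ∀ x, p' (α x) = γ (p x) := fun x => RingHom.congr_fun hp x
  have hcx : ∀ x, q (f x) = p (g x) := fun x => RingHom.congr_fun hc x
  haveI : IsScalarTower k k' A' := .of_algebraMap_eq' (RingHom.ext fun x => by
    change α (g (κ x)) = g' (κ' (σ x))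
    rw [hκx, hgx])
  haveI : IsScalarTower k k' B' := .of_algebraMap_eq' (RingHom.ext fun x => by
    change β (f (κ x)) = f' (κ' (σ x))
    rw [hκx, hfx])
  haveI : IsScalarTower k k' C' := .of_algebraMap_eq' (RingHom.ext fun x => by
    change γ (q (f (κ x))) = q' (f' (κ' (σ x)))
    rw [hκx, hfx, hqx])
  haveI pR : Algebra.IsPushout k k' R R' := CommRingCat.isPushout_iff_isPushout.mp hR
  haveI pA : Algebra.IsPushout k k' A A' := CommRingCat.isPushout_iff_isPushout.mp hA
  haveI pB : Algebra.IsPushout k k' B B' := CommRingCat.isPushout_iff_isPushout.mp hB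
  haveI pC : Algebra.IsPushout k k' C C' := CommRingCat.isPushout_iff_isPushout.mp hC
  have isbR : IsBaseChange k' (IsScalarTower.toAlgHom k R R').toLinearMap := pR.out
  have isbA : IsBaseChange k' (IsScalarTower.toAlgHom k A A').toLinearMap := pA.out
  have isbB : IsBaseChange k' (IsScalarTower.toAlgHom k B B').toLinearMap := pB.out
  have isbC : IsBaseChange k' (IsScalarTower.toAlgHom k C C').toLinearMap := pC.out
  -- the linear maps
  let fa : R →ₐ[k] B := { f with commutes' := fun x => rfl }
  let ga : R →ₐ[k] A := { g with commutes' := fun x => rfl }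
  let qa : B →ₐ[k] C := { q with commutes' := fun x => rfl }
  let pa : A →ₐ[k] C := { p with commutes' := fun x => (hcx (κ x)).symm }
  let fa' : R' →ₐ[k'] B' := { f' with commutes' := fun x => rfl }
  let ga' : R' →ₐ[k'] A' := { g' with commutes' := fun x => rfl }
  let qa' : B' →ₐ[k'] C' := { q' with commutes' := fun x => rfl }
  have hcx' : ∀ x, q' (f' x) = p' (g' x) := fun x => RingHom.congr_fun hc' x
  let pa' : A' →ₐ[k'] C' := { p' with commutes' := fun x => (hcx' (κ' x)).symm }
  -- the exact sequences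
  let F₁ : R →ₗ[k] B × A := fa.toLinearMap.prod ga.toLinearMap
  let δ : B × A →ₗ[k] C := qa.toLinearMap.coprod (-pa.toLinearMap)
  let F₁' : R' →ₗ[k'] B' × A' := fa'.toLinearMap.prod ga'.toLinearMap
  let δ' : B' × A' →ₗ[k'] C' := qa'.toLinearMap.coprod (-pa'.toLinearMap)
  have hF₁inj : Function.Injective F₁ := by
    rw [injective_iff_map_eq_zero]
    intro r hr
    exact hinj r (congrArg Prod.fst hr) (congrArg Prod.snd hr)
  have hexact : Function.Exact F₁ δ := by
    intro x
    constructor
    · intro hx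
      have hx' : q x.1 + -(p x.2) = 0 := hx
      obtain ⟨r, hr1, hr2⟩ := hex x.1 x.2 (by rwa [← sub_eq_add_neg, sub_eq_zero] at hx')
      exact ⟨r, Prod.ext hr1 hr2⟩
    · rintro ⟨r, rfl⟩
      change q (f r) + -(p (g r)) = 0
      rw [hcx, add_neg_cancel]
  let h₂ : B × A →ₗ[k] B' × A' :=
    (IsScalarTower.toAlgHom k B B').toLinearMap.prodMap (IsScalarTower.toAlgHom k A A').toLinearMap
  have isb₂ : IsBaseChange k' h₂ := IsBaseChange.prodMap _ _ isbB isbA
  have comm₁ : h₂.comp F₁ =
      (F₁'.restrictScalars k).comp (IsScalarTower.toAlgHom k R R').toLinearMap := by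
    ext r
    · exact (hfx r).symm
    · exact (hgx r).symm
  have comm₂ : (IsScalarTower.toAlgHom k C C').toLinearMap.comp δ =
      (δ'.restrictScalars k).comp h₂ := by
    apply LinearMap.ext
    intro x
    change γ (q x.1 + -(p x.2)) = q' (β x.1) + -(p' (α x.2))
    rw [map_add, map_neg, hqx, hpx]
  have hT : Function.Injective (F₁.baseChange k') ∧
      Function.Exact (F₁.baseChange k') (δ.baseChange k') := by
    rcases htens with hσ | ⟨hpsurj, hCflat⟩ | ⟨hpsurj, hqinj, hproj⟩
    · haveI : Module.Flat k k' := hσ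
      exact ⟨Module.Flat.lTensor_preserves_injective_linearMap F₁ hF₁inj,
        Module.Flat.lTensor_exact k' hexact⟩
    · haveI : Module.Flat k C := hCflat
      have hδsurj : Function.Surjective δ := by
        intro c
        obtain ⟨a, ha⟩ := hpsurj (-c)
        refine ⟨(0, a), ?_⟩
        change q 0 + -(p a) = c
        rw [ha, map_zero, zero_add, neg_neg]
      exact ⟨Groth.Agent.Helper9.lTensor_injective_of_exact_of_flat F₁ δ hF₁inj hexact hδsurj k',
        lTensor_exact k' hexact hδsurj⟩
    · have hδsurj : Function.Surjective δ := by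
        intro c
        obtain ⟨a, ha⟩ := hpsurj (-c)
        refine ⟨(0, a), ?_⟩
        change q 0 + -(p a) = c
        rw [ha, map_zero, zero_add, neg_neg]
      refine ⟨?_, lTensor_exact k' hexact hδsurj⟩
      -- a section of `δ`
      obtain ⟨sec, hsec0⟩ := split_of_cokerProjective κ f g q p hc hpsurj hqinj hproj
      have hsec : ∀ c, δ (sec c) = c := hsec0
      -- the retraction of `F₁`
      let φ : B × A →ₗ[k] B × A := LinearMap.id - sec.comp δ
      have hφ : ∀ x, φ x ∈ LinearMap.range F₁ := by
        intro x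
        apply (hexact (φ x)).1
        change δ (x - sec (δ x)) = 0
        rw [map_sub, hsec, sub_self]
      let ret : B × A →ₗ[k] R :=
        (LinearEquiv.ofInjective F₁ hF₁inj).symm.toLinearMap.comp
          (φ.codRestrict (LinearMap.range F₁) hφ)
      have hret : ret.comp F₁ = LinearMap.id := by
        apply LinearMap.ext
        intro r
        change (LinearEquiv.ofInjective F₁ hF₁inj).symm ⟨φ (F₁ r), hφ (F₁ r)⟩ = r
        apply (LinearEquiv.ofInjective F₁ hF₁inj).injective
        rw [LinearEquiv.apply_symm_apply]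
        apply Subtype.ext
        change F₁ r - sec (δ (F₁ r)) = F₁ r
        rw [hexact.apply_apply_eq_zero, map_zero, sub_zero]
      have : (ret.baseChange k').comp (F₁.baseChange k') = LinearMap.id := by
        rw [← LinearMap.baseChange_comp, hret, LinearMap.baseChange_id]
      exact Function.LeftInverse.injective (g := ret.baseChange k')
        (fun x => LinearMap.congr_fun this x)
  obtain ⟨hinj', hex'⟩ := exact_of_baseChange k' (IsScalarTower.toAlgHom k R R').toLinearMap h₂
    (IsScalarTower.toAlgHom k C C').toLinearMap (f' := F₁') (g' := δ') comm₁ comm₂ isbR isb₂ isbC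
    hT.1 hT.2
  constructor
  · intro r' h1 h2
    apply hinj'
    rw [map_zero]
    exact Prod.ext h1 h2
  · intro b' a' hba
    have : δ' (b', a') = 0 := by
      change q' b' + -(p' a') = 0
      rw [hba, add_neg_cancel]
    obtain ⟨r', hr'⟩ := (hex' (b', a')).1 this
    exact ⟨r', congrArg Prod.fst hr', congrArg Prod.snd hr'⟩

end Ring

end BCAlg

end H9PO
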