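import Mathlib
import Groth.Agent.Lib.Helper9.PO.BCGeo
import Groth.Agent.Lib.Helper9.PO.BCAlg2

universe u

open AlgebraicGeometry CategoryTheory Opposite TopologicalSpace Limits

namespace H9PO

namespace BCGeo

open H9Ferrand H9ThickAff

/-- a pushout of flat schemes along a closed immersion with affine legs is flat -/
theorem flat_of_isPushout {X Y Z P S : Scheme.{u}}
    (i : Z ⟶ X) (j : Z ⟶ Y) (a : X ⟶ P) (b : Y ⟶ P) [IsClosedImmersion i] [IsAffineHom a]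
    [IsAffineHom b] (hP : IsPushout i j a b) (s : P ⟶ S)
    [Flat (a ≫ s)] [Flat (b ≫ s)] [Flat (i ≫ a ≫ s)] : Flat s := by
  constructor
  intro U hU V hV e
  set c := Recog.chartOf i j a b hP.w V hV with hc
  have hcc : c.qC.comp (b.app V).hom = c.pC.comp (a.app V).hom :=
    RingHom.ext fun r => (Recog.can i j a b hP.w V hV r).2
  have hbij := Recog.can_bijective i j a b hP V hV
  have hinj : ∀ r, (b.app V).hom r = 0 → (a.app V).hom r = 0 → r = 0 := by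
    intro r h1 h2
    apply hbij.1
    rw [map_zero]
    exact Pair.ext_elem h1 h2
  have hex : ∀ y x, c.qC y = c.pC x → ∃ r, (b.app V).hom r = y ∧ (a.app V).hom r = x := by
    intro y x hyx
    obtain ⟨r, hr⟩ := hbij.2 ⟨(y, x), hyx⟩
    exact ⟨r, congrArg (fun t => c.fC t) hr, congrArg (fun t => c.gC t) hr⟩
  have leA : a ⁻¹ᵁ V ≤ (a ≫ s) ⁻¹ᵁ U := fun x hx => e hx
  have leB : b ⁻¹ᵁ V ≤ (b ≫ s) ⁻¹ᵁ U := fun x hx => e hx
  have leC : c.W ≤ (i ≫ a ≫ s) ⁻¹ᵁ U := fun x hx => e hx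
  refine BCAlg.flat_of_milnor (s.appLE U V e).hom (b.app V).hom (a.app V).hom c.qC c.pC hcc hinj hex
    (i.app_surjective (a ⁻¹ᵁ V) (hV.preimage a)) ?_ ?_ ?_
  · have h := appLE_comp2 a s U V (a ⁻¹ᵁ V) e le_rfl leA
    rw [Scheme.Hom.appLE_eq_app] at h
    rw [h]
    exact Flat.flat_appLE (a ≫ s) hU (hV.preimage a) leA
  · have h := appLE_comp2 b s U V (b ⁻¹ᵁ V) e le_rfl leB
    rw [Scheme.Hom.appLE_eq_app] at h
    rw [h]
    exact Flat.flat_appLE (b ≫ s) hU (hV.preimage b) leB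
  · have h3 := appLE_comp3 i a s U V (a ⁻¹ᵁ V) c.W e le_rfl c.leW leC
    have e2 : i.appLE (a ⁻¹ᵁ V) c.W c.leW = i.app (a ⁻¹ᵁ V) := (Scheme.Hom.app_eq_appLE i).symm
    rw [e2, Scheme.Hom.appLE_eq_app] at h3
    have h4 : (c.qC.comp (b.app V).hom).comp (s.appLE U V e).hom =
        ((i ≫ a ≫ s).appLE U c.W leC).hom := by
      rw [hcc]; exact h3
    have h5 := Flat.flat_appLE (i ≫ a ≫ s) hU c.hW leC
    rw [← h4] at h5
    exact h5

end BCGeo

end H9PO
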