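import Mathlib
import Groth.Agent.Lib.Helper9.PO.BCGeo
import Groth.Agent.Lib.Helper9.PO.BCAlg3

universe u

open AlgebraicGeometry CategoryTheory Opposite TopologicalSpace Limits

namespace H9PO

namespace BCGeo

open H9Ferrand H9ThickAff

section Main

variable {X Y Z P S T PT XT YT ZT : Scheme.{u}}
  (i : Z ⟶ X) (j : Z ⟶ Y) (a : X ⟶ P) (b : Y ⟶ P) [IsClosedImmersion i] [IsAffineHom a]
  [IsAffineHom b] (hP : IsPushout i j a b)
  (s : P ⟶ S) (g : T ⟶ S)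
  (pP : PT ⟶ P) (sT : PT ⟶ T) (hPT : IsPullback pP sT s g)
  (pX : XT ⟶ X) (aT : XT ⟶ PT) (hXT : IsPullback pX aT a pP)
  (pY : YT ⟶ Y) (bT : YT ⟶ PT) (hYT : IsPullback pY bT b pP)
  (pZ : ZT ⟶ Z) (iT : ZT ⟶ XT) (hZT : IsPullback pZ iT i pX)
  (jT : ZT ⟶ YT) (hj₁ : jT ≫ pY = pZ ≫ j) (hj₂ : iT ≫ aT = jT ≫ bT)
  [IsClosedImmersion iT] [IsAffineHom aT] [IsAffineHom bT]

include hP hPT hXT hYT hZT hj₁ in
theorem can_bijective_baseChange' (US : S.Opens) (hUS : IsAffineOpen US) (UT : T.Opens)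
    (hUT : IsAffineOpen UT) (O : P.Opens) (hO : IsAffineOpen O)
    (hUST : UT ≤ g ⁻¹ᵁ US) (hOS : O ≤ s ⁻¹ᵁ US)
    (hloc : (g.appLE US UT hUST).hom.Flat ∨
      ((i ≫ a ≫ s).appLE US (Recog.chartOf i j a b hP.w O hO).W (fun _ hx => hOS hx)).hom.Flat ∨
      (Function.Injective (Recog.chartOf i j a b hP.w O hO).qC ∧
        @Pinch.CokerProjective Γ(S, US) Γ(Z, (Recog.chartOf i j a b hP.w O hO).W) Γ(Y, b ⁻¹ᵁ O) _ _ _
          ((i ≫ a ≫ s).appLE US (Recog.chartOf i j a b hP.w O hO).W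
            (fun _ hx => hOS hx)).hom.toAlgebra (Recog.chartOf i j a b hP.w O hO).qC))
    (W : PT.Opens) (hW : IsAffineOpen W)
    (hWdef : W = pP ⁻¹ᵁ O ⊓ sT ⁻¹ᵁ UT) :
    Function.Bijective (Recog.can iT jT aT bT hj₂ W hW) := by
  set c := Recog.chartOf i j a b hP.w O hO with hc
  set c' := Recog.chartOf iT jT aT bT hj₂ W hW with hc'
  have hWO : W ≤ pP ⁻¹ᵁ O := by rw [hWdef]; exact inf_le_left
  have hWT : W ≤ sT ⁻¹ᵁ UT := by rw [hWdef]; exact inf_le_right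
  -- inclusions of opens
  have leA : aT ⁻¹ᵁ W ≤ pX ⁻¹ᵁ (a ⁻¹ᵁ O) := by
    intro x hx
    have h1 : pP (aT x) ∈ O := hWO hx
    have h2 : a (pX x) = pP (aT x) := by
      rw [← Scheme.Hom.comp_apply, ← Scheme.Hom.comp_apply, hXT.w]
    change a (pX x) ∈ O
    rw [h2]; exact h1
  have leB : bT ⁻¹ᵁ W ≤ pY ⁻¹ᵁ (b ⁻¹ᵁ O) := by
    intro y hy
    have h1 : pP (bT y) ∈ O := hWO hy
    have h2 : b (pY y) = pP (bT y) := by
      rw [← Scheme.Hom.comp_apply, ← Scheme.Hom.comp_apply, hYT.w]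
    change b (pY y) ∈ O
    rw [h2]; exact h1
  have leC : c'.W ≤ pZ ⁻¹ᵁ c.W := by
    intro z hz
    have h1 : iT z ∈ aT ⁻¹ᵁ W := hz
    have h2 : pX (iT z) ∈ a ⁻¹ᵁ O := leA h1
    have h3 : i (pZ z) = pX (iT z) := by
      rw [← Scheme.Hom.comp_apply, ← Scheme.Hom.comp_apply, hZT.w]
    change i (pZ z) ∈ a ⁻¹ᵁ O
    rw [h3]; exact h2
  -- the maps
  let κ : Γ(S, US) →+* Γ(P, O) := (s.appLE US O hOS).hom
  let κ' : Γ(T, UT) →+* Γ(PT, W) := (sT.appLE UT W hWT).hom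
  let σ : Γ(S, US) →+* Γ(T, UT) := (g.appLE US UT hUST).hom
  let ρ : Γ(P, O) →+* Γ(PT, W) := (pP.appLE O W hWO).hom
  let α : Γ(X, a ⁻¹ᵁ O) →+* Γ(XT, aT ⁻¹ᵁ W) := (pX.appLE _ _ leA).hom
  let β : Γ(Y, b ⁻¹ᵁ O) →+* Γ(YT, bT ⁻¹ᵁ W) := (pY.appLE _ _ leB).hom
  let γ : Γ(Z, c.W) →+* Γ(ZT, c'.W) := (pZ.appLE _ _ leC).hom
  have hcc : c.qC.comp (b.app O).hom = c.pC.comp (a.app O).hom :=
    RingHom.ext fun r => (Recog.can i j a b hP.w O hO r).2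
  have hcc' : c'.qC.comp (bT.app W).hom = c'.pC.comp (aT.app W).hom :=
    RingHom.ext fun r => (Recog.can iT jT aT bT hj₂ W hW r).2
  have hκ : κ'.comp σ = ρ.comp κ :=
    appLE_comp_eq sT g pP s hPT.w.symm US UT O W hUST hWT hOS hWO
  have hf : (bT.app W).hom.comp ρ = β.comp (b.app O).hom := by
    have := appLE_comp_eq bT pP pY b hYT.w.symm O W (b ⁻¹ᵁ O) (bT ⁻¹ᵁ W) hWO le_rfl le_rfl leB
    rw [Scheme.Hom.appLE_eq_app, Scheme.Hom.appLE_eq_app] at this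
    exact this
  have hg : (aT.app W).hom.comp ρ = α.comp (a.app O).hom := by
    have := appLE_comp_eq aT pP pX a hXT.w.symm O W (a ⁻¹ᵁ O) (aT ⁻¹ᵁ W) hWO le_rfl le_rfl leA
    rw [Scheme.Hom.appLE_eq_app, Scheme.Hom.appLE_eq_app] at this
    exact this
  have hq : c'.qC.comp β = γ.comp c.qC :=
    appLE_comp_eq jT pY pZ j hj₁ (b ⁻¹ᵁ O) (bT ⁻¹ᵁ W) c.W c'.W leB c'.leW' c.leW' leC
  have hp : c'.pC.comp α = γ.comp c.pC := by
    have := appLE_comp_eq iT pX pZ i hZT.w.symm (a ⁻¹ᵁ O) (aT ⁻¹ᵁ W) c.W c'.W leA c'.leW c.leW leC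
    have e1 : iT.appLE (aT ⁻¹ᵁ W) c'.W c'.leW = iT.app (aT ⁻¹ᵁ W) :=
      (Scheme.Hom.app_eq_appLE iT).symm
    have e2 : i.appLE (a ⁻¹ᵁ O) c.W c.leW = i.app (a ⁻¹ᵁ O) := (Scheme.Hom.app_eq_appLE i).symm
    rw [e1, e2] at this
    exact this
  -- pullback squares over the base
  have hXS : IsPullback pX (aT ≫ sT) (a ≫ s) g := hXT.paste_vert hPT
  have hYS : IsPullback pY (bT ≫ sT) (b ≫ s) g := hYT.paste_vert hPT
  have hZS : IsPullback pZ (iT ≫ aT ≫ sT) (i ≫ a ≫ s) g := hZT.paste_vert hXS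
  -- pushout squares of sections
  have hR : IsPushout (CommRingCat.ofHom σ) (CommRingCat.ofHom κ) (CommRingCat.ofHom κ')
      (CommRingCat.ofHom ρ) := isPushout_sections hPT hUST hOS hWdef hUS hUT hO
  have leAS : a ⁻¹ᵁ O ≤ (a ≫ s) ⁻¹ᵁ US := fun x hx => hOS hx
  have leBS : b ⁻¹ᵁ O ≤ (b ≫ s) ⁻¹ᵁ US := fun x hx => hOS hx
  have leCS : c.W ≤ (i ≫ a ≫ s) ⁻¹ᵁ US := fun x hx => hOS hx
  have eA : aT ⁻¹ᵁ W = pX ⁻¹ᵁ (a ⁻¹ᵁ O) ⊓ (aT ≫ sT) ⁻¹ᵁ UT := by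
    rw [hWdef, Scheme.Hom.preimage_inf, ← Scheme.Hom.comp_preimage, ← Scheme.Hom.comp_preimage,
      ← Scheme.Hom.comp_preimage, hXT.w]
  have eB : bT ⁻¹ᵁ W = pY ⁻¹ᵁ (b ⁻¹ᵁ O) ⊓ (bT ≫ sT) ⁻¹ᵁ UT := by
    rw [hWdef, Scheme.Hom.preimage_inf, ← Scheme.Hom.comp_preimage, ← Scheme.Hom.comp_preimage,
      ← Scheme.Hom.comp_preimage, hYT.w]
  have eC : c'.W = pZ ⁻¹ᵁ c.W ⊓ (iT ≫ aT ≫ sT) ⁻¹ᵁ UT := by
    change iT ⁻¹ᵁ (aT ⁻¹ᵁ W) = pZ ⁻¹ᵁ (i ⁻¹ᵁ (a ⁻¹ᵁ O)) ⊓ (iT ≫ aT ≫ sT) ⁻¹ᵁ UT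
    rw [eA, Scheme.Hom.preimage_inf]
    have : iT ⁻¹ᵁ pX ⁻¹ᵁ (a ⁻¹ᵁ O) = pZ ⁻¹ᵁ i ⁻¹ᵁ (a ⁻¹ᵁ O) := by
      rw [← Scheme.Hom.comp_preimage, ← Scheme.Hom.comp_preimage pZ i, hZT.w]
    rw [this]
    rfl
  have hA : IsPushout (CommRingCat.ofHom σ) (CommRingCat.ofHom ((a.app O).hom.comp κ))
      (CommRingCat.ofHom ((aT.app W).hom.comp κ')) (CommRingCat.ofHom α) := by
    have := isPushout_sections hXS hUST leAS eA hUS hUT (hO.preimage a)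
    have e1 : CommRingCat.ofHom ((a.app O).hom.comp κ) = (a ≫ s).appLE US (a ⁻¹ᵁ O) leAS := by
      change s.appLE US O hOS ≫ a.app O = _
      rw [Scheme.Hom.app_eq_appLE, Scheme.Hom.appLE_comp_appLE]
    have e2 : CommRingCat.ofHom ((aT.app W).hom.comp κ') =
        (aT ≫ sT).appLE UT (aT ⁻¹ᵁ W) (by rw [eA]; exact inf_le_right) := by
      change sT.appLE UT W hWT ≫ aT.app W = _
      rw [Scheme.Hom.app_eq_appLE, Scheme.Hom.appLE_comp_appLE]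
    rw [e1, e2]
    exact this
  have hB : IsPushout (CommRingCat.ofHom σ) (CommRingCat.ofHom ((b.app O).hom.comp κ))
      (CommRingCat.ofHom ((bT.app W).hom.comp κ')) (CommRingCat.ofHom β) := by
    have := isPushout_sections hYS hUST leBS eB hUS hUT (hO.preimage b)
    have e1 : CommRingCat.ofHom ((b.app O).hom.comp κ) = (b ≫ s).appLE US (b ⁻¹ᵁ O) leBS := by
      change s.appLE US O hOS ≫ b.app O = _
      rw [Scheme.Hom.app_eq_appLE, Scheme.Hom.appLE_comp_appLE]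
    have e2 : CommRingCat.ofHom ((bT.app W).hom.comp κ') =
        (bT ≫ sT).appLE UT (bT ⁻¹ᵁ W) (by rw [eB]; exact inf_le_right) := by
      change sT.appLE UT W hWT ≫ bT.app W = _
      rw [Scheme.Hom.app_eq_appLE, Scheme.Hom.appLE_comp_appLE]
    rw [e1, e2]
    exact this
  have e1C : CommRingCat.ofHom ((c.qC.comp (b.app O).hom).comp κ) =
      (i ≫ a ≫ s).appLE US c.W leCS := by
    rw [hcc]
    have h3 := appLE_comp3 i a s US O (a ⁻¹ᵁ O) c.W hOS le_rfl c.leW leCS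
    have e2 : i.appLE (a ⁻¹ᵁ O) c.W c.leW = i.app (a ⁻¹ᵁ O) := (Scheme.Hom.app_eq_appLE i).symm
    rw [e2, Scheme.Hom.appLE_eq_app] at h3
    exact CommRingCat.hom_ext h3
  have hC : IsPushout (CommRingCat.ofHom σ) (CommRingCat.ofHom ((c.qC.comp (b.app O).hom).comp κ))
      (CommRingCat.ofHom ((c'.qC.comp (bT.app W).hom).comp κ')) (CommRingCat.ofHom γ) := by
    have := isPushout_sections hZS hUST leCS eC hUS hUT c.hW
    have leCT : c'.W ≤ (iT ≫ aT ≫ sT) ⁻¹ᵁ UT := by rw [eC]; exact inf_le_right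
    have e2 : CommRingCat.ofHom ((c'.qC.comp (bT.app W).hom).comp κ') =
        (iT ≫ aT ≫ sT).appLE UT c'.W leCT := by
      rw [hcc']
      have h3 := appLE_comp3 iT aT sT UT W (aT ⁻¹ᵁ W) c'.W hWT le_rfl c'.leW leCT
      have e3 : iT.appLE (aT ⁻¹ᵁ W) c'.W c'.leW = iT.app (aT ⁻¹ᵁ W) :=
        (Scheme.Hom.app_eq_appLE iT).symm
      rw [e3, Scheme.Hom.appLE_eq_app] at h3
      exact CommRingCat.hom_ext h3
    rw [e1C, e2]
    exact this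
  -- the original square is a fibre square
  have hbij := Recog.can_bijective i j a b hP O hO
  have hinj : ∀ r, (b.app O).hom r = 0 → (a.app O).hom r = 0 → r = 0 := by
    intro r h1 h2
    apply hbij.1
    rw [map_zero]
    exact Pair.ext_elem h1 h2
  have hex : ∀ y x, c.qC y = c.pC x → ∃ r, (b.app O).hom r = y ∧ (a.app O).hom r = x := by
    intro y x hyx
    obtain ⟨r, hr⟩ := hbij.2 ⟨(y, x), hyx⟩
    exact ⟨r, congrArg (fun t => c.fC t) hr, congrArg (fun t => c.gC t) hr⟩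
  have h1C : (c.qC.comp (b.app O).hom).comp κ = ((i ≫ a ≫ s).appLE US c.W leCS).hom := by
    have h1 := congrArg CommRingCat.Hom.hom e1C
    exact h1
  have hpsurj : Function.Surjective c.pC := i.app_surjective (a ⁻¹ᵁ O) (hO.preimage a)
  have htens : σ.Flat ∨ (Function.Surjective c.pC ∧
      ((c.qC.comp (b.app O).hom).comp κ).Flat) ∨ (Function.Surjective c.pC ∧
      Function.Injective c.qC ∧ @Pinch.CokerProjective Γ(S, US) Γ(Z, c.W) Γ(Y, b ⁻¹ᵁ O) _ _ _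
        ((c.qC.comp (b.app O).hom).comp κ).toAlgebra c.qC) := by
    rcases hloc with hg' | hfl | ⟨hqinj, hproj⟩
    · exact Or.inl hg'
    · refine Or.inr (Or.inl ⟨hpsurj, ?_⟩)
      rw [h1C]
      exact hfl
    · refine Or.inr (Or.inr ⟨hpsurj, hqinj, ?_⟩)
      rw [h1C]
      exact hproj
  obtain ⟨hinj', hex'⟩ := BCAlg.milnor_baseChange' κ (b.app O).hom (a.app O).hom c.qC c.pC κ'
    (bT.app W).hom (aT.app W).hom c'.qC c'.pC σ ρ α β γ hcc hcc' hκ hf hg hq hp hR hA hB hC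
    hinj hex htens
  constructor
  · rw [injective_iff_map_eq_zero]
    intro r hr
    exact hinj' r (congrArg (fun t => c'.fC t) hr) (congrArg (fun t => c'.gC t) hr)
  · rintro ⟨⟨y, x⟩, hyx⟩
    obtain ⟨r, hr1, hr2⟩ := hex' y x hyx
    exact ⟨r, Pair.ext_elem hr1 hr2⟩


include hP hPT hXT hYT hZT hj₁ hj₂ in
/-- base change of a pushout, with a local hypothesis on a cover -/
theorem isPushout_baseChange_of_cover
    (hcov : ∀ w : PT, ∃ (US : S.Opens) (_ : IsAffineOpen US) (UT : T.Opens) (_ : IsAffineOpen UT)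
      (O : P.Opens) (hO : IsAffineOpen O) (hUST : UT ≤ g ⁻¹ᵁ US) (hOS : O ≤ s ⁻¹ᵁ US),
      pP w ∈ O ∧ sT w ∈ UT ∧
      ((g.appLE US UT hUST).hom.Flat ∨
      ((i ≫ a ≫ s).appLE US (Recog.chartOf i j a b hP.w O hO).W (fun _ hx => hOS hx)).hom.Flat ∨
      (Function.Injective (Recog.chartOf i j a b hP.w O hO).qC ∧
        @Pinch.CokerProjective Γ(S, US) Γ(Z, (Recog.chartOf i j a b hP.w O hO).W) Γ(Y, b ⁻¹ᵁ O) _ _ _
          ((i ≫ a ≫ s).appLE US (Recog.chartOf i j a b hP.w O hO).W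
            (fun _ hx => hOS hx)).hom.toAlgebra (Recog.chartOf i j a b hP.w O hO).qC))) :
    IsPushout iT jT aT bT := by
  apply Recog.isPushout iT jT aT bT hj₂
  intro w
  obtain ⟨US, hUS, UT, hUT, O, hO, hUST, hOS, hwO, hwUT, hloc⟩ := hcov w
  refine ⟨pP ⁻¹ᵁ O ⊓ sT ⁻¹ᵁ UT, isAffineOpen_inf hPT hUST hOS hUS hUT hO, ⟨hwO, hwUT⟩, ?_⟩
  exact can_bijective_baseChange' i j a b hP s g pP sT hPT pX aT hXT pY bT hYT pZ iT hZT jT hj₁ hj₂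
    US hUS UT hUT O hO hUST hOS hloc _ _ rfl

end Main

end BCGeo

end H9PO
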