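import Mathlib
import Groth.Agent.Lib.Helper9.PO.Glue8

universe u

open AlgebraicGeometry CategoryTheory Opposite TopologicalSpace Limits

namespace H9PO

namespace CC

open H9Ferrand H9ThickAff

variable {X Y Z : Scheme.{u}} (i : Z ⟶ X) (j : Z ⟶ Y) [IsClosedImmersion i] [IsClosedImmersion j]

/-- a chart around a point of `Z` -/
lemma exists_chart_of_mem (z : Z) : ∃ c : Chart i j, i z ∈ c.U ∧ j z ∈ c.V := by
  obtain ⟨U₀, hU₀, hxU₀, -⟩ := Opens.isBasis_iff_nbhd.mp X.isBasis_affineOpens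
    (show i z ∈ (⊤ : X.Opens) from trivial)
  obtain ⟨V₀, hV₀, hyV₀, -⟩ := Opens.isBasis_iff_nbhd.mp Y.isBasis_affineOpens
    (show j z ∈ (⊤ : Y.Opens) from trivial)
  have hZ₁ : IsAffineOpen (i ⁻¹ᵁ U₀) := hU₀.preimage i
  have hZ₂ : IsAffineOpen (j ⁻¹ᵁ V₀) := hV₀.preimage j
  obtain ⟨t₁, t₂, e, hz⟩ := exists_basicOpen_le_affine_inter hZ₁ hZ₂ z ⟨hxU₀, hyV₀⟩
  obtain ⟨s₁, hs₁⟩ := i.app_surjective U₀ hU₀ t₁
  obtain ⟨s₂, hs₂⟩ := j.app_surjective V₀ hV₀ t₂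
  have e₁ : i ⁻¹ᵁ X.basicOpen s₁ = Z.basicOpen t₁ := by
    rw [Scheme.preimage_basicOpen]
    exact congrArg _ hs₁
  have e₂ : j ⁻¹ᵁ Y.basicOpen s₂ = Z.basicOpen t₂ := by
    rw [Scheme.preimage_basicOpen]
    exact congrArg _ hs₂
  refine ⟨⟨⟨X.basicOpen s₁, Y.basicOpen s₂, e₁.trans (e.trans e₂.symm)⟩, hU₀.basicOpen _,
    hV₀.basicOpen _⟩, ?_, ?_⟩
  · change z ∈ i ⁻¹ᵁ X.basicOpen s₁
    rw [e₁]; exact hz
  · change z ∈ j ⁻¹ᵁ Y.basicOpen s₂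
    rw [e₂, ← e]; exact hz

omit [IsClosedImmersion j] in
lemma exists_chart_X (x : X) (hx : x ∉ Set.range i) : ∃ c : Chart i j, x ∈ c.U := by
  have hcl : IsClosed (Set.range i) := i.isClosedEmbedding.isClosed_range
  obtain ⟨U, hU, hxU, hUle⟩ := Opens.isBasis_iff_nbhd.mp X.isBasis_affineOpens
    (show x ∈ (⟨(Set.range i)ᶜ, hcl.isOpen_compl⟩ : X.Opens) from hx)
  refine ⟨⟨⟨U, ⊥, ?_⟩, hU, isAffineOpen_bot Y⟩, hxU⟩
  ext z
  constructor
  · intro hz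
    exact absurd ⟨z, rfl⟩ (hUle hz)
  · intro hz
    exact absurd hz (by simp)

omit [IsClosedImmersion i] in
lemma exists_chart_Y (y : Y) (hy : y ∉ Set.range j) : ∃ c : Chart i j, y ∈ c.V := by
  have hcl : IsClosed (Set.range j) := j.isClosedEmbedding.isClosed_range
  obtain ⟨V, hV, hyV, hVle⟩ := Opens.isBasis_iff_nbhd.mp Y.isBasis_affineOpens
    (show y ∈ (⟨(Set.range j)ᶜ, hcl.isOpen_compl⟩ : Y.Opens) from hy)
  refine ⟨⟨⟨⊥, V, ?_⟩, isAffineOpen_bot X, hV⟩, hyV⟩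
  ext z
  constructor
  · intro hz
    exact absurd hz (by simp)
  · intro hz
    exact absurd ⟨z, rfl⟩ (hVle hz)

lemma covers : Covers i j where
  covX x := by
    by_cases hx : x ∈ Set.range i
    · obtain ⟨z, rfl⟩ := hx
      obtain ⟨c, hc, -⟩ := exists_chart_of_mem i j z
      exact ⟨c, hc⟩
    · exact exists_chart_X i j x hx
  covY y := by
    by_cases hy : y ∈ Set.range j
    · obtain ⟨z, rfl⟩ := hy
      obtain ⟨c, -, hc⟩ := exists_chart_of_mem i j z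
      exact ⟨c, hc⟩
    · exact exists_chart_Y i j y hy

/-- pushout of two closed immersions -/
theorem main : ∃ (P : Scheme.{u}) (a : X ⟶ P) (b : Y ⟶ P), IsPushout i j a b ∧ IsPullback i j a b ∧
    IsClosedImmersion a ∧ IsClosedImmersion b := by
  obtain ⟨P, a, b, h1, h2, h3, -, -, h6, -⟩ := exists_pushout (covers i j)
  exact ⟨P, a, b, h1, h2, h6 inferInstance, h3⟩

end CC

end H9PO
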