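import Mathlib

universe u

open AlgebraicGeometry CategoryTheory

namespace H9PO

namespace FFInj

/-- sections over an affine open inject along a flat surjective morphism (affine preimage) -/
lemma app_injective {Z T : Scheme.{u}} (ξ : Z ⟶ T) [Flat ξ] [Surjective ξ] (V : T.Opens)
    (hV : IsAffineOpen V) (hVZ : IsAffineOpen (ξ ⁻¹ᵁ V)) :
    Function.Injective (ξ.app V).hom := by
  have hff : (ξ.app V).hom.FaithfullyFlat := by
    rw [RingHom.FaithfullyFlat.iff_flat_and_comap_surjective]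
    constructor
    · have := Flat.flat_appLE ξ hV hVZ le_rfl
      rwa [Scheme.Hom.appLE_eq_app] at this
    · intro 𝔭
      obtain ⟨z, hz⟩ := ξ.surjective (hV.fromSpec 𝔭)
      have hzV : z ∈ ξ ⁻¹ᵁ V := by
        change ξ z ∈ V
        rw [hz]
        have : hV.fromSpec 𝔭 ∈ hV.fromSpec.opensRange := ⟨𝔭, rfl⟩
        rwa [hV.opensRange_fromSpec] at this
      refine ⟨hVZ.primeIdealOf ⟨z, hzV⟩, ?_⟩
      apply hV.fromSpec.isOpenEmbedding.injective
      have h1 := IsAffineOpen.SpecMap_appLE_fromSpec ξ hV hVZ le_rfl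
      rw [Scheme.Hom.appLE_eq_app] at h1
      have h2 := congr($h1 (hVZ.primeIdealOf ⟨z, hzV⟩))
      have h3 : hV.fromSpec (PrimeSpectrum.comap (ξ.app V).hom (hVZ.primeIdealOf ⟨z, hzV⟩)) =
          ξ (hVZ.fromSpec (hVZ.primeIdealOf ⟨z, hzV⟩)) := h2
      rw [hVZ.fromSpec_primeIdealOf] at h3
      exact h3.trans hz
  exact hff.injective

end FFInj

end H9PO
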