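import Mathlib
import Groth.Agent.Lib.Helper9.PO.Uniq

universe u

namespace H9PO

open H9Ferrand

namespace MSqTop

variable {R B A' A : Type u} [CommRing R] [CommRing B] [CommRing A'] [CommRing A]
variable (M : MSq R B A' A)

/-- Artin–Tate for Milnor squares: `R` is of finite type over a noetherian ring as soon as
`B` and `A'` are and `q` is integral. -/
theorem finiteType_of_comp {k : Type u} [CommRing k] [IsNoetherianRing k] (φ : k →+* R)
    (hB : (M.f.comp φ).FiniteType) (hA' : (M.g.comp φ).FiniteType) (hq : M.q.IsIntegral) :
    φ.FiniteType := by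
  -- `q` is finite
  have hqft : M.q.FiniteType := by
    have h1 : ((M.p.comp M.g).comp φ).FiniteType := by
      rw [RingHom.comp_assoc]
      exact (RingHom.FiniteType.of_surjective M.p M.surj).comp hA'
    rw [← M.comm, RingHom.comp_assoc] at h1
    exact RingHom.FiniteType.of_comp_finiteType h1
  have hqfin : M.q.Finite := hq.to_finite hqft
  have hgfin : M.g.Finite := g_finite M hqfin
  letI : Algebra k R := φ.toAlgebra
  letI : Algebra R B := M.f.toAlgebra
  letI : Algebra R A' := M.g.toAlgebra
  letI : Algebra k B := (M.f.comp φ).toAlgebra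
  letI : Algebra k A' := (M.g.comp φ).toAlgebra
  haveI : IsScalarTower k R (B × A') := IsScalarTower.of_algebraMap_eq (fun x => rfl)
  haveI : Algebra.FiniteType k B := hB
  haveI : Algebra.FiniteType k A' := hA'
  haveI : Module.Finite R A' := hgfin
  haveI : Module.Finite R B := Module.Finite.of_surjective (Algebra.linearMap R B)
    (f_surjective M)
  have hinj : Function.Injective (algebraMap R (B × A')) := by
    intro x y hxy
    exact M.ext_elem (congrArg Prod.fst hxy) (congrArg Prod.snd hxy)
  have := fg_of_fg_of_fg k R (B × A') (Algebra.FiniteType.out) (Module.Finite.fg_top) hinj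
  exact ⟨this⟩

end MSqTop

end H9PO
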