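import Mathlib

/-!
# Algebra for pushouts along integral morphisms: finding a saturated basic open around a fibre
-/

namespace H9PO

namespace IntAlg

open Polynomial

variable {A B C : Type*} [CommRing A] [CommRing B] [CommRing C]

/-- splitting lemma: from a polynomial relation with a coefficient outside `𝔮` -/
lemma split_aux (q : B →+* C) (𝔮 : Ideal B) (x : C) :
    ∀ (n : ℕ) (P : B[X]), P.natDegree ≤ n → (∃ k, P.coeff k ∉ 𝔮) →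
      ∃ (u : C) (β : B), u ∈ Ideal.span {x} ∧ β ∉ 𝔮 ∧
        ∀ 𝔓 : Ideal C, 𝔓.IsPrime → 𝔓.comap q = 𝔮 → eval₂ q x P ∈ 𝔓 → x ∉ 𝔓 → u + q β ∈ 𝔓 := by
  intro n
  induction n with
  | zero =>
    intro P hP ⟨k, hk⟩
    have hPC : P = Polynomial.C (P.coeff 0) := eq_C_of_natDegree_le_zero hP
    have hk0 : P.coeff 0 ∉ 𝔮 := by
      rcases Nat.eq_zero_or_pos k with rfl | hpos
      · exact hk
      · exfalso
        apply hk
        rw [hPC, coeff_C, if_neg (by omega)]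
        exact 𝔮.zero_mem
    refine ⟨0, P.coeff 0, Ideal.zero_mem _, hk0, ?_⟩
    intro 𝔓 _ _ hev _
    rw [hPC, eval₂_C] at hev
    rw [zero_add]
    exact hev
  | succ n ih =>
    intro P hP ⟨k, hk⟩
    by_cases h0 : P.coeff 0 ∈ 𝔮
    · -- pass to `divX P`
      have hdeg : (divX P).natDegree ≤ n := by
        rw [natDegree_divX_eq_natDegree_tsub_one]; omega
      have hk' : ∃ k', (divX P).coeff k' ∉ 𝔮 := by
        rcases Nat.eq_zero_or_pos k with rfl | hpos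
        · exact absurd h0 hk
        · refine ⟨k - 1, ?_⟩
          rw [coeff_divX, Nat.sub_add_cancel hpos]
          exact hk
      obtain ⟨u, β, hu, hβ, H⟩ := ih (divX P) hdeg hk'
      refine ⟨u, β, hu, hβ, ?_⟩
      intro 𝔓 h𝔓 hover hev hx
      apply H 𝔓 h𝔓 hover _ hx
      have hdecomp : eval₂ q x P = eval₂ q x (divX P) * x + q (P.coeff 0) := by
        conv_lhs => rw [← divX_mul_X_add P]
        rw [eval₂_add, eval₂_mul, eval₂_X, eval₂_C]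
      have h1 : q (P.coeff 0) ∈ 𝔓 := by
        have : P.coeff 0 ∈ 𝔓.comap q := by rw [hover]; exact h0
        exact this
      have h2 : eval₂ q x (divX P) * x ∈ 𝔓 := by
        have := 𝔓.sub_mem hev h1
        rwa [hdecomp, add_sub_cancel_right] at this
      exact (h𝔓.mem_or_mem h2).resolve_right hx
    · refine ⟨eval₂ q x (divX P) * x, P.coeff 0, ?_, h0, ?_⟩
      · exact Ideal.mem_span_singleton'.2 ⟨_, rfl⟩
      · intro 𝔓 _ _ hev _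
        have hdecomp : eval₂ q x P = eval₂ q x (divX P) * x + q (P.coeff 0) := by
          conv_lhs => rw [← divX_mul_X_add P]
          rw [eval₂_add, eval₂_mul, eval₂_X, eval₂_C]
        rwa [hdecomp] at hev

/-- for an integral element `x`, an "indicator of `D(x)`" on the fibre over `𝔮` -/
lemma split (q : B →+* C) (𝔮 : Ideal B) [h𝔮 : 𝔮.IsPrime] (x : C) (hx : q.IsIntegralElem x) :
    ∃ (u : C) (β : B), u ∈ Ideal.span {x} ∧ β ∉ 𝔮 ∧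
      ∀ 𝔓 : Ideal C, 𝔓.IsPrime → 𝔓.comap q = 𝔮 → x ∉ 𝔓 → u + q β ∈ 𝔓 := by
  obtain ⟨P, hP, hPx⟩ := hx
  obtain ⟨u, β, hu, hβ, H⟩ := split_aux q 𝔮 x P.natDegree P le_rfl
    ⟨P.natDegree, by
      rw [coeff_natDegree, hP.leadingCoeff]
      exact fun h => h𝔮.ne_top ((Ideal.eq_top_iff_one _).2 h)⟩
  exact ⟨u, β, hu, hβ, fun 𝔓 h𝔓 hover hx' => H 𝔓 h𝔓 hover (hPx ▸ 𝔓.zero_mem) hx'⟩

variable (ρ : A →+* C) (q : B →+* C) (hq : q.IsIntegral) (𝔮 : Ideal B) [h𝔮 : 𝔮.IsPrime]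
  (J : Ideal A) (hext : ∀ h ∈ J, ∀ c : C, ∃ (N : ℕ) (a : A), a ∈ J ∧ ρ a = ρ h ^ N * c)

include hq hext in
/-- combining two elements -/
lemma combine (h₁ h₂ : A) (hh₁ : h₁ ∈ J) (hh₂ : h₂ ∈ J) :
    ∃ h ∈ J, ∀ 𝔓 : Ideal C, 𝔓.IsPrime → 𝔓.comap q = 𝔮 → (ρ h₁ ∉ 𝔓 ∨ ρ h₂ ∉ 𝔓) → ρ h ∉ 𝔓 := by
  obtain ⟨u, β, hu, hβ, H⟩ := split q 𝔮 (ρ h₁) (hq _)
  obtain ⟨w, hw⟩ := Ideal.mem_span_singleton'.1 hu
  obtain ⟨N₁, a₁, ha₁J, ha₁⟩ := hext h₁ hh₁ u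
  obtain ⟨N₂, a₂, ha₂J, ha₂⟩ := hext h₂ hh₂ (u + q β)
  refine ⟨a₁ + a₂, J.add_mem ha₁J ha₂J, ?_⟩
  intro 𝔓 h𝔓 hover hor hmem
  have hβ𝔓 : q β ∉ 𝔓 := by
    intro hc
    have : β ∈ 𝔓.comap q := hc
    rw [hover] at this
    exact hβ this
  rw [map_add, ha₁, ha₂] at hmem
  by_cases hx : ρ h₁ ∈ 𝔓
  · -- `u ∈ 𝔓`
    have hu𝔓 : u ∈ 𝔓 := by rw [← hw]; exact 𝔓.mul_mem_left _ hx
    have h1 : ρ h₁ ^ N₁ * u ∈ 𝔓 := 𝔓.mul_mem_left _ hu𝔓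
    have h2 : ρ h₂ ^ N₂ * (u + q β) ∈ 𝔓 := by
      have := 𝔓.sub_mem hmem h1
      rwa [add_sub_cancel_left] at this
    have hh₂𝔓 : ρ h₂ ∉ 𝔓 := hor.resolve_left (not_not.2 hx)
    rcases h𝔓.mem_or_mem h2 with h3 | h3
    · exact hh₂𝔓 (h𝔓.mem_of_pow_mem _ h3)
    · have := 𝔓.sub_mem h3 hu𝔓
      rw [add_sub_cancel_left] at this
      exact hβ𝔓 this
  · have h3 : u + q β ∈ 𝔓 := H 𝔓 h𝔓 hover hx
    have h2 : ρ h₂ ^ N₂ * (u + q β) ∈ 𝔓 := 𝔓.mul_mem_left _ h3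
    have h1 : ρ h₁ ^ N₁ * u ∈ 𝔓 := by
      have := 𝔓.sub_mem hmem h2
      rwa [add_sub_cancel_right] at this
    rcases h𝔓.mem_or_mem h1 with h4 | h4
    · exact hx (h𝔓.mem_of_pow_mem _ h4)
    · have := 𝔓.sub_mem h3 h4
      rw [add_sub_cancel_left] at this
      exact hβ𝔓 this

include hq hext in
lemma combine_finset (t : Finset C) (ht : ∀ x ∈ t, ∃ h ∈ J, ρ h = x) :
    ∃ h ∈ J, ∀ 𝔓 : Ideal C, 𝔓.IsPrime → 𝔓.comap q = 𝔮 → (∃ x ∈ t, x ∉ 𝔓) → ρ h ∉ 𝔓 := by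
  classical
  induction t using Finset.induction_on with
  | empty =>
    exact ⟨0, J.zero_mem, fun 𝔓 _ _ ⟨x, hx, _⟩ => absurd hx (by simp)⟩
  | insert x t hxt ih =>
    obtain ⟨h₂, hh₂, H₂⟩ := ih (fun y hy => ht y (Finset.mem_insert_of_mem hy))
    obtain ⟨h₁, hh₁, rfl⟩ := ht x (Finset.mem_insert_self _ _)
    obtain ⟨h, hh, H⟩ := combine ρ q hq 𝔮 J hext h₁ h₂ hh₁ hh₂
    refine ⟨h, hh, ?_⟩
    rintro 𝔓 h𝔓 hover ⟨y, hy, hy𝔓⟩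
    apply H 𝔓 h𝔓 hover
    rcases Finset.mem_insert.1 hy with rfl | hy'
    · exact Or.inl hy𝔓
    · exact Or.inr (H₂ 𝔓 h𝔓 hover ⟨y, hy', hy𝔓⟩)

include hq hext in
/-- **core lemma** -/
theorem core (hcov : Ideal.span (ρ '' (J : Set A)) = ⊤) :
    ∃ (a : A) (s : B) (u v : C) (M : ℕ), a ∈ J ∧ s ∉ 𝔮 ∧ 0 < M ∧ ρ a = u * q s ∧
      q s ^ M = v * ρ a := by
  obtain ⟨t, htJ, htop⟩ := (Ideal.span_eq_top_iff_finite _).1 hcov
  obtain ⟨h, hh, H⟩ := combine_finset ρ q hq 𝔮 J hext t (fun x hx => by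
    obtain ⟨h, hh, rfl⟩ := htJ hx
    exact ⟨h, hh, rfl⟩)
  have hall : ∀ 𝔓 : Ideal C, 𝔓.IsPrime → 𝔓.comap q = 𝔮 → ρ h ∉ 𝔓 := by
    intro 𝔓 h𝔓 hover
    apply H 𝔓 h𝔓 hover
    by_contra hcon
    push Not at hcon
    have : Ideal.span (t : Set C) ≤ 𝔓 := Ideal.span_le.2 (fun x hx => hcon x hx)
    rw [htop] at this
    exact h𝔓.ne_top (top_le_iff.1 this)
  -- lying over
  have hnot : ¬ (Ideal.span {ρ h}).comap q ≤ 𝔮 := by
    intro hle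
    letI := q.toAlgebra
    haveI : Algebra.IsIntegral B C := ⟨hq⟩
    obtain ⟨Q, hQ, hQp, hQo⟩ := Ideal.exists_ideal_over_prime_of_isIntegral 𝔮 (Ideal.span {ρ h}) hle
    exact hall Q hQp hQo (hQ (Ideal.subset_span rfl))
  obtain ⟨s, hs, hs𝔮⟩ := SetLike.not_le_iff_exists.1 hnot
  obtain ⟨c', hc'⟩ := Ideal.mem_span_singleton'.1 (show q s ∈ Ideal.span {ρ h} from hs)
  obtain ⟨N, a, haJ, ha⟩ := hext h hh (q s)
  refine ⟨a, s, ρ h ^ N, c' ^ N, N + 1, haJ, hs𝔮, Nat.succ_pos _, ha, ?_⟩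
  rw [ha, pow_succ, ← hc', mul_pow]
  ring

end IntAlg

end H9PO
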