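import Mathlib
import Groth.Agent.Lib.Helper9.PO.CC
import Groth.Agent.Lib.Helper9.PO.IntAlg

universe u

open AlgebraicGeometry CategoryTheory Opposite TopologicalSpace Limits

namespace H9PO

namespace IntChart

open H9Ferrand H9ThickAff

section ext

variable {Z : Scheme.{u}} {Z₁ Z₂ : Z.Opens} (hZ₁ : IsAffineOpen Z₁) (hZ₂ : IsAffineOpen Z₂)
  (hle : Z₂ ≤ Z₁)

/-- the ideal of sections whose nonvanishing locus lies in the smaller open -/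
def J : Ideal Γ(Z, Z₁) where
  carrier := {h | Z.basicOpen h ≤ Z₂}
  add_mem' {a b} ha hb := by
    intro x hx
    rcases Z.basicOpen_add_le a b hx with h | h
    · exact ha h
    · exact hb h
  zero_mem' := by
    change Z.basicOpen (0 : Γ(Z, Z₁)) ≤ Z₂
    rw [Scheme.basicOpen_zero]; exact bot_le
  smul_mem' c {a} ha := by
    change Z.basicOpen (c * a) ≤ Z₂
    rw [Scheme.basicOpen_mul]
    exact inf_le_right.trans ha

lemma mem_J (h : Γ(Z, Z₁)) : h ∈ J (Z₁ := Z₁) (Z₂ := Z₂) ↔ Z.basicOpen h ≤ Z₂ := Iff.rfl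

include hZ₁ hZ₂ in
lemma ext_zero (h : Γ(Z, Z₁)) (hh : Z.basicOpen h ≤ Z₂) (c : Γ(Z, Z₂)) :
    ∃ (N : ℕ) (a : Γ(Z, Z₁)), a ∈ J (Z₁ := Z₁) (Z₂ := Z₂) ∧ res hle a = res hle h ^ N * c := by
  have hD₁ : Z.basicOpen h ≤ Z₁ := Z.basicOpen_le h
  have e₂ : Z.basicOpen h = Z.basicOpen (res hle h) := by
    rw [basicOpen_res']
    exact (inf_eq_right.2 hh).symm
  have L₁ := Pair.isLocAway_res hZ₁ h hD₁ rfl
  have L₂ := Pair.isLocAway_res hZ₂ (res hle h) hh e₂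
  obtain ⟨n, a₀, ha₀⟩ := L₁.surj (res hh c)
  have hres : ∀ a : Γ(Z, Z₁), res hD₁ a = res hh (res hle a) := fun a => (res_res hh hle a).symm
  have hzero : res hh (c * res hle h ^ n - res hle a₀) = 0 := by
    rw [map_sub, map_mul, map_pow, ← hres, ← hres, ha₀, sub_self]
  obtain ⟨m, hm⟩ := L₂.ker _ hzero
  refine ⟨n + m + 1, h ^ (m + 1) * a₀, ?_, ?_⟩
  · rw [pow_succ, mul_assoc]
    exact (J (Z₁ := Z₁) (Z₂ := Z₂)).mul_mem_left _ ((J (Z₁ := Z₁) (Z₂ := Z₂)).mul_mem_right _ hh)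
  · rw [mul_sub, sub_eq_zero] at hm
    rw [map_mul, map_pow, pow_succ, mul_assoc, mul_comm (res hle h) (res hle a₀), ← mul_assoc,
      ← hm]
    ring

include hZ₁ hZ₂ in
lemma cov : Ideal.span ((res hle) '' (J (Z₁ := Z₁) (Z₂ := Z₂) : Set Γ(Z, Z₁))) = ⊤ := by
  rw [← hZ₂.self_le_iSup_basicOpen_iff]
  intro z hz
  obtain ⟨h, hh, hzh⟩ := hZ₁.exists_basicOpen_le (V := Z₂) ⟨z, hz⟩ (hle hz)
  rw [Opens.mem_iSup]
  refine ⟨⟨res hle h, h, hh, rfl⟩, ?_⟩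
  change z ∈ Z.basicOpen (res hle h)
  rw [basicOpen_res']
  exact ⟨hz, hzh⟩

end ext

variable {X Y Z : Scheme.{u}} (i : Z ⟶ X) (j : Z ⟶ Y) [IsClosedImmersion i] [IsIntegralHom j]

lemma mem_basicOpen_iff_not_mem_primeIdealOf {S : Scheme.{u}} {V : S.Opens} (hV : IsAffineOpen V)
    (s : Γ(S, V)) (y : S) (hy : y ∈ V) :
    y ∈ S.basicOpen s ↔ s ∉ (hV.primeIdealOf ⟨y, hy⟩).asIdeal := by
  have h1 : hV.fromSpec (hV.primeIdealOf ⟨y, hy⟩) = y := hV.fromSpec_primeIdealOf _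
  have h2 : hV.primeIdealOf ⟨y, hy⟩ ∈ PrimeSpectrum.basicOpen s ↔
      hV.fromSpec (hV.primeIdealOf ⟨y, hy⟩) ∈ S.basicOpen s := by
    rw [← hV.fromSpec_preimage_basicOpen]
    rfl
  rw [h1] at h2
  rw [← h2]
  rfl

/-- a chart around any point of `Y`, under the affine-fibre hypothesis -/
lemma exists_chart (y : Y) (U₀ : X.Opens) (hU₀ : IsAffineOpen U₀)
    (hF : j ⁻¹' {y} ⊆ i ⁻¹' (U₀ : Set X)) : ∃ c : Chart i j, y ∈ c.V := by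
  have hZ₁ : IsAffineOpen (i ⁻¹ᵁ U₀) := hU₀.preimage i
  obtain ⟨V₀, hV₀, hyV₀, -⟩ := Opens.isBasis_iff_nbhd.mp Y.isBasis_affineOpens
    (show y ∈ (⊤ : Y.Opens) from trivial)
  -- closedness of `j`
  have hcl : IsClosed (j '' ((i ⁻¹ᵁ U₀ : Z.Opens) : Set Z)ᶜ) :=
    j.isClosedMap _ (i ⁻¹ᵁ U₀).2.isClosed_compl
  have hy' : y ∉ j '' ((i ⁻¹ᵁ U₀ : Z.Opens) : Set Z)ᶜ := by
    rintro ⟨z, hz, rfl⟩
    exact hz (hF rfl)
  obtain ⟨s₀, hs₀, hys₀⟩ := hV₀.exists_basicOpen_le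
    (V := ⟨(j '' ((i ⁻¹ᵁ U₀ : Z.Opens) : Set Z)ᶜ)ᶜ, hcl.isOpen_compl⟩) ⟨y, hy'⟩ hyV₀
  have hV₁ : IsAffineOpen (Y.basicOpen s₀) := hV₀.basicOpen s₀
  have hZ₂ : IsAffineOpen (j ⁻¹ᵁ Y.basicOpen s₀) := hV₁.preimage j
  have hle : j ⁻¹ᵁ Y.basicOpen s₀ ≤ i ⁻¹ᵁ U₀ := by
    intro z hz
    by_contra hcon
    exact hs₀ hz ⟨z, hcon, rfl⟩
  -- the algebraic core
  have hq : (j.app (Y.basicOpen s₀)).hom.IsIntegral := IsIntegralHom.isIntegral_app j _ hV₁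
  obtain ⟨a, s, u, v, M, haJ, hs𝔮, hM, hau, hsv⟩ :=
    IntAlg.core (res hle) (j.app (Y.basicOpen s₀)).hom hq
      (hV₁.primeIdealOf ⟨y, hys₀⟩).asIdeal (J (Z₁ := i ⁻¹ᵁ U₀) (Z₂ := j ⁻¹ᵁ Y.basicOpen s₀))
      (fun h hh c => ext_zero hZ₁ hZ₂ hle h hh c) (cov hZ₁ hZ₂ hle)
  -- basic opens agree
  have e₁ : Z.basicOpen a = Z.basicOpen (res hle a) := by
    rw [basicOpen_res']
    exact (inf_eq_right.2 haJ).symm
  have e₂ : Z.basicOpen (res hle a) = Z.basicOpen ((j.app (Y.basicOpen s₀)).hom s) := by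
    apply le_antisymm
    · rw [hau, Scheme.basicOpen_mul]
      exact inf_le_right
    · rw [← Z.basicOpen_pow _ hM, hsv, Scheme.basicOpen_mul]
      exact inf_le_right
  obtain ⟨a', ha'⟩ := i.app_surjective U₀ hU₀ a
  have e₃ : i ⁻¹ᵁ X.basicOpen a' = Z.basicOpen a := by
    rw [Scheme.preimage_basicOpen]
    exact congrArg _ ha'
  have e₄ : j ⁻¹ᵁ Y.basicOpen s = Z.basicOpen ((j.app (Y.basicOpen s₀)).hom s) :=
    Scheme.preimage_basicOpen j s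
  refine ⟨⟨⟨X.basicOpen a', Y.basicOpen s, e₃.trans (e₁.trans (e₂.trans e₄.symm))⟩,
    hU₀.basicOpen _, hV₁.basicOpen _⟩, ?_⟩
  exact (mem_basicOpen_iff_not_mem_primeIdealOf hV₁ s y hys₀).2 hs𝔮

lemma covers (haff : ∀ y : ↑Y, ∃ U : X.Opens, IsAffineOpen U ∧ j ⁻¹' {y} ⊆ i ⁻¹' (U : Set ↑X)) :
    Covers i j := by
  have hcovY : ∀ y : Y, ∃ c : Chart i j, y ∈ c.V := by
    intro y
    obtain ⟨U₀, hU₀, hF⟩ := haff y
    exact exists_chart i j y U₀ hU₀ hF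
  exact
    { covX := fun x => by
        by_cases hx : x ∈ Set.range i
        · obtain ⟨z, rfl⟩ := hx
          obtain ⟨c, hc⟩ := hcovY (j z)
          refine ⟨c, ?_⟩
          have : z ∈ j ⁻¹ᵁ c.V := hc
          rw [← c.e] at this
          exact this
        · exact CC.exists_chart_X i j x hx
      covY := hcovY }

theorem main (haff : ∀ y : ↑Y, ∃ U : X.Opens, IsAffineOpen U ∧ j ⁻¹' {y} ⊆ i ⁻¹' (U : Set ↑X)) :
    ∃ (P : Scheme.{u}) (a : X ⟶ P) (b : Y ⟶ P), IsPushout i j a b ∧ IsPullback i j a b ∧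
      IsIntegralHom a ∧ IsClosedImmersion b := by
  obtain ⟨P, a, b, h1, h2, h3, -, h5, -, -⟩ := exists_pushout (covers i j haff)
  exact ⟨P, a, b, h1, h2, h5 inferInstance, h3⟩

end IntChart

end H9PO
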