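import Mathlib
import Groth.Agent.Lib.Helper9.PO.IntChart
import Groth.Agent.Lib.Helper9.PO.Avoid

universe u

open AlgebraicGeometry CategoryTheory Opposite TopologicalSpace Limits

namespace H9PO

namespace Avoid

variable {R : Type*} [CommRing R]

/-- indexed version of coset prime avoidance -/
theorem exists_add_not_mem' (I : Ideal R) (s : R) {ι : Type*} (T : Finset ι) (P : ι → Ideal R)
    (h : ∀ t ∈ T, (P t).IsPrime ∧ ¬ I ≤ P t) : ∃ y ∈ I, ∀ t ∈ T, s + y ∉ P t := by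
  classical
  obtain ⟨y, hy, hy'⟩ := exists_add_not_mem I s (T.image P) (by
    intro 𝔭 h𝔭
    obtain ⟨t, ht, rfl⟩ := Finset.mem_image.1 h𝔭
    exact h t ht)
  exact ⟨y, hy, fun t ht => hy' _ (Finset.mem_image_of_mem P ht)⟩

end Avoid

namespace FinAff

open H9Ferrand H9ThickAff

/-- a total "prime at a point" function -/
noncomputable def primeAt {S : Scheme.{u}} {U : S.Opens} (hU : IsAffineOpen U) (x : S) :
    Ideal Γ(S, U) :=
  open Classical in
  if hx : x ∈ U then (hU.primeIdealOf ⟨x, hx⟩).asIdeal else ⊤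

lemma primeAt_isPrime {S : Scheme.{u}} {U : S.Opens} (hU : IsAffineOpen U) (x : S) (hx : x ∈ U) :
    (primeAt hU x).IsPrime := by
  unfold primeAt
  rw [dif_pos hx]
  exact (hU.primeIdealOf ⟨x, hx⟩).isPrime

lemma mem_basicOpen_iff {S : Scheme.{u}} {U : S.Opens} (hU : IsAffineOpen U) (x : S) (hx : x ∈ U)
    (s : Γ(S, U)) : x ∈ S.basicOpen s ↔ s ∉ primeAt hU x := by
  unfold primeAt
  rw [dif_pos hx]
  exact IntChart.mem_basicOpen_iff_not_mem_primeIdealOf hU s x hx

/-- Lemma A: a finite subset of `U ∩ O` with `U` affine lies in a basic open of `U` inside `O` -/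
lemma exists_basicOpen_le {S : Scheme.{u}} {U : S.Opens} (hU : IsAffineOpen U) (O : S.Opens)
    (F : Set S) (hF : F.Finite) (hFU : F ⊆ (U : Set S)) (hFO : F ⊆ (O : Set S)) :
    ∃ h : Γ(S, U), S.basicOpen h ≤ O ∧ F ⊆ (S.basicOpen h : Set S) := by
  obtain ⟨y, hy, hy'⟩ := Avoid.exists_add_not_mem' (IntChart.J (Z₁ := U) (Z₂ := O)) 0
    hF.toFinset (primeAt hU) (by
      intro x hx
      have hxF : x ∈ F := hF.mem_toFinset.1 hx
      refine ⟨primeAt_isPrime hU x (hFU hxF), ?_⟩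
      intro hle
      obtain ⟨h, hh, hxh⟩ := hU.exists_basicOpen_le (V := O) ⟨x, hFO hxF⟩ (hFU hxF)
      exact (mem_basicOpen_iff hU x (hFU hxF) h).1 hxh (hle hh))
  refine ⟨y, hy, ?_⟩
  intro x hxF
  have := hy' x (hF.mem_toFinset.2 hxF)
  rw [zero_add] at this
  exact (mem_basicOpen_iff hU x (hFU hxF) y).2 this

/-- finite-set version of `exists_basicOpen_le_affine_inter` -/
lemma exists_basicOpen_eq {S : Scheme.{u}} {A B : S.Opens} (hA : IsAffineOpen A)
    (hB : IsAffineOpen B) (F : Set S) (hF : F.Finite) (hFA : F ⊆ (A : Set S))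
    (hFB : F ⊆ (B : Set S)) :
    ∃ (f : Γ(S, A)) (g : Γ(S, B)), S.basicOpen f = S.basicOpen g ∧
      F ⊆ (S.basicOpen f : Set S) := by
  obtain ⟨f₀, hf₀, hFf₀⟩ := exists_basicOpen_le hA (A ⊓ B) F hF hFA (fun x hx => ⟨hFA hx, hFB hx⟩)
  obtain ⟨g, hg, hFg⟩ := exists_basicOpen_le hB (S.basicOpen f₀) F hF hFB hFf₀
  have hf₀B : S.basicOpen f₀ ≤ B := hf₀.trans inf_le_right
  obtain ⟨f', hf'⟩ := hA.basicOpen_basicOpen_is_basicOpen f₀
    (S.presheaf.map (homOfLE hf₀B : _ ⟶ B).op g)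
  replace hf' := (hf'.trans (RingedSpace.basicOpen_res _ _ _)).trans (inf_eq_right.mpr hg)
  exact ⟨f', g, hf', hf'.symm ▸ hFg⟩

/-- Lemma B: lifting a section along a closed immersion while staying a unit at finitely many
points outside the closed subscheme -/
lemma exists_lift {X Y : Scheme.{u}} (θ : Y ⟶ X) [IsClosedImmersion θ] {U : X.Opens}
    (hU : IsAffineOpen U) (t : Γ(Y, θ ⁻¹ᵁ U)) (G : Set X) (hG : G.Finite)
    (hGU : G ⊆ (U : Set X)) (hGθ : ∀ x ∈ G, x ∉ Set.range θ) :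
    ∃ s : Γ(X, U), (θ.app U).hom s = t ∧ G ⊆ (X.basicOpen s : Set X) := by
  obtain ⟨s₀, hs₀⟩ := θ.app_surjective U hU t
  have hcl : IsClosed (Set.range θ) := θ.isClosedEmbedding.isClosed_range
  obtain ⟨y, hy, hy'⟩ := Avoid.exists_add_not_mem' (RingHom.ker (θ.app U).hom) s₀
    hG.toFinset (primeAt hU) (by
      intro x hx
      have hxG : x ∈ G := hG.mem_toFinset.1 hx
      haveI hprime := primeAt_isPrime hU x (hGU hxG)
      refine ⟨hprime, ?_⟩
      intro hle
      obtain ⟨f, hf, hxf⟩ := hU.exists_basicOpen_le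
        (V := ⟨(Set.range θ)ᶜ, hcl.isOpen_compl⟩) ⟨x, hGθ x hxG⟩ (hGU hxG)
      have hbot : Y.basicOpen ((θ.app U).hom f) = ⊥ := by
        rw [← Scheme.preimage_basicOpen]
        ext z
        constructor
        · intro hz
          exact absurd ⟨z, rfl⟩ (hf hz)
        · intro hz
          exact absurd hz (by simp)
      have hcomp : IsCompact ((θ ⁻¹ᵁ U : Y.Opens) : Set Y) := (hU.preimage θ).isCompact
      obtain ⟨n, hn⟩ := (Scheme.isNilpotent_iff_basicOpen_eq_bot_of_isCompact hcomp _).2 hbot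
      have hmem : f ^ n ∈ RingHom.ker (θ.app U).hom := by
        rw [RingHom.mem_ker, map_pow]; exact hn
      have h1 : f ^ n ∈ primeAt hU x := hle hmem
      exact (mem_basicOpen_iff hU x (hGU hxG) f).1 hxf (hprime.mem_of_pow_mem n h1))
  refine ⟨s₀ + y, ?_, ?_⟩
  · rw [map_add, hs₀, (RingHom.mem_ker).1 hy, add_zero]
  · intro x hxG
    exact (mem_basicOpen_iff hU x (hGU hxG) _).2 (hy' x (hG.mem_toFinset.2 hxG))

end FinAff

end H9PO
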