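import Mathlib
import Groth.Agent.Lib.Helper9.PO.FTAlg

universe u

open AlgebraicGeometry CategoryTheory Opposite TopologicalSpace Limits

namespace H9PO

open H9Ferrand H9ThickAff

variable {X Y Z : Scheme.{u}} {i : Z ⟶ X} {j : Z ⟶ Y} [IsClosedImmersion i]

/-- factor a morphism from an affine scheme through an affine open of the target -/
lemma exists_SpecMap_eq {R : CommRingCat.{u}} {S : Scheme.{u}} (ρ : Spec R ⟶ S) (S₀ : S.Opens)
    (hS₀ : IsAffineOpen S₀) (h : ∀ x, ρ x ∈ S₀) :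
    ∃ φ : Γ(S, S₀) ⟶ R, Spec.map φ ≫ hS₀.fromSpec = ρ := by
  have hr : Set.range ρ ⊆ Set.range hS₀.fromSpec := by
    rw [hS₀.range_fromSpec]
    rintro _ ⟨x, rfl⟩
    exact h x
  refine ⟨Spec.preimage (IsOpenImmersion.lift hS₀.fromSpec ρ hr), ?_⟩
  rw [Spec.map_preimage, IsOpenImmersion.lift_fac]

namespace Chart

/-- chart ranges form a basis of the topology of the glued pushout -/
lemma exists_le_opens (x : PO i j) (O : (PO i j).Opens) (hx : x ∈ O) :
    ∃ c : Chart i j, x ∈ c.ι.opensRange ∧ c.ι.opensRange ≤ O := by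
  obtain ⟨c₀, s, rfl⟩ := Chart.ι_jointly_surjective x
  have hs : s ∈ c₀.ι ⁻¹ᵁ O := hx
  obtain ⟨_, ⟨r', rfl⟩, hsr, hr⟩ := Opens.isBasis_iff_nbhd.mp
    (PrimeSpectrum.isBasis_basic_opens (R := c₀.RC)) hs
  obtain ⟨-, hrange⟩ := tr_of_eq_basic (c₀.basicChart_le r') r' rfl rfl
  refine ⟨c₀.basicChart r', ?_, ?_⟩
  · have : s ∈ Set.range (tr (c₀.basicChart_le r')) := by rw [hrange]; exact hsr
    obtain ⟨s', rfl⟩ := this
    refine ⟨s', ?_⟩
    have := congr($(tr_ι (c₀.basicChart_le r')) s')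
    exact this.symm
  · rintro _ ⟨s', rfl⟩
    have h1 : (c₀.basicChart r').ι s' = c₀.ι (tr (c₀.basicChart_le r') s') := by
      have := congr($(tr_ι (c₀.basicChart_le r')) s')
      exact this.symm
    rw [h1]
    have h2 : tr (c₀.basicChart_le r') s' ∈ Set.range (tr (c₀.basicChart_le r')) := ⟨s', rfl⟩
    rw [hrange] at h2
    exact hr h2

end Chart

namespace Covers

variable (H : Covers i j)

/-- an open cover of the glued pushout by charts subordinate to a family of opens -/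
noncomputable def coverOfLe (𝒪 : Set (PO i j).Opens) (h𝒪 : ∀ x : PO i j, ∃ O ∈ 𝒪, x ∈ O) :
    (PO i j).OpenCover where
  I₀ := PO i j
  X x := (Chart.exists_le_opens x (h𝒪 x).choose (h𝒪 x).choose_spec.2).choose.S
  f x := (Chart.exists_le_opens x (h𝒪 x).choose (h𝒪 x).choose_spec.2).choose.ι
  mem₀ := by
    rw [Scheme.presieve₀_mem_precoverage_iff]
    refine ⟨fun x => ?_, fun x => inferInstance⟩
    exact ⟨x, (Chart.exists_le_opens x (h𝒪 x).choose (h𝒪 x).choose_spec.2).choose_spec.1⟩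

set_option backward.isDefEq.respectTransparency.types false in
/-- the pushout is locally of finite type over a locally noetherian base as soon as `X` and `Y`
are, for integral `j` -/
theorem locallyOfFiniteType [IsIntegralHom j] {S : Scheme.{u}} [IsLocallyNoetherian S]
    (r : PO i j ⟶ S) [LocallyOfFiniteType (H.a ≫ r)] [LocallyOfFiniteType (H.b ≫ r)] :
    LocallyOfFiniteType r := by
  -- charts mapping into affine opens of `S`
  have key : ∀ (c : Chart i j) (S₀ : S.Opens), IsAffineOpen S₀ → c.ι.opensRange ≤ r ⁻¹ᵁ S₀ →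
      LocallyOfFiniteType (c.ι ≫ r) := by
    intro c S₀ hS₀ hle
    obtain ⟨φ, hφ⟩ := exists_SpecMap_eq (c.ι ≫ r) S₀ hS₀ (fun x => hle ⟨x, rfl⟩)
    rw [← hφ]
    haveI : IsNoetherianRing Γ(S, S₀) := IsLocallyNoetherian.component_noetherian ⟨S₀, hS₀⟩
    have hft : φ.hom.FiniteType := by
      apply MSqTop.finiteType_of_comp c.M φ.hom _ _ c.qC_isIntegral
      · -- `B` side
        have h1 : Spec.map (φ ≫ CommRingCat.ofHom c.fC) ≫ hS₀.fromSpec =
            c.hV.fromSpec ≫ H.b ≫ r := by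
          rw [Spec.map_comp, Category.assoc, hφ, ← Category.assoc]
          change (c.M.jB ≫ c.ι) ≫ r = _
          rw [c.jB_ι_eq H, Category.assoc]
        haveI : LocallyOfFiniteType (Spec.map (φ ≫ CommRingCat.ofHom c.fC) ≫ hS₀.fromSpec) := by
          rw [h1]; infer_instance
        have h2 := locallyOfFiniteType_of_comp (Spec.map (φ ≫ CommRingCat.ofHom c.fC))
          hS₀.fromSpec
        exact (HasRingHomProperty.Spec_iff (P := @LocallyOfFiniteType)).1 h2
      · have h1 : Spec.map (φ ≫ CommRingCat.ofHom c.gC) ≫ hS₀.fromSpec =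
            c.hU.fromSpec ≫ H.a ≫ r := by
          rw [Spec.map_comp, Category.assoc, hφ, ← Category.assoc]
          change (c.M.jA' ≫ c.ι) ≫ r = _
          rw [c.jA'_ι_eq H, Category.assoc]
        haveI : LocallyOfFiniteType (Spec.map (φ ≫ CommRingCat.ofHom c.gC) ≫ hS₀.fromSpec) := by
          rw [h1]; infer_instance
        have h2 := locallyOfFiniteType_of_comp (Spec.map (φ ≫ CommRingCat.ofHom c.gC))
          hS₀.fromSpec
        exact (HasRingHomProperty.Spec_iff (P := @LocallyOfFiniteType)).1 h2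
    haveI : LocallyOfFiniteType (Spec.map φ) :=
      (HasRingHomProperty.Spec_iff (P := @LocallyOfFiniteType)).2 hft
    infer_instance
  -- the cover
  let 𝒪 : Set (PO i j).Opens := {O | ∃ S₀ : S.Opens, IsAffineOpen S₀ ∧ O = r ⁻¹ᵁ S₀}
  have h𝒪 : ∀ x : PO i j, ∃ O ∈ 𝒪, x ∈ O := by
    intro x
    obtain ⟨S₀, hS₀, hx, -⟩ := Opens.isBasis_iff_nbhd.mp S.isBasis_affineOpens
      (show r x ∈ (⊤ : S.Opens) from trivial)
    exact ⟨r ⁻¹ᵁ S₀, ⟨S₀, hS₀, rfl⟩, hx⟩
  refine IsZariskiLocalAtSource.of_openCover (coverOfLe 𝒪 h𝒪) ?_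
  intro x
  obtain ⟨S₀, hS₀, hO⟩ := (h𝒪 x).choose_spec.1
  have hle := (Chart.exists_le_opens x (h𝒪 x).choose (h𝒪 x).choose_spec.2).choose_spec.2
  exact key _ S₀ hS₀ (hle.trans hO.le)

end Covers

end H9PO
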