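import Mathlib
import Groth.Prelude.Def_EtMil
import Groth.Agent.Lib.Helper9.PO.MilAlg
import Groth.Agent.Lib.Helper8.AzFibre

set_option linter.unusedSectionVars false
set_option linter.style.haveILetI false

universe u
open TensorProduct Groth.Agent.Helper4.Milnor

namespace H9PO.MilAz

/-- cancellation of base change for a noncommutative algebra -/
noncomputable def cancelBC (R S A B : Type*) [CommRing R] [CommRing S] [CommRing A] [Ring B]
    [Algebra R S] [Algebra R A] [Algebra S A] [IsScalarTower R S A] [Algebra R B] :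
    A ⊗[S] (S ⊗[R] B) ≃ₐ[A] A ⊗[R] B :=
  AlgEquiv.symm <| AlgEquiv.ofLinearEquiv
    (TensorProduct.AlgebraTensorModule.cancelBaseChange R S A A B).symm
    (by simp [Algebra.TensorProduct.one_def]) <|
      LinearMap.map_mul_of_map_mul_tmul (fun _ _ _ _ ↦ by simp)

section Sq

variable {B' B A' A : Type u} [CommRing B'] [CommRing B] [CommRing A'] [CommRing A]
    [Algebra B' B] [Algebra B' A'] [Algebra B A] [Algebra A' A] [Algebra B' A] [IsScalarTower B' B A] [IsScalarTower B' A' A]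
    (hsq : EtMil.IsFibreSquare B' B A' A)

theorem csa_of_factor (D' : Type u) [Ring D'] [Algebra B' D'] (T : Type u) [CommRing T] [Algebra B' T]
    [IsAzumaya T (T ⊗[B'] D')] (L : Type u) [Field L] [Algebra B' L] [Algebra T L] [IsScalarTower B' T L] :
    Algebra.IsCentral L (L ⊗[B'] D') ∧ IsSimpleRing (L ⊗[B'] D') := by
  obtain ⟨h1, h2⟩ := Groth.Agent.Helper8.fibre_csa_of_isAzumaya T (T ⊗[B'] D') L
  let e := cancelBC B' T L D'
  exact ⟨Algebra.IsCentral.of_algEquiv L _ _ e, IsSimpleRing.of_ringEquiv e.toRingEquiv h2⟩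

include hsq in
theorem isAzumaya_of_baseChange (D' : Type u) [Ring D'] [Algebra B' D']
    [IsAzumaya B (B ⊗[B'] D')] [IsAzumaya A' (A' ⊗[B'] D')] : IsAzumaya B' D' := by
  haveI : Module.Finite B' D' := finite_of_tensor D' hsq
  haveI : Module.Flat B' D' := flat_of_tensor D' hsq
  haveI : Module.FinitePresentation B (B ⊗[B'] D') := Module.finitePresentation_of_projective B _
  haveI : Module.FinitePresentation A' (A' ⊗[B'] D') := Module.finitePresentation_of_projective A' _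
  haveI : Module.FinitePresentation B' D' := finitePresentation_of_tensor D' hsq
  haveI : Module.Projective B' D' := Module.Flat.projective_of_finitePresentation
  refine Groth.Agent.Helper8.isAzumaya_of_forall_fibre_csa B' D' fun 𝔭 _ => ?_
  by_cases h : ∀ x, algebraMap B' B x = 0 → algebraMap B' 𝔭.ResidueField x = 0
  · obtain ⟨ψ, hψ⟩ := MilAlg.exists_factor_fst hsq (algebraMap B' 𝔭.ResidueField) h
    letI : Algebra B 𝔭.ResidueField := ψ.toAlgebra
    haveI : IsScalarTower B' B 𝔭.ResidueField := IsScalarTower.of_algebraMap_eq' hψ.symm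
    exact csa_of_factor D' B 𝔭.ResidueField
  · push Not at h
    obtain ⟨ι, hι, hφ⟩ := h
    obtain ⟨ψ, hψ⟩ := MilAlg.exists_factor_snd hsq (algebraMap B' 𝔭.ResidueField) ι hι hφ
    letI : Algebra A' 𝔭.ResidueField := ψ.toAlgebra
    haveI : IsScalarTower B' A' 𝔭.ResidueField := IsScalarTower.of_algebraMap_eq' hψ.symm
    exact csa_of_factor D' A' 𝔭.ResidueField

include hsq in
theorem isAzumaya_iff (D' : Type u) [Ring D'] [Algebra B' D'] :
    IsAzumaya B' D' ↔ IsAzumaya B (B ⊗[B'] D') ∧ IsAzumaya A' (A' ⊗[B'] D') := by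
  constructor
  · intro h
    exact ⟨Groth.Agent.Helper7.Azumaya.baseChange B' B D', Groth.Agent.Helper7.Azumaya.baseChange B' A' D'⟩
  · rintro ⟨h1, h2⟩
    exact isAzumaya_of_baseChange hsq D'

end Sq

section Glue

variable {B' B A' A : Type u} [CommRing B'] [CommRing B] [CommRing A'] [CommRing A]
    [Algebra B' B] [Algebra B' A'] [Algebra B A] [Algebra A' A] [Algebra B' A] [IsScalarTower B' B A] [IsScalarTower B' A' A]
    (hsq : EtMil.IsFibreSquare B' B A' A)
    {N : Type u} [Ring N] [Algebra B N] [Algebra B' N] [IsScalarTower B' B N]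
    {M' : Type u} [Ring M'] [Algebra A' M'] [Algebra B' M'] [IsScalarTower B' A' M']
    (φ : A ⊗[B] N ≃ₐ[A] A ⊗[A'] M')
    {D' : Type u} [Ring D'] [Algebra B' D'] (π₁ : D' →ₐ[B'] N) (π₂ : D' →ₐ[B'] M')
    (hinj : ∀ d : D', π₁ d = 0 → π₂ d = 0 → d = 0)
    (himg : ∀ (n : N) (m' : M'), φ ((1 : A) ⊗ₜ[B] n) = (1 : A) ⊗ₜ[A'] m' ↔ ∃ d : D', π₁ d = n ∧ π₂ d = m')

/-- `D' → N ×_φ M'` -/
noncomputable def θ : D' →ₗ[B'] EtMil.glue B' φ.toLinearEquiv where
  toFun d := ⟨(π₁ d, π₂ d), (himg _ _).mpr ⟨d, rfl, rfl⟩⟩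
  map_add' x y := by
    apply Subtype.ext
    simp
  map_smul' r x := by
    apply Subtype.ext
    simp

include hinj in
theorem θ_bijective : Function.Bijective (θ φ π₁ π₂ himg) := by
  constructor
  · rw [injective_iff_map_eq_zero]
    intro d hd
    have h1 : π₁ d = 0 := congrArg (fun z : EtMil.glue B' φ.toLinearEquiv => (z : N × M').1) hd
    have h2 : π₂ d = 0 := congrArg (fun z : EtMil.glue B' φ.toLinearEquiv => (z : N × M').2) hd
    exact hinj d h1 h2
  · rintro ⟨⟨n, m'⟩, h⟩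
    obtain ⟨d, h1, h2⟩ := (himg n m').mp h
    exact ⟨d, Subtype.ext (Prod.ext h1 h2)⟩

/-- the algebra map `B ⊗ D' → N` -/
noncomputable def ψ₁ : B ⊗[B'] D' →ₐ[B] N :=
  Algebra.TensorProduct.lift (Algebra.ofId B N) π₁ (fun b d => Algebra.commutes b (π₁ d))

/-- the algebra map `A' ⊗ D' → M'` -/
noncomputable def ψ₂ : A' ⊗[B'] D' →ₐ[A'] M' :=
  Algebra.TensorProduct.lift (Algebra.ofId A' M') π₂ (fun b d => Algebra.commutes b (π₂ d))

include hsq hinj himg in
theorem ψ₁_bijective : Function.Bijective (ψ₁ (B := B) π₁) := by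
  let E : B ⊗[B'] D' ≃ₗ[B] N :=
    (TensorProduct.AlgebraTensorModule.congr (LinearEquiv.refl B B)
      (LinearEquiv.ofBijective (θ φ π₁ π₂ himg) (θ_bijective φ π₁ π₂ hinj himg))).trans
      (glueEquivFst φ.toLinearEquiv hsq)
  have hE : (ψ₁ (B := B) π₁).toLinearMap = E.toLinearMap := by
    apply TensorProduct.AlgebraTensorModule.ext
    intro b d
    change (ψ₁ (B := B) π₁) (b ⊗ₜ d) = Groth.Agent.S2019.g₁ B' φ.toLinearEquiv (b ⊗ₜ (θ φ π₁ π₂ himg d))
    rw [Groth.Agent.S2019.g₁_tmul]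
    simp only [ψ₁, Algebra.TensorProduct.lift_tmul, Algebra.ofId_apply, Algebra.smul_def]
    rfl
  have : (ψ₁ (B := B) π₁ : B ⊗[B'] D' → N) = E := by
    ext x
    exact LinearMap.congr_fun hE x
  rw [this]
  exact E.bijective

include hsq hinj himg in
theorem ψ₂_bijective : Function.Bijective (ψ₂ (A' := A') π₂) := by
  let E : A' ⊗[B'] D' ≃ₗ[A'] M' :=
    (TensorProduct.AlgebraTensorModule.congr (LinearEquiv.refl A' A')
      (LinearEquiv.ofBijective (θ φ π₁ π₂ himg) (θ_bijective φ π₁ π₂ hinj himg))).trans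
      (glueEquivSnd φ.toLinearEquiv hsq)
  have hE : (ψ₂ (A' := A') π₂).toLinearMap = E.toLinearMap := by
    apply TensorProduct.AlgebraTensorModule.ext
    intro b d
    change (ψ₂ (A' := A') π₂) (b ⊗ₜ d) = Groth.Agent.S2019.g₂ B' φ.toLinearEquiv (b ⊗ₜ (θ φ π₁ π₂ himg d))
    rw [Groth.Agent.S2019.g₂_tmul]
    simp only [ψ₂, Algebra.TensorProduct.lift_tmul, Algebra.ofId_apply, Algebra.smul_def]
    rfl
  have : (ψ₂ (A' := A') π₂ : A' ⊗[B'] D' → M') = E := by
    ext x
    exact LinearMap.congr_fun hE x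
  rw [this]
  exact E.bijective

include hsq hinj himg in
theorem isAzumaya_glue [IsAzumaya B N] [IsAzumaya A' M'] : IsAzumaya B' D' := by
  haveI : IsAzumaya B (B ⊗[B'] D') :=
    IsAzumaya.of_AlgEquiv _ _ _ (AlgEquiv.ofBijective (ψ₁ (B := B) π₁) (ψ₁_bijective hsq φ π₁ π₂ hinj himg)).symm
  haveI : IsAzumaya A' (A' ⊗[B'] D') :=
    IsAzumaya.of_AlgEquiv _ _ _ (AlgEquiv.ofBijective (ψ₂ (A' := A') π₂) (ψ₂_bijective hsq φ π₁ π₂ hinj himg)).symm
  exact isAzumaya_of_baseChange hsq D'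

end Glue


end H9PO.MilAz
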