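import Mathlib
import Groth.Prelude.Def_EtMil
import Groth.Agent.Lib.Helper4.MilnorGlue

/-!
# Relative Milnor gluing (helper9)

Cube over a Milnor square `B' = B ×_A A'`: `D = D' ⊗ B`, `C' = D' ⊗ A'`, `C = D' ⊗ A`.
Finite presentation of glued modules over `D'`.
-/

set_option linter.unusedSectionVars false
set_option linter.style.haveILetI false

universe u
open TensorProduct Groth.Agent.Helper4.Milnor

namespace H9PO.MilRel

section Cancel

variable {R T S ST : Type*} [CommRing R] [CommRing T] [CommRing S] [CommRing ST]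
  [Algebra R T] [Algebra R S] [Algebra T ST] [Algebra S ST] [Algebra R ST]
  [IsScalarTower R T ST] [IsScalarTower R S ST] [Algebra.IsPushout R T S ST]
  {X Y : Type*} [AddCommGroup X] [Module R X] [Module S X] [IsScalarTower R S X]
  [AddCommGroup Y] [Module R Y] [Module S Y] [IsScalarTower R S Y]

variable (R T S ST) in
/-- naturality of `cancelBaseChange` -/
theorem cancel_natural (f : X →ₗ[S] Y) (z : ST ⊗[S] X) :
    Algebra.IsPushout.cancelBaseChange R T S ST Y (f.baseChange ST z) =
      (f.restrictScalars R).lTensor T (Algebra.IsPushout.cancelBaseChange R T S ST X z) := by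
  obtain ⟨w, rfl⟩ := (Algebra.IsPushout.cancelBaseChange R T S ST X).symm.surjective z
  rw [LinearEquiv.apply_symm_apply]
  induction w using TensorProduct.induction_on with
  | zero => simp
  | tmul t x =>
    rw [Algebra.IsPushout.cancelBaseChange_symm_tmul, LinearMap.baseChange_tmul,
      LinearMap.lTensor_tmul, ← Algebra.IsPushout.cancelBaseChange_symm_tmul R T S ST Y,
      LinearEquiv.apply_symm_apply]
    rfl
  | add a b ha hb => rw [map_add, map_add, map_add, ha, hb, map_add]

variable (R T S ST) in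
theorem baseChange_injective_of_lTensor_injective (f : X →ₗ[S] Y)
    (h : Function.Injective ((f.restrictScalars R).lTensor T)) :
    Function.Injective (f.baseChange ST) := by
  intro z₁ z₂ hz
  apply (Algebra.IsPushout.cancelBaseChange R T S ST X).injective
  apply h
  rw [← cancel_natural, ← cancel_natural, hz]

end Cancel


section Ker

/-- If `L` is flat over the base `R` and `ST ⊗[S] L` is finitely presented over `ST`, then for a
surjection `π : F → L` from a finite `S`-module, `ST ⊗[S] ker π` is finite over `ST`. -/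
theorem finite_relBaseChange_ker (R T S ST : Type*) [CommRing R] [CommRing T] [CommRing S] [CommRing ST]
    [Algebra R T] [Algebra R S] [Algebra T ST] [Algebra S ST] [Algebra R ST]
    [IsScalarTower R T ST] [IsScalarTower R S ST] [Algebra.IsPushout R T S ST]
    {F L : Type*} [AddCommGroup F] [Module S F] [Module R F]
    [IsScalarTower R S F] [Module.Finite S F]
    [AddCommGroup L] [Module S L] [Module R L] [IsScalarTower R S L] [Module.Flat R L]
    [Module.FinitePresentation ST (ST ⊗[S] L)]
    (π : F →ₗ[S] L) (hπ : Function.Surjective π) :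
    Module.Finite ST (ST ⊗[S] LinearMap.ker π) := by
  set Z := LinearMap.ker π
  have hinjR : Function.Injective ((Z.subtype.restrictScalars R).lTensor T) :=
    LinearMap.lTensor_injective_of_exact_of_flat (π.restrictScalars R) hπ
      (Z.subtype.restrictScalars R) Z.subtype_injective
      (LinearMap.exact_subtype_ker_map π) T
  have hinj : Function.Injective (Z.subtype.baseChange ST) :=
    baseChange_injective_of_lTensor_injective R T S ST Z.subtype hinjR
  have hsurj : Function.Surjective (π.baseChange ST) :=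
    LinearMap.lTensor_surjective ST hπ
  have hex : Function.Exact (Z.subtype.baseChange ST) (π.baseChange ST) :=
    lTensor_exact ST (LinearMap.exact_subtype_ker_map π) hπ
  have hfg : (LinearMap.ker (π.baseChange ST)).FG :=
    Module.FinitePresentation.fg_ker (π.baseChange ST) hsurj
  have hrange : LinearMap.range (Z.subtype.baseChange ST) = LinearMap.ker (π.baseChange ST) :=
    (LinearMap.exact_iff.mp hex).symm
  rw [← hrange] at hfg
  have : Module.Finite ST (LinearMap.range (Z.subtype.baseChange ST)) :=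
    Module.Finite.iff_fg.mpr hfg
  exact Module.Finite.equiv (LinearEquiv.ofInjective (Z.subtype.baseChange ST) hinj).symm

end Ker

section Rel

variable {B' B A' A : Type u} [CommRing B'] [CommRing B] [CommRing A'] [CommRing A]
    [Algebra B' B] [Algebra B' A'] [Algebra B A] [Algebra A' A] [Algebra B' A] [IsScalarTower B' B A] [IsScalarTower B' A' A]
    (hsq : EtMil.IsFibreSquare B' B A' A)
    {D' D C' : Type u} [CommRing D'] [CommRing D] [CommRing C']
    [Algebra B' D'] [Algebra B D] [Algebra A' C'] [Algebra D' D] [Algebra D' C']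
    [Algebra B' D] [IsScalarTower B' B D] [IsScalarTower B' D' D]
    [Algebra B' C'] [IsScalarTower B' A' C'] [IsScalarTower B' D' C']
    [Algebra.IsPushout B' B D' D] [Algebra.IsPushout B' A' D' C']

include hsq in
variable (D C') in
/-- Relative finiteness over a Milnor square. -/
theorem relFinite (L : Type u) [AddCommGroup L] [Module D' L] [Module B' L] [IsScalarTower B' D' L]
    [Module.Finite D (D ⊗[D'] L)] [Module.Finite C' (C' ⊗[D'] L)] : Module.Finite D' L := by
  obtain ⟨N₁, hN₁, h₁⟩ := exists_fg_tensor_quotient_subsingleton D' D L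
  obtain ⟨N₂, hN₂, h₂⟩ := exists_fg_tensor_quotient_subsingleton D' C' L
  have hfg : (N₁ ⊔ N₂).FG := hN₁.sup hN₂
  haveI := h₁ (N₁ ⊔ N₂) le_sup_left
  haveI := h₂ (N₁ ⊔ N₂) le_sup_right
  haveI : Subsingleton (B ⊗[B'] (L ⧸ (N₁ ⊔ N₂))) :=
    (Algebra.IsPushout.cancelBaseChange B' B D' D (L ⧸ (N₁ ⊔ N₂))).symm.toEquiv.subsingleton
  haveI : Subsingleton (A' ⊗[B'] (L ⧸ (N₁ ⊔ N₂))) :=
    (Algebra.IsPushout.cancelBaseChange B' A' D' C' (L ⧸ (N₁ ⊔ N₂))).symm.toEquiv.subsingleton
  have hsub : Subsingleton (L ⧸ (N₁ ⊔ N₂)) := subsingleton_of_tensor (L ⧸ (N₁ ⊔ N₂)) hsq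
  have htop : N₁ ⊔ N₂ = ⊤ := Submodule.Quotient.subsingleton_iff.mp hsub
  rw [htop] at hfg
  exact ⟨hfg⟩

include hsq in
variable (D C') in
/-- Relative finite presentation over a Milnor square, for modules flat over the base. -/
theorem relFP (L : Type u) [AddCommGroup L] [Module D' L] [Module B' L] [IsScalarTower B' D' L]
    [Module.Flat B' L]
    [Module.FinitePresentation D (D ⊗[D'] L)] [Module.FinitePresentation C' (C' ⊗[D'] L)] :
    Module.FinitePresentation D' L := by
  haveI : Module.Finite D' L := relFinite hsq D C' L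
  obtain ⟨n, π, hπ⟩ := Module.Finite.exists_fin' D' L
  haveI h1 : Module.Finite D (D ⊗[D'] LinearMap.ker π) :=
    finite_relBaseChange_ker B' B D' D π hπ
  haveI h2 : Module.Finite C' (C' ⊗[D'] LinearMap.ker π) :=
    finite_relBaseChange_ker B' A' D' C' π hπ
  haveI : Module.Finite D' (LinearMap.ker π) := relFinite hsq D C' _
  exact Module.finitePresentation_of_surjective π hπ (Module.Finite.iff_fg.mp inferInstance)

end Rel


theorem isPushout_BADC (B' B A D' D C : Type*) [CommRing B'] [CommRing B] [CommRing A]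
    [CommRing D'] [CommRing D] [CommRing C]
    [Algebra B' B] [Algebra B A] [Algebra B' A] [IsScalarTower B' B A]
    [Algebra B' D'] [Algebra B D] [Algebra A C]
    [Algebra D' D] [Algebra B' D] [IsScalarTower B' B D] [IsScalarTower B' D' D]
    [Algebra.IsPushout B' B D' D]
    [Algebra D' C] [Algebra B' C] [IsScalarTower B' A C] [IsScalarTower B' D' C]
    [Algebra.IsPushout B' A D' C]
    [Algebra D C] [IsScalarTower D' D C] [Algebra B C] [IsScalarTower B A C] [IsScalarTower B D C] :
    Algebra.IsPushout B A D C := by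
  haveI : IsScalarTower B' D C := IsScalarTower.of_algebraMap_eq fun x => by
    rw [IsScalarTower.algebraMap_apply B' D' C, IsScalarTower.algebraMap_apply D' D C,
      ← IsScalarTower.algebraMap_apply B' D' D]
  exact (Algebra.IsPushout.comp_iff B' B D' (S' := D) (T := A) (T' := C)).mp inferInstance

section Cube

variable {B' B A' A : Type u} [CommRing B'] [CommRing B] [CommRing A'] [CommRing A]
    [Algebra B' B] [Algebra B' A'] [Algebra B A] [Algebra A' A] [Algebra B' A] [IsScalarTower B' B A] [IsScalarTower B' A' A]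
    {D' D C' C : Type u} [CommRing D'] [CommRing D] [CommRing C'] [CommRing C]
    [Algebra B' D'] [Algebra B D] [Algebra A' C'] [Algebra A C]
    [Algebra D' D] [Algebra B' D] [IsScalarTower B' B D] [IsScalarTower B' D' D]
    [Algebra D' C'] [Algebra B' C'] [IsScalarTower B' A' C'] [IsScalarTower B' D' C']
    [Algebra D' C] [Algebra B' C] [IsScalarTower B' A C] [IsScalarTower B' D' C]
    [Algebra D C] [IsScalarTower D' D C] [Algebra B C] [IsScalarTower B A C] [IsScalarTower B D C]
    [Algebra C' C] [IsScalarTower D' C' C] [Algebra A' C] [IsScalarTower A' A C] [IsScalarTower A' C' C]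
    [Algebra.IsPushout B A D C] [Algebra.IsPushout A' A C' C]
    {N M' : Type u} [AddCommGroup N] [Module D N] [Module D' N] [IsScalarTower D' D N]
    [AddCommGroup M'] [Module C' M'] [Module D' M'] [IsScalarTower D' C' M']
    [Module B N] [IsScalarTower B D N] [Module A' M'] [IsScalarTower A' C' M']
    [Module B' N] [IsScalarTower B' D' N] [IsScalarTower B' B N]
    [Module B' M'] [IsScalarTower B' D' M'] [IsScalarTower B' A' M']
    (φ : C ⊗[D] N ≃ₗ[C] C ⊗[C'] M')

variable (B A' A) in
/-- The gluing datum over the base square induced by a gluing datum over the top square. -/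
noncomputable def φ' : A ⊗[B] N ≃ₗ[A] A ⊗[A'] M' :=
  (Algebra.IsPushout.cancelBaseChange B A D C N).symm ≪≫ₗ φ.restrictScalars A ≪≫ₗ
    Algebra.IsPushout.cancelBaseChange A' A C' C M'

theorem φ'_one_tmul (n : N) :
    φ' B A' A φ ((1 : A) ⊗ₜ[B] n) = Algebra.IsPushout.cancelBaseChange A' A C' C M' (φ ((1 : C) ⊗ₜ[D] n)) := by
  simp only [φ', LinearEquiv.trans_apply, Algebra.IsPushout.cancelBaseChange_symm_tmul, map_one]
  rfl

theorem φ'_iff (n : N) (m' : M') :
    φ' B A' A φ ((1 : A) ⊗ₜ[B] n) = (1 : A) ⊗ₜ[A'] m' ↔ φ ((1 : C) ⊗ₜ[D] n) = (1 : C) ⊗ₜ[C'] m' := by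
  rw [φ'_one_tmul, ← Algebra.IsPushout.cancelBaseChange_tmul A' A C' C M' m']
  exact (Algebra.IsPushout.cancelBaseChange A' A C' C M').injective.eq_iff

theorem mem_glue_iff (x : N × M') : x ∈ EtMil.glue B' (φ' B A' A φ) ↔ x ∈ EtMil.glue D' φ :=
  φ'_iff φ x.1 x.2

/-- The identity map between the two glued modules. -/
noncomputable def ident : ↥(EtMil.glue D' φ) ≃ₗ[B'] ↥(EtMil.glue B' (φ' B A' A φ)) where
  toFun x := ⟨x.1, (mem_glue_iff φ x.1).mpr x.2⟩
  invFun x := ⟨x.1, (mem_glue_iff φ x.1).mp x.2⟩
  map_add' x y := rfl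
  map_smul' r x := rfl
  left_inv x := rfl
  right_inv x := rfl


section Bij

variable [Algebra.IsPushout B' B D' D] [Algebra.IsPushout B' A' D' C']

theorem g₁_comp (z : B ⊗[B'] ↥(EtMil.glue D' φ)) :
    Groth.Agent.S2019.g₁ D' φ ((Algebra.IsPushout.cancelBaseChange B' B D' D ↥(EtMil.glue D' φ)).symm z) =
      Groth.Agent.S2019.g₁ B' (φ' B A' A φ) ((ident φ).toLinearMap.lTensor B z) := by
  induction z using TensorProduct.induction_on with
  | zero => simp
  | tmul b ν =>
    rw [Algebra.IsPushout.cancelBaseChange_symm_tmul, LinearMap.lTensor_tmul,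
      Groth.Agent.S2019.g₁_tmul, Groth.Agent.S2019.g₁_tmul, algebraMap_smul]
    rfl
  | add a b ha hb => rw [map_add, map_add, map_add, map_add, ha, hb]

theorem g₂_comp (z : A' ⊗[B'] ↥(EtMil.glue D' φ)) :
    Groth.Agent.S2019.g₂ D' φ ((Algebra.IsPushout.cancelBaseChange B' A' D' C' ↥(EtMil.glue D' φ)).symm z) =
      Groth.Agent.S2019.g₂ B' (φ' B A' A φ) ((ident φ).toLinearMap.lTensor A' z) := by
  induction z using TensorProduct.induction_on with
  | zero => simp
  | tmul b ν =>
    rw [Algebra.IsPushout.cancelBaseChange_symm_tmul, LinearMap.lTensor_tmul,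
      Groth.Agent.S2019.g₂_tmul, Groth.Agent.S2019.g₂_tmul, algebraMap_smul]
    rfl
  | add a b ha hb => rw [map_add, map_add, map_add, map_add, ha, hb]

variable (hsq : EtMil.IsFibreSquare B' B A' A)

include hsq in
theorem g₁_bijective : Function.Bijective (Groth.Agent.S2019.g₁ D' φ) := by
  have h1 : Function.Bijective (fun z : B ⊗[B'] ↥(EtMil.glue D' φ) =>
      Groth.Agent.S2019.g₁ B' (φ' B A' A φ) ((ident φ).toLinearMap.lTensor B z)) :=
    (Groth.Agent.S2019.g₁_bij hsq (φ' B A' A φ)).comp
      ((LinearEquiv.lTensor B (ident φ)).bijective)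
  have h2 : (fun z : B ⊗[B'] ↥(EtMil.glue D' φ) =>
      Groth.Agent.S2019.g₁ D' φ
        ((Algebra.IsPushout.cancelBaseChange B' B D' D ↥(EtMil.glue D' φ)).symm z)) =
      fun z => Groth.Agent.S2019.g₁ B' (φ' B A' A φ) ((ident φ).toLinearMap.lTensor B z) :=
    funext (g₁_comp φ)
  rw [← h2] at h1
  exact (Function.Bijective.of_comp_iff _
    (Algebra.IsPushout.cancelBaseChange B' B D' D ↥(EtMil.glue D' φ)).symm.bijective).mp h1

include hsq in
theorem g₂_bijective : Function.Bijective (Groth.Agent.S2019.g₂ D' φ) := by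
  have h1 : Function.Bijective (fun z : A' ⊗[B'] ↥(EtMil.glue D' φ) =>
      Groth.Agent.S2019.g₂ B' (φ' B A' A φ) ((ident φ).toLinearMap.lTensor A' z)) :=
    (show Function.Bijective (Groth.Agent.S2019.g₂ B' (φ' B A' A φ)) from
      ⟨Groth.Agent.S2019.g₂_inj hsq (φ' B A' A φ), Groth.Agent.S2019.g₂_surj hsq (φ' B A' A φ)⟩).comp
      ((LinearEquiv.lTensor A' (ident φ)).bijective)
  have h2 : (fun z : A' ⊗[B'] ↥(EtMil.glue D' φ) =>
      Groth.Agent.S2019.g₂ D' φ
        ((Algebra.IsPushout.cancelBaseChange B' A' D' C' ↥(EtMil.glue D' φ)).symm z)) =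
      fun z => Groth.Agent.S2019.g₂ B' (φ' B A' A φ) ((ident φ).toLinearMap.lTensor A' z) :=
    funext (g₂_comp φ)
  rw [← h2] at h1
  exact (Function.Bijective.of_comp_iff _
    (Algebra.IsPushout.cancelBaseChange B' A' D' C' ↥(EtMil.glue D' φ)).symm.bijective).mp h1

end Bij

end Cube


section Main

variable {B' B A' A : Type u} [CommRing B'] [CommRing B] [CommRing A'] [CommRing A]
    [Algebra B' B] [Algebra B' A'] [Algebra B A] [Algebra A' A] [Algebra B' A] [IsScalarTower B' B A] [IsScalarTower B' A' A]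
    (hsq : EtMil.IsFibreSquare B' B A' A)
    {D' D C' C : Type u} [CommRing D'] [CommRing D] [CommRing C'] [CommRing C]
    [Algebra B' D'] [Algebra B D] [Algebra A' C'] [Algebra A C]
    [Algebra D' D] [Algebra B' D] [IsScalarTower B' B D] [IsScalarTower B' D' D] [Algebra.IsPushout B' B D' D]
    [Algebra D' C'] [Algebra B' C'] [IsScalarTower B' A' C'] [IsScalarTower B' D' C'] [Algebra.IsPushout B' A' D' C']
    [Algebra D' C] [Algebra B' C] [IsScalarTower B' A C] [IsScalarTower B' D' C] [Algebra.IsPushout B' A D' C]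
    [Algebra D C] [IsScalarTower D' D C] [Algebra B C] [IsScalarTower B A C] [IsScalarTower B D C]
    [Algebra C' C] [IsScalarTower D' C' C] [Algebra A' C] [IsScalarTower A' A C] [IsScalarTower A' C' C]
    {N M' : Type u} [AddCommGroup N] [Module D N] [Module D' N] [IsScalarTower D' D N]
    [AddCommGroup M'] [Module C' M'] [Module D' M'] [IsScalarTower D' C' M']
    [Module B N] [IsScalarTower B D N] [Module A' M'] [IsScalarTower A' C' M']
    [Module B' N] [IsScalarTower B' D' N] [IsScalarTower B' B N]
    [Module B' M'] [IsScalarTower B' D' M'] [IsScalarTower B' A' M']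
    (φ : C ⊗[D] N ≃ₗ[C] C ⊗[C'] M')

include hsq in
/-- flatness of the relative glued module over the base `B'` -/
theorem glue_flat_base [Module.Flat B N] [Module.Flat A' M'] :
    Module.Flat B' ↥(EtMil.glue D' φ) := by
  haveI : Algebra.IsPushout B A D C := isPushout_BADC B' B A D' D C
  haveI : Algebra.IsPushout A' A C' C := isPushout_BADC B' A' A D' C' C
  haveI : Module.Flat B' ↥(EtMil.glue B' (φ' B A' A φ)) := glue_flat (φ' B A' A φ) hsq
  exact Module.Flat.of_linearEquiv (ident (B' := B') (B := B) (A' := A') (A := A) φ)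

include hsq in
/-- finiteness of the relative glued module over `D'` -/
theorem glue_finite_rel [Module.Finite D N] [Module.Finite C' M'] :
    Module.Finite D' ↥(EtMil.glue D' φ) := by
  haveI : Algebra.IsPushout B A D C := isPushout_BADC B' B A D' D C
  haveI : Algebra.IsPushout A' A C' C := isPushout_BADC B' A' A D' C' C
  haveI : Module.Finite D (D ⊗[D'] ↥(EtMil.glue D' φ)) :=
    Module.Finite.equiv (LinearEquiv.ofBijective (Groth.Agent.S2019.g₁ D' φ) (g₁_bijective φ hsq)).symm
  haveI : Module.Finite C' (C' ⊗[D'] ↥(EtMil.glue D' φ)) :=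
    Module.Finite.equiv (LinearEquiv.ofBijective (Groth.Agent.S2019.g₂ D' φ) (g₂_bijective φ hsq)).symm
  exact relFinite hsq D C' _

include hsq in
/-- finite presentation of the relative glued module over `D'` -/
theorem glue_fp_rel [Module.FinitePresentation D N] [Module.Flat B N]
    [Module.FinitePresentation C' M'] [Module.Flat A' M'] :
    Module.FinitePresentation D' ↥(EtMil.glue D' φ) := by
  haveI : Algebra.IsPushout B A D C := isPushout_BADC B' B A D' D C
  haveI : Algebra.IsPushout A' A C' C := isPushout_BADC B' A' A D' C' C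
  haveI : Module.Flat B' ↥(EtMil.glue D' φ) := glue_flat_base hsq φ
  haveI : Module.FinitePresentation D (D ⊗[D'] ↥(EtMil.glue D' φ)) :=
    Module.FinitePresentation.of_equiv
      (LinearEquiv.ofBijective (Groth.Agent.S2019.g₁ D' φ) (g₁_bijective φ hsq)).symm
  haveI : Module.FinitePresentation C' (C' ⊗[D'] ↥(EtMil.glue D' φ)) :=
    Module.FinitePresentation.of_equiv
      (LinearEquiv.ofBijective (Groth.Agent.S2019.g₂ D' φ) (g₂_bijective φ hsq)).symm
  exact relFP hsq D C' _

end Main

end H9PO.MilRel
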