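import Mathlib

universe v u

open CategoryTheory Limits

namespace H9PO

namespace PBMap

variable {C : Type u} [Category.{v} C] [HasPullbacks C]

/-- the square formed by `pullback.map` over identities is a pullback -/
lemma isPullback_map {X P S T : C} (t : X ⟶ S) (s : P ⟶ S) (g : T ⟶ S) (a : X ⟶ P)
    (h1 : t ≫ 𝟙 S = a ≫ s) (h2 : g ≫ 𝟙 S = 𝟙 T ≫ g) :
    IsPullback (pullback.fst t g) (pullback.map t g s g a (𝟙 T) (𝟙 S) h1 h2) a
      (pullback.fst s g) := by
  have ht : a ≫ s = t := by rw [← h1, Category.comp_id]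
  have hsnd : pullback.map t g s g a (𝟙 T) (𝟙 S) h1 h2 ≫ pullback.snd s g = pullback.snd t g := by
    rw [pullback.lift_snd, Category.comp_id]
  have big : IsPullback (pullback.fst t g)
      (pullback.map t g s g a (𝟙 T) (𝟙 S) h1 h2 ≫ pullback.snd s g) (a ≫ s) g := by
    rw [hsnd, ht]
    exact IsPullback.of_hasPullback t g
  exact IsPullback.of_bot big (by rw [pullback.lift_fst]) (IsPullback.of_hasPullback s g)

/-- the square formed by `pullback.lift (fst ≫ a) snd` is a pullback -/
lemma isPullback_lift {X P S T : C} (t : X ⟶ S) (s : P ⟶ S) (g : T ⟶ S) (a : X ⟶ P)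
    (ht : a ≫ s = t) (w : (pullback.fst t g ≫ a) ≫ s = pullback.snd t g ≫ g) :
    IsPullback (pullback.fst t g) (pullback.lift (pullback.fst t g ≫ a) (pullback.snd t g) w) a
      (pullback.fst s g) := by
  have hsnd : pullback.lift (pullback.fst t g ≫ a) (pullback.snd t g) w ≫ pullback.snd s g =
      pullback.snd t g := pullback.lift_snd _ _ _
  have big : IsPullback (pullback.fst t g)
      (pullback.lift (pullback.fst t g ≫ a) (pullback.snd t g) w ≫ pullback.snd s g) (a ≫ s) g := by
    rw [hsnd, ht]
    exact IsPullback.of_hasPullback t g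
  exact IsPullback.of_bot big (by rw [pullback.lift_fst]) (IsPullback.of_hasPullback s g)

end PBMap

end H9PO
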