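import Mathlib
import Groth.Agent.Lib.Helper9.PO.CC

universe u

open AlgebraicGeometry CategoryTheory Opposite TopologicalSpace Limits

namespace H9PO

namespace PinchC

open H9Ferrand H9ThickAff

variable {X Y T Z : Scheme.{u}} (f : X ⟶ Y) (t : T ⟶ Y) (ξ : Z ⟶ T) (ι : Z ⟶ X)
  [IsAffineHom t] [IsClosedImmersion ι]

include f in
lemma covers (hsq : ι ≫ f = ξ ≫ t)
    (hstd : ∀ y : Y, ∃ U : Y.Opens, IsAffineOpen U ∧ y ∈ U ∧ ∃ V : X.Opens, IsAffineOpen V ∧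
      V ≤ f ⁻¹ᵁ U ∧ ∀ z : Z, (ξ ≫ t).base z ∈ U → ι.base z ∈ V) : Covers ι ξ := by
  have key : ∀ y : Y, ∃ c : Chart ι ξ, (∀ z : Z, (ξ ≫ t) z = y → ι z ∈ c.U) ∧
      ∀ w : T, t w = y → w ∈ c.V := by
    intro y
    obtain ⟨U, hU, hyU, V, hV, hVU, hz⟩ := hstd y
    have e : ι ⁻¹ᵁ V = ξ ⁻¹ᵁ (t ⁻¹ᵁ U) := by
      ext z
      constructor
      · intro hzV
        have h1 : f (ι z) ∈ U := hVU hzV
        have h2 : f (ι z) = t (ξ z) := by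
          have := congr($(hsq) z)
          exact this
        rw [h2] at h1
        exact h1
      · intro hzU
        exact hz z hzU
    refine ⟨⟨⟨V, t ⁻¹ᵁ U, e⟩, hV, hU.preimage t⟩, ?_, ?_⟩
    · rintro z rfl
      exact hz z hyU
    · rintro w rfl
      exact hyU
  refine ⟨fun x => ?_, fun w => ?_⟩
  · by_cases hx : x ∈ Set.range ι
    · obtain ⟨z, rfl⟩ := hx
      obtain ⟨c, hc, -⟩ := key ((ξ ≫ t) z)
      exact ⟨c, hc z rfl⟩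
    · exact CC.exists_chart_X ι ξ x hx
  · obtain ⟨c, -, hc⟩ := key (t w)
    exact ⟨c, hc w rfl⟩

include f in
theorem main (hsq : ι ≫ f = ξ ≫ t)
    (hstd : ∀ y : Y, ∃ U : Y.Opens, IsAffineOpen U ∧ y ∈ U ∧ ∃ V : X.Opens, IsAffineOpen V ∧
      V ≤ f ⁻¹ᵁ U ∧ ∀ z : Z, (ξ ≫ t).base z ∈ U → ι.base z ∈ V) :
    ∃ (P : Scheme.{u}) (a : X ⟶ P) (b : T ⟶ P), IsPushout ι ξ a b := by
  obtain ⟨P, a, b, h1, -⟩ := exists_pushout (covers f t ξ ι hsq hstd)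
  exact ⟨P, a, b, h1⟩

end PinchC

end H9PO
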